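import Groth.Agent.Lib.Brauer25.Semisimple
import Mathlib.LinearAlgebra.Dimension.Constructions
import Mathlib.RingTheory.Flat.Equalizer

/-!
Dimensions of principal right ideals in matrix algebras.
-/

namespace Groth.Agent.Brauer25

open scoped TensorProduct
open Module (finrank)

universe u v w

variable {k : Type u} [Field k]

/-- `M ↦ x * M` on `m × p` matrices has range `p` copies of the column space. -/
theorem finrank_range_mulLeft {m : Type*} [Fintype m] [DecidableEq m] {D : Type v} [Ring D] [Algebra k D]
    [FiniteDimensional k D] (x : Matrix m m D) :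
    finrank k (LinearMap.range (LinearMap.mulLeft k x)) =
      Fintype.card m * finrank k (LinearMap.range
        ({ toFun := fun v => x.mulVec v
           map_add' := fun v w => Matrix.mulVec_add x v w
           map_smul' := fun c v => Matrix.mulVec_smul x c v } : (m → D) →ₗ[k] (m → D))) := by
  set φ : (m → D) →ₗ[k] (m → D) :=
    { toFun := fun v => x.mulVec v
      map_add' := fun v w => Matrix.mulVec_add x v w
      map_smul' := fun c v => Matrix.mulVec_smul x c v }
  let cols : Matrix m m D ≃ₗ[k] (m → m → D) :=
    { toFun := fun M j i => M i j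
      map_add' := fun _ _ => rfl
      map_smul' := fun _ _ => rfl
      invFun := fun c => Matrix.of fun i j => c j i
      left_inv := fun _ => rfl
      right_inv := fun _ => rfl }
  let e : LinearMap.range (LinearMap.mulLeft k x) ≃ₗ[k] (m → LinearMap.range φ) :=
    { toFun := fun M j => ⟨cols M.1 j, by
        obtain ⟨N, hN⟩ := M.2
        exact ⟨cols N j, by rw [← hN]; funext i; rfl⟩⟩
      map_add' := fun _ _ => rfl
      map_smul' := fun _ _ => rfl
      invFun := fun c => ⟨cols.symm fun j => (c j).1, by
        choose v hv using fun j => (c j).2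
        refine ⟨cols.symm v, ?_⟩
        ext i j
        exact congrFun (hv j) i⟩
      left_inv := fun _ => rfl
      right_inv := fun _ => rfl }
  rw [e.finrank_eq, Module.finrank_pi_fintype, Finset.sum_const, Finset.card_univ, smul_eq_mul]

/-- Over a division algebra the column space has dimension a multiple of `finrank D`. -/
theorem finrank_dvd_range_mulVec {m : Type*} [Fintype m] [DecidableEq m] {D : Type v} [DivisionRing D]
    [Algebra k D] [FiniteDimensional k D] (x : Matrix m m D) :
    finrank k D ∣ finrank k (LinearMap.range
        ({ toFun := fun v => x.mulVec v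
           map_add' := fun v w => Matrix.mulVec_add x v w
           map_smul' := fun c v => Matrix.mulVec_smul x c v } : (m → D) →ₗ[k] (m → D))) := by
  let ψ : (m → D) →ₗ[Dᵐᵒᵖ] (m → D) :=
    { toFun := fun v => x.mulVec v
      map_add' := fun v w => Matrix.mulVec_add x v w
      map_smul' := fun c v => Matrix.mulVec_smul x c v }
  refine ⟨finrank Dᵐᵒᵖ (LinearMap.range ψ), ?_⟩
  rw [(MulOpposite.opLinearEquiv k : D ≃ₗ[k] Dᵐᵒᵖ).finrank_eq, Module.finrank_mul_finrank k Dᵐᵒᵖ]
  rfl

/-- If `B ≅ Mₘ(D)` then the dimension of `x B` is a multiple of `m * dim D`. -/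
theorem mul_finrank_dvd_range_mulLeft {B : Type w} [Ring B] [Algebra k B] {D : Type v} [DivisionRing D]
    [Algebra k D] [FiniteDimensional k D] {m : ℕ} (e : B ≃ₐ[k] Matrix (Fin m) (Fin m) D) (x : B) :
    m * finrank k D ∣ finrank k (LinearMap.range (LinearMap.mulLeft k x)) := by
  have h : (LinearMap.range (LinearMap.mulLeft k x)).map e.toLinearEquiv.toLinearMap =
      LinearMap.range (LinearMap.mulLeft k (e x)) := by
    ext M
    constructor
    · rintro ⟨_, ⟨y, rfl⟩, rfl⟩
      exact ⟨e y, by simp⟩
    · rintro ⟨N, rfl⟩
      exact ⟨x * e.symm N, ⟨e.symm N, rfl⟩, by simp⟩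
  have h2 : finrank k (LinearMap.range (LinearMap.mulLeft k x)) =
      finrank k (LinearMap.range (LinearMap.mulLeft k (e x))) := by
    rw [← h]
    exact (e.toLinearEquiv.submoduleMap _).finrank_eq
  rw [h2, finrank_range_mulLeft, Fintype.card_fin]
  exact Nat.mul_dvd_mul_left m (finrank_dvd_range_mulVec (e x))

/-- Ranks are unchanged by base change. -/
theorem finrank_range_baseChange {A : Type v} [AddCommGroup A] [Module k A] [FiniteDimensional k A]
    (L : Type w) [Field L] [Algebra k L] (f : A →ₗ[k] A) :
    finrank k (LinearMap.range f) = finrank L (LinearMap.range (LinearMap.baseChange L f)) := by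
  have h1 := LinearMap.finrank_range_add_finrank_ker f
  have h2 := LinearMap.finrank_range_add_finrank_ker (LinearMap.baseChange L f)
  have h3 : finrank k (LinearMap.ker f) = finrank L (LinearMap.ker (LinearMap.baseChange L f)) := by
    rw [← Module.finrank_baseChange (R := L), (LinearMap.tensorKerEquiv L L f).finrank_eq]
    rfl
  rw [Module.finrank_baseChange] at h2
  omega

end Groth.Agent.Brauer25
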