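import Groth.Agent.Lib.Brauer25.PiTensor
import Groth.Agent.Lib.Brauer25.RightIdeal
import Mathlib.GroupTheory.Perm.Sign
import Mathlib.Data.Fintype.Powerset
import Mathlib.Data.Finset.Sort
import Mathlib.Data.Fin.Tuple.Sort

/-!
The antisymmetrizer in a tensor power of a central simple algebra.
-/

namespace Groth.Agent.Brauer25

open scoped TensorProduct
open Module (finrank)
open Equiv (Perm)

universe u v w

variable {r d : ℕ} {E : Type w} [Field E]

/-- The permutation matrix on `r`-tuples. -/
def permMat (σ : Perm (Fin r)) : Matrix (Fin r → Fin d) (Fin r → Fin d) E :=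
  Matrix.of fun I J => if J = I ∘ σ then 1 else 0

theorem permMat_one : permMat (1 : Perm (Fin r)) = (1 : Matrix (Fin r → Fin d) (Fin r → Fin d) E) := by
  ext I J
  simp [permMat, Matrix.one_apply, eq_comm]

theorem permMat_mul (σ τ : Perm (Fin r)) :
    permMat σ * permMat τ = (permMat (σ * τ) : Matrix (Fin r → Fin d) (Fin r → Fin d) E) := by
  ext I J
  simp only [permMat, Matrix.mul_apply, Matrix.of_apply, ite_mul, one_mul, zero_mul, Finset.sum_ite_eq',
    Finset.mem_univ, if_true]
  rfl

theorem permMat_mulVec (σ : Perm (Fin r)) (v : (Fin r → Fin d) → E) (I : Fin r → Fin d) :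
    (permMat σ).mulVec v I = v (I ∘ σ) := by
  simp [Matrix.mulVec, dotProduct, permMat]

variable (r d E) in
/-- The antisymmetrizer. -/
noncomputable def antisym : Matrix (Fin r → Fin d) (Fin r → Fin d) E :=
  ∑ σ : Perm (Fin r), ((Perm.sign σ : ℤ) : E) • permMat σ

theorem antisym_mulVec (v : (Fin r → Fin d) → E) (I : Fin r → Fin d) :
    (antisym r d E).mulVec v I = ∑ σ : Perm (Fin r), ((Perm.sign σ : ℤ) : E) * v (I ∘ σ) := by
  simp [antisym, Matrix.sum_mulVec, Matrix.smul_mulVec, permMat_mulVec]

theorem antisym_mulVec_comp (v : (Fin r → Fin d) → E) (I : Fin r → Fin d) (τ : Perm (Fin r)) :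
    (antisym r d E).mulVec v (I ∘ τ) = ((Perm.sign τ : ℤ) : E) * (antisym r d E).mulVec v I := by
  rw [antisym_mulVec, antisym_mulVec, Finset.mul_sum]
  refine Fintype.sum_equiv (Equiv.mulLeft τ) _ _ fun σ => ?_
  simp only [Equiv.coe_mulLeft, Perm.coe_mul, map_mul, Units.val_mul, Int.cast_mul, ← mul_assoc,
    Function.comp_assoc]
  have : ((Perm.sign τ : ℤ) : E) * ((Perm.sign τ : ℤ) : E) = 1 := by
    rw [← Int.cast_mul, ← Units.val_mul, Int.units_mul_self, Units.val_one, Int.cast_one]
  rw [this, one_mul]

theorem antisym_mulVec_eq_zero (v : (Fin r → Fin d) → E) (I : Fin r → Fin d) (hI : ¬ Function.Injective I) :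
    (antisym r d E).mulVec v I = 0 := by
  obtain ⟨i, j, hij, hne⟩ := Function.not_injective_iff.mp hI
  rw [antisym_mulVec]
  refine Finset.sum_involution (fun σ _ => Equiv.swap i j * σ) (fun σ _ => ?_) (fun σ _ _ => ?_)
    (fun σ _ => Finset.mem_univ _) fun σ _ => by simp [← mul_assoc]
  · have e : I ∘ (Equiv.swap i j * σ) = I ∘ σ := by
      funext x
      simp only [Function.comp_apply, Perm.coe_mul]
      rcases eq_or_ne (σ x) i with h | h
      · rw [h, Equiv.swap_apply_left, hij]
      · rcases eq_or_ne (σ x) j with h' | h'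
        · rw [h', Equiv.swap_apply_right, hij]
        · rw [Equiv.swap_apply_of_ne_of_ne h h']
    rw [e, map_mul, Perm.sign_swap hne, neg_one_mul, Units.val_neg, Int.cast_neg, neg_mul, add_neg_cancel]
  · intro h
    exact hne (Equiv.swap_eq_one_iff.mp (mul_eq_right.mp h))

theorem finrank_range_antisym :
    finrank E (LinearMap.range (antisym r d E).mulVecLin) = Nat.choose d r := by
  classical
  let Mono := {I : Fin r → Fin d // StrictMono I}
  let res : LinearMap.range (antisym r d E).mulVecLin →ₗ[E] (Mono → E) :=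
    { toFun := fun f I => f.1 I.1
      map_add' := fun _ _ => rfl
      map_smul' := fun _ _ => rfl }
  have hinj : Function.Injective res := by
    rw [injective_iff_map_eq_zero]
    rintro ⟨f, v, rfl⟩ h
    refine Subtype.ext (funext fun I => ?_)
    show (antisym r d E).mulVec v I = 0
    by_cases hI : Function.Injective I
    · obtain ⟨σ, hσ⟩ : ∃ σ : Perm (Fin r), StrictMono (I ∘ σ) :=
        ⟨Tuple.sort I, (Tuple.monotone_sort I).strictMono_of_injective (hI.comp (Equiv.injective _))⟩
      have h0 : (antisym r d E).mulVec v (I ∘ σ) = 0 := congrFun h ⟨I ∘ σ, hσ⟩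
      have e : I = (I ∘ σ) ∘ (σ⁻¹ : Perm (Fin r)) := by funext x; simp
      rw [e, antisym_mulVec_comp, h0, mul_zero]
    · exact antisym_mulVec_eq_zero v I hI
  have hsurj : Function.Surjective res := by
    intro w
    let v : (Fin r → Fin d) → E := fun I => if h : StrictMono I then w ⟨I, h⟩ else 0
    refine ⟨⟨(antisym r d E).mulVecLin v, LinearMap.mem_range_self _ _⟩, funext fun I => ?_⟩
    show (antisym r d E).mulVec v I.1 = w I
    rw [antisym_mulVec, Finset.sum_eq_single 1 (fun σ _ hσ => ?_) (fun h => absurd (Finset.mem_univ _) h)]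
    · simp [v, I.2]
    · have : ¬ StrictMono (I.1 ∘ σ) := fun h => hσ (by
        have hmono : StrictMono σ := fun a b hab => I.2.lt_iff_lt.mp (h hab)
        refine Equiv.ext fun x => ?_
        exact (congrFun (Finset.orderEmbOfFin_unique (s := (Finset.univ : Finset (Fin r))) (by simp) (fun x => Finset.mem_univ _) hmono) x).trans
          (congrFun (Finset.orderEmbOfFin_unique (s := (Finset.univ : Finset (Fin r))) (by simp) (f := id) (fun x => Finset.mem_univ _) strictMono_id) x).symm)
      simp [v, dif_neg this]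
  let e : Mono ≃ {s : Finset (Fin d) // s.card = r} :=
    { toFun := fun I => ⟨Finset.univ.image I.1, by rw [Finset.card_image_of_injective _ I.2.injective, Finset.card_univ, Fintype.card_fin]⟩
      invFun := fun s => ⟨s.1.orderEmbOfFin s.2, (s.1.orderEmbOfFin s.2).strictMono⟩
      left_inv := fun I => Subtype.ext (Finset.orderEmbOfFin_unique _ (fun x => by simp) I.2).symm
      right_inv := fun s => Subtype.ext (by simp) }
  rw [(LinearEquiv.ofBijective res ⟨hinj, hsurj⟩).finrank_eq, Module.finrank_fintype_fun_eq_card,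
    Fintype.card_congr e, Fintype.card_finset_len, Fintype.card_fin]

variable {k : Type u} [Field k] [Algebra k E] {A : Type v} [Ring A] [Algebra k A]
  [Algebra.IsCentral k A] [IsSimpleRing A] [FiniteDimensional k A]

/-- A transposition lifts to the tensor power. -/
theorem exists_theta_eq_permMat [FiniteDimensional k E] [IsGalois k E]
    (f : E ⊗[k] A ≃ₐ[E] Matrix (Fin d) (Fin d) E) (σ : Perm (Fin r)) :
    ∃ x : ⨂[k] _i : Fin r, A, theta (fun _ : Fin r => splitHom f) x = permMat σ := by
  induction σ using Equiv.Perm.swap_induction_on with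
  | one => exact ⟨1, by rw [map_one, permMat_one]⟩
  | swap_mul τ i j hij ih =>
    obtain ⟨y, hy⟩ := ih
    obtain ⟨g, hg⟩ := exists_goldman f
    set F := splitHom f with hF
    let Φ : A ⊗[k] A →ₐ[k] ⨂[k] _i : Fin r, A :=
      Algebra.TensorProduct.lift (PiTensorProduct.singleAlgHom (R := k) (A := fun _ : Fin r => A) i)
        (PiTensorProduct.singleAlgHom (R := k) (A := fun _ : Fin r => A) j)
        fun a b => by
          simp only [PiTensorProduct.singleAlgHom_apply]
          exact Commute.tprod (Pi.mulSingle_commute (f := fun _ : Fin r => A) hij a b)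
    refine ⟨Φ g * y, ?_⟩
    rw [map_mul, hy, ← permMat_mul]
    congr 1
    ext I J
    -- entries of `Φ (a ⊗ b)`
    let δ : E := ∏ l ∈ Finset.univ \ {i, j}, if I l = J l then 1 else 0
    have key : ∀ z : A ⊗[k] A, theta (fun _ : Fin r => F) (Φ z) I J =
        sandwich F (Matrix.single (J i) (I j) 1) z (I i) (J j) * δ := by
      intro z
      induction z using TensorProduct.induction_on with
      | zero => simp
      | add p q hp hq => simp only [map_add, Matrix.add_apply, hp, hq, add_mul]
      | tmul a b =>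
        have e : Φ (a ⊗ₜ[k] b) = PiTensorProduct.tprod k
            (Pi.mulSingle i a * Pi.mulSingle j b : Fin r → A) := by
          simp [Φ]
        rw [e, theta_tprod, kron_apply, ← Finset.prod_sdiff (Finset.subset_univ {i, j}), Finset.prod_pair hij,
          sandwich_tmul, mul_comm]
        congr 1
        · have hs : ∀ (P Q : Matrix (Fin d) (Fin d) E) (a b c e : Fin d),
              (P * Matrix.single a b (1 : E) * Q : Matrix (Fin d) (Fin d) E) c e = P c a * Q b e := by
            intro P Q a b c e
            rw [Matrix.mul_assoc, Matrix.mul_apply, Finset.sum_eq_single a]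
            · simp
            · intro x _ hx
              rw [Matrix.single_mul_apply_of_ne _ _ _ _ _ hx, mul_zero]
            · simp
          simp [hs, hij, hij.symm]
        · refine Finset.prod_congr rfl fun l hl => ?_
          simp only [Finset.mem_sdiff, Finset.mem_insert, Finset.mem_singleton, not_or] at hl
          simp [Pi.mulSingle_eq_of_ne hl.2.1, Pi.mulSingle_eq_of_ne hl.2.2, Matrix.one_apply]
    rw [key, hg]
    simp only [permMat, Matrix.of_apply, Matrix.smul_apply, smul_eq_mul, Matrix.one_apply]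
    by_cases h : J = I ∘ Equiv.swap i j
    · subst h
      have hδ : δ = 1 := Finset.prod_eq_one fun l hl => by
        simp only [Finset.mem_sdiff, Finset.mem_insert, Finset.mem_singleton, not_or] at hl
        simp [Equiv.swap_apply_of_ne_of_ne hl.2.1 hl.2.2]
      simp [hδ]
    · rw [if_neg h]
      by_cases h1 : J i = I j
      · by_cases h2 : I i = J j
        · obtain ⟨l, hl⟩ := Function.ne_iff.mp h
          have hli : l ≠ i := by rintro rfl; simp [h1] at hl
          have hlj : l ≠ j := by rintro rfl; simp [h2] at hl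
          have hδ : δ = 0 := Finset.prod_eq_zero (i := l) (by simp [hli, hlj]) (by
            rw [if_neg]
            intro he
            exact hl (by simp [Equiv.swap_apply_of_ne_of_ne hli hlj, he]))
          simp [hδ]
        · simp [h2]
      · simp [Matrix.trace, Ne.symm h1, h1]

/-- In `A^{⊗ r}` some element generates a right ideal of reduced dimension `C(d, r)`. -/
theorem exists_rank_choose [FiniteDimensional k E] [IsGalois k E]
    (f : E ⊗[k] A ≃ₐ[E] Matrix (Fin d) (Fin d) E) (hd : d ≠ 0) :
    ∃ s : ⨂[k] _i : Fin r, A,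
      finrank k (LinearMap.range (LinearMap.mulLeft k s)) = Nat.choose d r * d ^ r := by
  classical
  haveI : NeZero d := ⟨hd⟩
  choose x hx using exists_theta_eq_permMat (r := r) f
  refine ⟨∑ σ : Perm (Fin r), ((Perm.sign σ : ℤ) : k) • x σ, ?_⟩
  set s := ∑ σ : Perm (Fin r), ((Perm.sign σ : ℤ) : k) • x σ with hs
  set F : Fin r → A →ₐ[k] Matrix (Fin d) (Fin d) E := fun _ => splitHom f
  have hθ : theta F s = antisym r d E := by
    rw [hs, map_sum, antisym]
    refine Finset.sum_congr rfl fun σ _ => ?_
    rw [map_smul, hx, ← algebraMap_smul E ((Perm.sign σ : ℤ) : k), map_intCast]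
  let Θ := AlgEquiv.ofBijective (thetaE F)
    (thetaE_bijective F (fun _ => span_range_splitHom f) fun _ => finrank_of_split f)
  have h1 : LinearMap.baseChange E (LinearMap.mulLeft k s) = LinearMap.mulLeft E ((1 : E) ⊗ₜ[k] s) := by
    ext x
    simp
  rw [finrank_range_baseChange E, h1]
  have h2 : Θ ((1 : E) ⊗ₜ[k] s) = antisym r d E := by
    show thetaE F ((1 : E) ⊗ₜ[k] s) = _
    rw [thetaE_tmul, one_smul, hθ]
  have h3 : (LinearMap.range (LinearMap.mulLeft E ((1 : E) ⊗ₜ[k] s))).map Θ.toLinearEquiv.toLinearMap =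
      LinearMap.range (LinearMap.mulLeft E (antisym r d E)) := by
    rw [← h2]
    ext M
    constructor
    · rintro ⟨_, ⟨y, rfl⟩, rfl⟩
      exact ⟨Θ y, by simp⟩
    · rintro ⟨N, rfl⟩
      exact ⟨_, ⟨Θ.symm N, rfl⟩, by simp⟩
  have h4 : finrank E (LinearMap.range (LinearMap.mulLeft E ((1 : E) ⊗ₜ[k] s))) =
      finrank E (LinearMap.range (LinearMap.mulLeft E (antisym r d E))) := by
    rw [← h3]
    exact (Θ.toLinearEquiv.submoduleMap _).finrank_eq
  rw [h4, finrank_range_mulLeft, Fintype.card_pi, Finset.prod_const, Finset.card_univ, Fintype.card_fin,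
    Fintype.card_fin, mul_comm]
  congr 1
  exact finrank_range_antisym

/-- The index of the `r`-th tensor power divides `C(d, r)`. -/
theorem index_dvd_choose_of_split (hdA : finrank k A = d ^ 2) (hd : d ≠ 0)
    {m : ℕ} {D : Type*} [DivisionRing D] [Algebra k D] [FiniteDimensional k D] {d' : ℕ}
    (e : (⨂[k] _i : Fin r, A) ≃ₐ[k] Matrix (Fin m) (Fin m) D) (hd' : finrank k D = d' ^ 2) :
    d' ∣ Nat.choose d r := by
  obtain ⟨K, _, _, d₀, hd₀, ⟨f⟩⟩ := CSAlg.exists_galois_splits (k := k) A
  obtain rfl : d = d₀ := Nat.pow_left_injective two_ne_zero (hdA.symm.trans (finrank_of_split f))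
  obtain ⟨s, hs⟩ := exists_rank_choose (r := r) f hd
  obtain ⟨j, hj⟩ := hs ▸ mul_finrank_dvd_range_mulLeft e s
  have hT : m * d' = d ^ r := by
    refine Nat.pow_left_injective two_ne_zero ?_
    show (m * d') ^ 2 = (d ^ r) ^ 2
    have := e.toLinearEquiv.finrank_eq
    rw [finrank_piTensor, Module.finrank_matrix, hd'] at this
    simp [hdA] at this
    rw [← pow_mul, mul_comm r 2, pow_mul, this]
    ring
  rw [hd', show m * d' ^ 2 * j = d' * j * (m * d') by ring, hT] at hj
  exact ⟨j, Nat.eq_of_mul_eq_mul_right (pow_pos (Nat.pos_of_ne_zero hd) r) hj⟩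

end Groth.Agent.Brauer25
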