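import Groth.Agent.Lib.Brauer25.Group
import Groth.Agent.Lib.Brauer25.Antisym
import Groth.Agent.Lib.CSAlg.Index
import Mathlib.Data.Nat.Choose.Lucas
import Mathlib.GroupTheory.OrderOfElement

/-!
The index of a Brauer class and its relation to the period.
-/

namespace Groth.Agent.Brauer25

open scoped TensorProduct
open Module (finrank)

universe u v w

variable {k : Type u} [Field k]

theorem exists_finrank_sq (A : Type v) [Ring A] [Algebra k A] [Algebra.IsCentral k A] [IsSimpleRing A]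
    [FiniteDimensional k A] : ∃ d : ℕ, d ≠ 0 ∧ finrank k A = d ^ 2 := by
  obtain ⟨d, hd, ⟨f⟩⟩ := CSAlg.splits_separableClosure (k := k) A
  exact ⟨d, hd, finrank_of_split f⟩

theorem degree_ne_zero {D : Type v} [Ring D] [Nontrivial D] [Algebra k D] [FiniteDimensional k D] {d : ℕ}
    (hd : finrank k D = d ^ 2) : d ≠ 0 := by
  rintro rfl
  exact (Module.finrank_pos (R := k) (M := D)).ne' (by simpa using hd)

/-- `x` is the class of a central division algebra of degree `d`. -/
def IndIs (x : Br k) (d : ℕ) : Prop :=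
  ∃ (D : Type u) (_ : DivisionRing D) (_ : Algebra k D) (_ : Algebra.IsCentral k D)
    (_ : FiniteDimensional k D), cls (k := k) D = x ∧ finrank k D = d ^ 2

theorem exists_indIs (x : Br k) : ∃ d, IndIs x d := by
  obtain ⟨C, rfl⟩ := exists_cls x
  obtain ⟨r, hr, D, i1, i2, i3, i4, ⟨e⟩⟩ :=
    CSAlg.exists_algEquiv_matrix_central_divisionRing (k := k) C.carrier
  obtain ⟨d, -, hd⟩ := exists_finrank_sq (k := k) D
  exact ⟨d, D, i1, i2, i4, i3, (cls_of_matrix hr.out e).symm, hd⟩

/-- The index of a Brauer class. -/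
noncomputable def ind (x : Br k) : ℕ := (exists_indIs x).choose

theorem indIs_ind (x : Br k) : IndIs x (ind x) := (exists_indIs x).choose_spec

/-- Division algebras with the same class are isomorphic. -/
theorem nonempty_algEquiv_of_cls_eq {D : Type v} [DivisionRing D] [Algebra k D] [Algebra.IsCentral k D]
    [FiniteDimensional k D] {D' : Type w} [DivisionRing D'] [Algebra k D'] [Algebra.IsCentral k D']
    [FiniteDimensional k D'] (h : cls (k := k) D = cls (k := k) D') : Nonempty (D ≃ₐ[k] D') := by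
  obtain ⟨n, m, hn, -, ⟨e⟩⟩ := cls_eq_iff.mp h
  exact CSAlg.nonempty_algEquiv_of_matrix hn e

theorem ind_cls_eq {D : Type v} [DivisionRing D] [Algebra k D] [Algebra.IsCentral k D]
    [FiniteDimensional k D] {d : ℕ} (hd : finrank k D = d ^ 2) : ind (cls (k := k) D) = d := by
  obtain ⟨D', _, _, _, _, hx, hd'⟩ := indIs_ind (cls (k := k) D)
  obtain ⟨e⟩ := nonempty_algEquiv_of_cls_eq hx
  exact Nat.pow_left_injective two_ne_zero (hd'.symm.trans (e.toLinearEquiv.finrank_eq.trans hd))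

theorem ind_ne_zero (x : Br k) : ind x ≠ 0 := by
  obtain ⟨D, _, _, _, _, -, hd⟩ := indIs_ind x
  exact degree_ne_zero hd

theorem size_ne_zero {A : Type v} [Ring A] [Nontrivial A] [Algebra k A] {D : Type w} [Ring D] [Algebra k D]
    {m : ℕ} (e : A ≃ₐ[k] Matrix (Fin m) (Fin m) D) : m ≠ 0 := by
  rintro rfl
  exact not_subsingleton A e.toEquiv.subsingleton

theorem ind_cls_of_matrix {A : Type v} [Ring A] [Algebra k A] [Algebra.IsCentral k A] [IsSimpleRing A]
    [FiniteDimensional k A] {D : Type w} [DivisionRing D] [Algebra k D] [Algebra.IsCentral k D]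
    [FiniteDimensional k D] {m : ℕ} (e : A ≃ₐ[k] Matrix (Fin m) (Fin m) D) {d : ℕ}
    (hd : finrank k D = d ^ 2) : ind (cls (k := k) A) = d := by
  rw [cls_of_matrix (size_ne_zero e) e, ind_cls_eq hd]

theorem ind_one : ind (1 : Br k) = 1 := by
  rw [← cls_self]
  exact ind_cls_eq (by simp)

theorem ind_eq_one_iff {x : Br k} : ind x = 1 ↔ x = 1 := by
  refine ⟨fun h => ?_, fun h => h ▸ ind_one⟩
  obtain ⟨D, _, _, _, _, rfl, hd⟩ := indIs_ind x
  rw [h, one_pow] at hd
  have hinj : Function.Injective (Algebra.ofId k D) := (algebraMap k D).injective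
  exact (cls_congr (AlgEquiv.ofBijective _ ⟨hinj,
    (LinearMap.injective_iff_surjective_of_finrank_eq_finrank (f := (Algebra.ofId k D).toLinearMap)
      (by rw [Module.finrank_self, hd])).1 hinj⟩)).symm.trans cls_self

theorem eq_one_of_ind_dvd_one {x : Br k} (h : ind x ∣ 1) : x = 1 :=
  ind_eq_one_iff.mp (Nat.dvd_one.mp h)

theorem ind_mul_dvd (x y : Br k) : ind (x * y) ∣ ind x * ind y := by
  obtain ⟨D, _, _, _, _, hx, hd⟩ := indIs_ind x
  obtain ⟨E, _, _, _, _, hy, he⟩ := indIs_ind y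
  obtain ⟨r, hr, F, _, _, _, _, ⟨g⟩⟩ :=
    CSAlg.exists_algEquiv_matrix_central_divisionRing (k := k) (D ⊗[k] E)
  obtain ⟨f, -, hf⟩ := exists_finrank_sq (k := k) F
  have h : ind (x * y) = f := by
    rw [← ind_cls_of_matrix g hf, ← cls_mul, hx, hy]
  refine ⟨r, Nat.pow_left_injective two_ne_zero ?_⟩
  have := g.toLinearEquiv.finrank_eq
  rw [Module.finrank_tensorProduct, hd, he, Module.finrank_matrix, hf] at this
  simp only [Fintype.card_fin] at this
  rw [h]
  show (ind x * ind y) ^ 2 = (f * r) ^ 2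
  rw [mul_pow, this]
  ring

theorem cls_op (A : Type v) [Ring A] [Algebra k A] [Algebra.IsCentral k A] [IsSimpleRing A]
    [FiniteDimensional k A] : cls (k := k) Aᵐᵒᵖ = (cls (k := k) A)⁻¹ :=
  eq_inv_of_mul_eq_one_right cls_mul_op

theorem ind_inv (x : Br k) : ind x⁻¹ = ind x := by
  obtain ⟨D, _, _, _, _, hx, hd⟩ := indIs_ind x
  rw [← hx, ← cls_op, hx]
  exact ind_cls_eq (by rw [← (MulOpposite.opLinearEquiv k : D ≃ₗ[k] Dᵐᵒᵖ).finrank_eq, hd])

theorem ind_pow_dvd_choose (x : Br k) (r : ℕ) : ind (x ^ r) ∣ Nat.choose (ind x) r := by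
  obtain ⟨D, _, _, _, _, hx, hd⟩ := indIs_ind x
  obtain ⟨m, hm, D', _, _, _, _, ⟨e⟩⟩ :=
    CSAlg.exists_algEquiv_matrix_central_divisionRing (k := k) (⨂[k] _i : Fin r, D)
  obtain ⟨d', -, hd'⟩ := exists_finrank_sq (k := k) D'
  rw [← hx, ← cls_tensorPower, ind_cls_of_matrix e hd', hx]
  exact index_dvd_choose_of_split hd (ind_ne_zero x) e hd'

theorem pow_ind_eq_one (x : Br k) : x ^ ind x = 1 :=
  eq_one_of_ind_dvd_one (by simpa using ind_pow_dvd_choose x (ind x))

theorem splits_iff_of_cls_eq {A : Type v} [Ring A] [Algebra k A] [Algebra.IsCentral k A] [IsSimpleRing A]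
    [FiniteDimensional k A] {B : Type w} [Ring B] [Algebra k B] [Algebra.IsCentral k B] [IsSimpleRing B]
    [FiniteDimensional k B] (K : Type*) [Field K] [Algebra k K] (h : cls (k := k) A = cls (k := k) B)
    (hs : Curves.Splits k A K) : Curves.Splits k B K := by
  obtain ⟨n, m, hn, hm, ⟨e⟩⟩ := cls_eq_iff.mp h
  exact CSAlg.splits_of_splits_matrix hm (CSAlg.splits_of_algEquiv e (CSAlg.splits_matrix hn hs))

theorem cls_eq_one_iff_splits {A : Type v} [Ring A] [Algebra k A] [Algebra.IsCentral k A] [IsSimpleRing A]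
    [FiniteDimensional k A] : cls (k := k) A = 1 ↔ Curves.Splits k A k :=
  cls_eq_one_iff.trans
    ⟨fun ⟨n, hn, ⟨e⟩⟩ => ⟨n, hn, ⟨(Algebra.TensorProduct.lid k A).trans e⟩⟩,
      fun ⟨n, hn, ⟨e⟩⟩ => ⟨n, hn, ⟨(Algebra.TensorProduct.lid k A).symm.trans e⟩⟩⟩

/-- The index divides the degree of every finite splitting field. -/
theorem ind_dvd_of_splits {A : Type v} [Ring A] [Algebra k A] [Algebra.IsCentral k A] [IsSimpleRing A]
    [FiniteDimensional k A] (K : Type w) [Field K] [Algebra k K] [FiniteDimensional k K]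
    (h : Curves.Splits k A K) : ind (cls (k := k) A) ∣ finrank k K := by
  obtain ⟨D, _, _, _, _, hx, hd⟩ := indIs_ind (cls (k := k) A)
  obtain ⟨t, ht, -⟩ := CSAlg.exists_matrix_algHom_of_splits hd K (splits_iff_of_cls_eq K hx.symm h)
  exact ⟨t, by rw [← ht, mul_comm]⟩

theorem ind_pow_dvd (x : Br k) (n : ℕ) : ind (x ^ n) ∣ ind x := by
  obtain ⟨D, _, _, _, _, hx, hd⟩ := indIs_ind x
  obtain ⟨L, hcomm, -, hcent⟩ := CSAlg.exists_separable_centralizer_eq (k := k) (D := D)
  letI : CommRing L := { L.toRing with mul_comm := fun x y => Subtype.ext (hcomm x x.2 y y.2) }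
  letI : Field L := fieldOfFiniteDimensional k L
  have hL := CSAlg.finrank_eq_sq_of_centralizer_eq L hcent
  obtain ⟨N, hN, ⟨f⟩⟩ := CSAlg.splits_of_finrank_eq_sq L.val hL
  have h := ind_dvd_of_splits L (splits_piTensor (k := k) (ι := Fin n) (A := fun _ => D)
    (n := fun _ => N) (fun _ => hN) fun _ => f)
  rw [cls_tensorPower, hx] at h
  rwa [Nat.pow_left_injective two_ne_zero (hL.symm.trans hd)] at h

theorem prime_dvd_of_dvd_ind {x : Br k} {e p : ℕ} (he : x ^ e = 1) (hp : p.Prime) (hpd : p ∣ ind x) :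
    p ∣ e := by
  by_contra hpe
  haveI : Fact p.Prime := ⟨hp⟩
  set d := ind x with hd
  set v := d.factorization p
  have hcop : (p ^ v).Coprime (orderOf x) :=
    (Nat.Coprime.coprime_dvd_right (orderOf_dvd_of_pow_eq_one he)
      ((hp.coprime_iff_not_dvd).mpr hpe)).pow_left v
  obtain ⟨m, hm⟩ := exists_pow_eq_self_of_coprime hcop
  have h1 : d ∣ Nat.choose d (p ^ v) := by
    have := (ind_pow_dvd (x ^ p ^ v) m).trans (ind_pow_dvd_choose x (p ^ v))
    rwa [hm] at this
  have h2 : Nat.choose d (p ^ v) ≡ d / p ^ v [MOD p] := by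
    have := Choose.choose_pow_mul_pow_mul_modEq_choose_nat (p := p) (k := v) (a := d / p ^ v) (b := 1)
    rwa [mul_one, Nat.choose_one_right, Nat.mul_div_cancel' (Nat.ordProj_dvd d p)] at this
  exact Nat.not_dvd_ordCompl hp (ind_ne_zero x) ((h2.dvd_iff dvd_rfl).mp (hpd.trans h1))

theorem ind_pow_eq_of_coprime {x : Br k} {n : ℕ} (h : n.Coprime (ind x)) : ind (x ^ n) = ind x := by
  obtain ⟨m, hm⟩ := exists_pow_eq_self_of_coprime (x := x)
    (h.coprime_dvd_right (orderOf_dvd_of_pow_eq_one (pow_ind_eq_one x)))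
  refine Nat.dvd_antisymm (ind_pow_dvd x n) ?_
  have := ind_pow_dvd (x ^ n) m
  rwa [hm] at this

end Groth.Agent.Brauer25
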