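import Groth.Agent.Lib.Azumaya.Criteria
import Groth.Agent.Lib.CSAlg.Split
import Mathlib.RingTheory.Finiteness.Descent
import Mathlib.Algebra.Module.FinitePresentation
import Mathlib.RingTheory.LocalRing.ResidueField.Ideal
import Mathlib.RingTheory.Spectrum.Prime.RingHom
import Mathlib.Algebra.Central.End

/-!
Operations on Azumaya algebras via the fibre criterion.
-/

set_option autoImplicit false

universe u v w z

open TensorProduct

namespace Groth.Agent.Brauer25

/-- Central simplicity descends along a field extension. -/
theorem csa_descend {k : Type u} [Field k] {L : Type v} [Field L] [Algebra k L] {A : Type w} [Ring A]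
    [Algebra k A] [FiniteDimensional k A] (h1 : Algebra.IsCentral L (L ⊗[k] A)) (h2 : IsSimpleRing (L ⊗[k] A)) :
    Algebra.IsCentral k A ∧ IsSimpleRing A := by
  haveI := h1; haveI := h2
  obtain ⟨n, hn, ⟨f⟩⟩ := CSAlg.splits_separableClosure (k := L) (L ⊗[k] A)
  have := CSAlg.isCSA_of_splits (k := k) (A := A) (L := SeparableClosure L)
    ⟨n, hn, ⟨(CSAlg.cancelBaseChangeEquiv (k := k) L (SeparableClosure L) A).symm.trans f⟩⟩
  exact ⟨this.1, this.2.1⟩

variable {R : Type u} [CommRing R]

/-- `(S ⊗ A) ⊗_S (S ⊗ B) ≅ S ⊗ (A ⊗ B)`. -/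
noncomputable def baseChangeTensor (S : Type v) [CommRing S] [Algebra R S] (A : Type w) [Ring A] [Algebra R A]
    (B : Type z) [Ring B] [Algebra R B] : (S ⊗[R] A) ⊗[S] (S ⊗[R] B) ≃ₐ[S] S ⊗[R] (A ⊗[R] B) :=
  (AlgEquiv.symm <| AlgEquiv.ofLinearEquiv
    (TensorProduct.AlgebraTensorModule.cancelBaseChange R S S (S ⊗[R] A) B).symm
    (by simp [Algebra.TensorProduct.one_def]) <|
      LinearMap.map_mul_of_map_mul_tmul (fun _ _ _ _ ↦ by simp)).trans
    (Algebra.TensorProduct.assoc R R S S A B)

/-- A compatible map of residue fields. -/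
theorem exists_residue_algebra (S : Type v) [CommRing S] [Algebra R S] (p : Ideal R) [p.IsPrime] (q : Ideal S)
    [q.IsPrime] (h : p = q.comap (algebraMap R S)) :
    ∃ (_ : Algebra p.ResidueField q.ResidueField), IsScalarTower R p.ResidueField q.ResidueField := by
  letI := (Ideal.ResidueField.map p q (algebraMap R S) h).toAlgebra
  refine ⟨inferInstance, IsScalarTower.of_algebraMap_eq' ?_⟩
  ext x
  show algebraMap R q.ResidueField x = Ideal.ResidueField.map p q (algebraMap R S) h (algebraMap R p.ResidueField x)
  rw [Ideal.ResidueField.map_algebraMap, ← IsScalarTower.algebraMap_apply]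

section tensor

variable (A : Type v) [Ring A] [Algebra R A] (B : Type w) [Ring B] [Algebra R B]

theorem isAzumaya_tensor [IsAzumaya R A] [IsAzumaya R B] : IsAzumaya R (A ⊗[R] B) := by
  refine Azumaya.isAzumaya_iff_fibres.mpr fun p _ => ?_
  obtain ⟨hA, hA'⟩ := Azumaya.fibre_centralSimple (R := R) (A := A) p
  obtain ⟨hB, hB'⟩ := Azumaya.fibre_centralSimple (R := R) (A := B) p
  haveI := CSAlg.isSimpleRing_tensor' (k := p.ResidueField) (p.ResidueField ⊗[R] A) (p.ResidueField ⊗[R] B)
  haveI := CSAlg.isCentral_tensor (k := p.ResidueField) (p.ResidueField ⊗[R] A) (p.ResidueField ⊗[R] B)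
  exact ⟨CSAlg.isCentral_of_algEquiv (baseChangeTensor p.ResidueField A B),
    IsSimpleRing.of_ringEquiv (baseChangeTensor p.ResidueField A B).toRingEquiv inferInstance⟩

variable (S : Type z) [CommRing S] [Algebra R S]

theorem isAzumaya_baseChange [IsAzumaya R A] : IsAzumaya S (S ⊗[R] A) := by
  refine Azumaya.isAzumaya_iff_fibres.mpr fun q _ => ?_
  let p := q.comap (algebraMap R S)
  obtain ⟨i1, i2⟩ := exists_residue_algebra S p q rfl
  obtain ⟨hA, hA'⟩ := Azumaya.fibre_centralSimple (R := R) (A := A) p
  haveI := CSAlg.isSimpleRing_baseChange (k := p.ResidueField) q.ResidueField (p.ResidueField ⊗[R] A)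
  haveI := CSAlg.isCentral_baseChange (k := p.ResidueField) q.ResidueField (p.ResidueField ⊗[R] A)
  let e : q.ResidueField ⊗[p.ResidueField] (p.ResidueField ⊗[R] A) ≃ₐ[q.ResidueField]
      q.ResidueField ⊗[S] (S ⊗[R] A) :=
    (AlgEquiv.symm <| AlgEquiv.ofLinearEquiv
      (TensorProduct.AlgebraTensorModule.cancelBaseChange R p.ResidueField q.ResidueField q.ResidueField A).symm
      (by simp [Algebra.TensorProduct.one_def]) <|
        LinearMap.map_mul_of_map_mul_tmul (fun _ _ _ _ ↦ by simp)).trans
    (AlgEquiv.ofLinearEquiv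
      (TensorProduct.AlgebraTensorModule.cancelBaseChange R S q.ResidueField q.ResidueField A).symm
      (by simp [Algebra.TensorProduct.one_def]) <|
        LinearMap.map_mul_of_map_mul_tmul (fun _ _ _ _ ↦ by simp))
  exact ⟨CSAlg.isCentral_of_algEquiv e, IsSimpleRing.of_ringEquiv e.toRingEquiv inferInstance⟩

theorem isAzumaya_descend_comap (hS : Function.Surjective (PrimeSpectrum.comap (algebraMap R S)))
    [Module.Finite R B] [Module.Projective R B] [IsAzumaya S (S ⊗[R] B)] : IsAzumaya R B := by
  refine Azumaya.isAzumaya_iff_fibres.mpr fun p _ => ?_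
  obtain ⟨⟨q, hq⟩, hqp⟩ := hS ⟨p, inferInstance⟩
  haveI := hq
  have hpq : p = q.comap (algebraMap R S) := (congrArg PrimeSpectrum.asIdeal hqp).symm
  obtain ⟨i1, i2⟩ := exists_residue_algebra S p q hpq
  obtain ⟨hB, hB'⟩ := Azumaya.fibre_centralSimple (R := S) (A := S ⊗[R] B) q
  let e : q.ResidueField ⊗[S] (S ⊗[R] B) ≃ₐ[q.ResidueField]
      q.ResidueField ⊗[p.ResidueField] (p.ResidueField ⊗[R] B) :=
    (AlgEquiv.symm <| AlgEquiv.ofLinearEquiv
      (TensorProduct.AlgebraTensorModule.cancelBaseChange R S q.ResidueField q.ResidueField B).symm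
      (by simp [Algebra.TensorProduct.one_def]) <|
        LinearMap.map_mul_of_map_mul_tmul (fun _ _ _ _ ↦ by simp)).trans
    (AlgEquiv.ofLinearEquiv
      (TensorProduct.AlgebraTensorModule.cancelBaseChange R p.ResidueField q.ResidueField q.ResidueField B).symm
      (by simp [Algebra.TensorProduct.one_def]) <|
        LinearMap.map_mul_of_map_mul_tmul (fun _ _ _ _ ↦ by simp))
  exact csa_descend (L := q.ResidueField) (CSAlg.isCentral_of_algEquiv e)
    (IsSimpleRing.of_ringEquiv e.toRingEquiv inferInstance)

theorem finite_projective_descend {M : Type w} [AddCommGroup M] [Module R M] [Module.FaithfullyFlat R S]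
    [Module.Finite S (S ⊗[R] M)] [Module.Projective S (S ⊗[R] M)] :
    Module.Finite R M ∧ Module.Projective R M := by
  haveI hfin : Module.Finite R M := Module.Finite.of_finite_tensorProduct_of_faithfullyFlat S
  haveI : Module.Flat R M := Module.Flat.of_flat_tensorProduct R M S
  refine ⟨hfin, ?_⟩
  obtain ⟨n, π, hπ⟩ := Module.Finite.exists_fin' R M
  have hker : (LinearMap.ker π).FG := by
    rw [← Module.Finite.iff_fg]
    haveI : Module.Finite S (S ⊗[R] (LinearMap.ker π)) := by
      have hexact : Function.Exact (LinearMap.ker π).subtype π := π.exact_subtype_ker_map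
      let i := (LinearMap.ker π).subtype.baseChange S
      have hi : Function.Injective i := Module.Flat.lTensor_preserves_injective_linearMap (M := S) _
        (LinearMap.ker π).subtype_injective
      obtain ⟨s, hs⟩ := Module.projective_lifting_property (π.baseChange S) LinearMap.id
        (LinearMap.lTensor_surjective S hπ)
      let P : S ⊗[R] (Fin n → R) →ₗ[S] S ⊗[R] (Fin n → R) := LinearMap.id - s.comp (π.baseChange S)
      have hrange : LinearMap.range i = LinearMap.range P := by
        ext y
        constructor
        · rintro ⟨x, rfl⟩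
          refine ⟨i x, ?_⟩
          have : π.baseChange S (i x) = 0 := (lTensor_exact S hexact hπ).apply_apply_eq_zero x
          simp [P, this]
        · rintro ⟨x, rfl⟩
          refine ((lTensor_exact S hexact hπ) (P x)).mp ?_
          show π.baseChange S (P x) = 0
          have := LinearMap.congr_fun hs (π.baseChange S x)
          simp only [LinearMap.comp_apply, LinearMap.id_apply] at this
          simp [P, this]
      exact Module.Finite.equiv
        ((LinearEquiv.ofInjective i hi).trans (LinearEquiv.ofEq _ _ hrange)).symm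
    exact Module.Finite.of_finite_tensorProduct_of_faithfullyFlat S
  haveI : Module.FinitePresentation R M := Module.finitePresentation_of_surjective π hπ hker
  exact Module.Flat.projective_of_finitePresentation

end tensor

section End

variable (P : Type v) [AddCommGroup P] [Module R P] [Module.Finite R P] [Module.Projective R P]
  (S : Type w) [CommRing S] [Algebra R S]

theorem tensorProductEnd_tmul {M : Type*} [AddCommGroup M] [Module R M] (s : S) (g : Module.End R M)
    (t : S) (y : M) : LinearMap.tensorProductEnd R S M (s ⊗ₜ g) (t ⊗ₜ y) = (s * t) ⊗ₜ g y := by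
  show (LinearMap.tensorProduct R S M M (s ⊗ₜ g)) (t ⊗ₜ y) = _
  simp [LinearMap.tensorProduct, TensorProduct.smul_tmul']

theorem tensorProductEnd_bijective : Function.Bijective (LinearMap.tensorProductEnd R S P) := by
  obtain ⟨n, π, ι, -, -, hπι⟩ := Module.Finite.exists_comp_eq_id_of_projective R P
  have hid : ∀ g, π (ι g) = g := LinearMap.congr_fun hπι
  let Φ := LinearMap.tensorProductEnd R S (Fin n → R)
  have hΦ : Function.Bijective Φ := by
    have h := Module.isBaseChange_map_of_finite_free (R := R) (Fin n → R) S (Fin n)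
    have e : (Φ : S ⊗[R] Module.End R (Fin n → R) → _) = h.equiv := by
      funext x
      induction x using TensorProduct.induction_on with
      | zero => rw [map_zero, map_zero]
      | tmul s g =>
        rw [IsBaseChange.equiv_tmul]
        refine TensorProduct.AlgebraTensorModule.ext fun t y => ?_
        rw [tensorProductEnd_tmul]
        simp [TensorProduct.smul_tmul']
      | add x y hx hy => rw [map_add, map_add, hx, hy]
    rw [e]
    exact h.equiv.bijective
  let up : Module.End R P →ₗ[R] Module.End R (Fin n → R) :=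
    (LinearMap.llcomp R (Fin n → R) P (Fin n → R) ι).comp (LinearMap.lcomp R P π)
  let down : Module.End R (Fin n → R) →ₗ[R] Module.End R P :=
    (LinearMap.llcomp R P (Fin n → R) P π).comp (LinearMap.lcomp R (Fin n → R) ι)
  have hdu : ∀ g, down (up g) = g := fun g => LinearMap.ext fun x => by simp [up, down, hid]
  have hup : ∀ x, Φ (up.baseChange S x) =
      (ι.baseChange S).comp ((LinearMap.tensorProductEnd R S P x).comp (π.baseChange S)) := by
    intro x
    induction x using TensorProduct.induction_on with
    | zero => simp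
    | tmul s g =>
      refine TensorProduct.AlgebraTensorModule.ext fun t y => ?_
      simp only [Φ, up, LinearMap.baseChange_tmul, LinearMap.comp_apply, tensorProductEnd_tmul]; rfl
    | add x y hx hy => simp only [map_add, hx, hy, LinearMap.add_comp, LinearMap.comp_add]
  have hdown : ∀ x, LinearMap.tensorProductEnd R S P (down.baseChange S x) =
      (π.baseChange S).comp ((Φ x).comp (ι.baseChange S)) := by
    intro x
    induction x using TensorProduct.induction_on with
    | zero => simp
    | tmul s g =>
      refine TensorProduct.AlgebraTensorModule.ext fun t y => ?_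
      simp only [Φ, down, LinearMap.baseChange_tmul, LinearMap.comp_apply, tensorProductEnd_tmul]; rfl
    | add x y hx hy => simp only [map_add, hx, hy, LinearMap.add_comp, LinearMap.comp_add]
  have hbc : ∀ x, down.baseChange S (up.baseChange S x) = x := fun x => by
    rw [← LinearMap.comp_apply, ← LinearMap.baseChange_comp, show down.comp up = LinearMap.id from
      LinearMap.ext hdu, LinearMap.baseChange_id]
    rfl
  refine ⟨fun x y hxy => ?_, fun g => ?_⟩
  · rw [← hbc x, ← hbc y]
    congr 1
    apply hΦ.1
    rw [hup, hup, hxy]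
  · obtain ⟨x, hx⟩ := hΦ.2 ((ι.baseChange S).comp (g.comp (π.baseChange S)))
    refine ⟨down.baseChange S x, ?_⟩
    have hid' : ∀ z, π.baseChange S (ι.baseChange S z) = z := fun z => by
      rw [← LinearMap.comp_apply, ← LinearMap.baseChange_comp, hπι, LinearMap.baseChange_id]; rfl
    refine LinearMap.ext fun z => ?_
    rw [hdown, hx]
    simp [hid']

theorem isAzumaya_end [FaithfulSMul R P] : IsAzumaya R (Module.End R P) := by
  haveI : Module.Projective R (Module.End R P) := by
    obtain ⟨n, π, ι, -, -, hπι⟩ := Module.Finite.exists_comp_eq_id_of_projective R P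
    refine Module.Projective.of_split
      ((LinearMap.llcomp R (Fin n → R) P (Fin n → R) ι).comp (LinearMap.lcomp R P π))
      ((LinearMap.llcomp R P (Fin n → R) P π).comp (LinearMap.lcomp R (Fin n → R) ι)) ?_
    refine LinearMap.ext fun g => LinearMap.ext fun x => ?_
    simp [show ∀ y, π (ι y) = y from LinearMap.congr_fun hπι]
  haveI : Module.Finite R (Module.End R P) := by
    obtain ⟨n, π, ι, -, -, hπι⟩ := Module.Finite.exists_comp_eq_id_of_projective R P
    refine Module.Finite.of_surjective
      ((LinearMap.llcomp R P (Fin n → R) P π).comp (LinearMap.lcomp R (Fin n → R) ι)) fun g => ?_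
    refine ⟨((LinearMap.llcomp R (Fin n → R) P (Fin n → R) ι).comp (LinearMap.lcomp R P π)) g, ?_⟩
    refine LinearMap.ext fun x => ?_
    simp [show ∀ y, π (ι y) = y from LinearMap.congr_fun hπι]
  refine Azumaya.isAzumaya_iff_fibres.mpr fun p _ => ?_
  haveI : Nontrivial (p.ResidueField ⊗[R] P) := by
    have hp : (⟨p, ‹_›⟩ : PrimeSpectrum R) ∈ Module.support R P := by
      rw [Module.mem_support_iff_of_finite]
      intro x hx
      have : x = 0 := by
        refine eq_of_smul_eq_smul (α := P) fun y => ?_
        rw [zero_smul]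
        exact Module.mem_annihilator.1 hx y
      exact this ▸ zero_mem _
    exact (Module.mem_support_iff_nontrivial_residueField_tensorProduct ⟨p, ‹_›⟩).1 hp
  let e := (AlgEquiv.ofBijective (LinearMap.tensorProductEnd R p.ResidueField P) (tensorProductEnd_bijective P p.ResidueField)).symm
  let b := Module.finBasis p.ResidueField (p.ResidueField ⊗[R] P)
  haveI : NeZero (Module.finrank p.ResidueField (p.ResidueField ⊗[R] P)) := ⟨Module.finrank_pos.ne'⟩
  let e' := (algEquivMatrix b).symm.trans e
  exact ⟨CSAlg.isCentral_of_algEquiv e', IsSimpleRing.of_ringEquiv e'.toRingEquiv inferInstance⟩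

end End

end Groth.Agent.Brauer25
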