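import Groth.Prelude.Def_W4c4lgringredgrpLG
import Groth.Agent.Lib.Brauer25.AzumayaOps
import Groth.Agent.Lib.CSAlg.Module
import Mathlib.RingTheory.Spectrum.Prime.FreeLocus
import Mathlib.LinearAlgebra.Matrix.NonsingularInverse
import Mathlib.LinearAlgebra.TensorProduct.Quotient

/-!
Projective modules over Azumaya algebras over LG-rings.
-/

set_option autoImplicit false

universe u v w z

open TensorProduct

namespace Groth.Agent.Brauer25.LG

variable {R : Type u} [CommRing R]

/-- A pair of elements of two families of maps which compose to a bijection. -/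
theorem exists_bijective (hR : LGRing.IsLGRing R) {V : Type v} [AddCommGroup V] [Module R V]
    [Module.Finite R V] [Module.Projective R V] {a b : ℕ} (β : Fin a → Fin b → Module.End R V)
    (h : ∀ m : Ideal R, m.IsMaximal → ∃ (s : Fin a → R) (t : Fin b → R),
      LinearMap.range (∑ i, ∑ j, (s i * t j) • β i j) ⊔ m • (⊤ : Submodule R V) = ⊤) :
    ∃ (s : Fin a → R) (t : Fin b → R), Function.Bijective ⇑(∑ i, ∑ j, (s i * t j) • β i j) := by
  classical
  obtain ⟨l, π, ι, -, -, hπι⟩ := Module.Finite.exists_comp_eq_id_of_projective R V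
  have hid : ∀ y, π (ι y) = y := LinearMap.congr_fun hπι
  let T := (LinearMap.toMatrix' : ((Fin l → R) →ₗ[R] (Fin l → R)) ≃ₗ[R] Matrix (Fin l) (Fin l) R)
  let E : (Fin a → R) → (Fin b → R) → ((Fin l → R) →ₗ[R] (Fin l → R)) := fun s t =>
    (∑ i, ∑ j, (s i * t j) • (ι ∘ₗ β i j ∘ₗ π)) + (LinearMap.id - ι ∘ₗ π)
  have hE : ∀ s t z, E s t z = ι ((∑ i, ∑ j, (s i * t j) • β i j) (π z)) + (z - ι (π z)) := by
    intro s t z
    simp [E, map_sum, map_smul]
  let P : Matrix (Fin l) (Fin l) (MvPolynomial (Fin (a + b)) R) :=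
    (∑ i, ∑ j, ((MvPolynomial.X (Fin.castAdd b i) * MvPolynomial.X (Fin.natAdd a j)) : MvPolynomial (Fin (a + b)) R) •
      (T (ι ∘ₗ β i j ∘ₗ π)).map ⇑(MvPolynomial.C : R →+* MvPolynomial (Fin (a + b)) R)) + (T (LinearMap.id - ι ∘ₗ π)).map ⇑(MvPolynomial.C : R →+* MvPolynomial (Fin (a + b)) R)
  have hP : ∀ s t, MvPolynomial.aeval (Fin.append s t) P.det = (T (E s t)).det := by
    intro s t
    rw [AlgHom.map_det]
    congr 1
    ext i j
    simp [P, E, map_sum, map_smul, Matrix.sum_apply]
  obtain ⟨x, hx⟩ := hR (a + b) P.det fun m _ => by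
    obtain ⟨s, t, hst⟩ := h m ‹_›
    let q := Ideal.Quotient.mk m
    have hunit : IsUnit ((T (E s t)).map q) := by
      rw [← Matrix.mulVec_surjective_iff_isUnit]
      intro z
      choose z' hz' using fun i => Ideal.Quotient.mk_surjective (z i)
      obtain ⟨u, hu, w, hw, huw⟩ := Submodule.mem_sup.1 (hst.ge (Submodule.mem_top (x := π z')))
      obtain ⟨y, rfl⟩ := hu
      have hιw : ∀ i, ι w i ∈ m := fun i =>
        Submodule.smul_induction_on hw
          (fun r hr n _ => by rw [map_smul, Pi.smul_apply, smul_eq_mul]; exact m.mul_mem_right _ hr)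
          (fun p p' hp hp' => by rw [map_add]; exact m.add_mem hp hp')
      refine ⟨fun i => q ((ι y + (z' - ι (π z'))) i), funext fun i => ?_⟩
      have h1 : E s t (ι y + (z' - ι (π z'))) = z' - ι w := by
        rw [hE, map_add, map_sub, hid, hid, sub_self, add_zero, ← huw, map_add]
        abel
      have h2 := congrFun h1 i
      rw [← LinearMap.toMatrix'_mulVec (E s t)] at h2
      show ((T (E s t)).map q).mulVec (q ∘ _) i = z i
      rw [← RingHom.map_mulVec, h2, Pi.sub_apply, map_sub, Ideal.Quotient.eq_zero_iff_mem.2 (hιw i),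
        sub_zero]
      exact hz' i
    refine ⟨fun i => q (Fin.append s t i), ?_⟩
    rw [show (fun i => q (Fin.append s t i)) = algebraMap R (R ⧸ m) ∘ Fin.append s t from rfl,
      MvPolynomial.aeval_algebraMap_apply, hP, Ideal.Quotient.algebraMap_eq, RingHom.map_det]
    exact (Matrix.isUnit_iff_isUnit_det _).1 hunit
  obtain ⟨s, t, rfl⟩ : ∃ s t, x = Fin.append s t := ⟨_, _, (Fin.append_castAdd_natAdd (f := x)).symm⟩
  rw [hP] at hx
  have hbij : Function.Bijective (E s t) := by
    have := (⟨Matrix.mulVec_injective_of_isUnit ((Matrix.isUnit_iff_isUnit_det (T (E s t))).2 hx), Matrix.mulVec_surjective_iff_isUnit.2 ((Matrix.isUnit_iff_isUnit_det (T (E s t))).2 hx)⟩ : Function.Bijective (T (E s t)).mulVec)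
    rw [show (T (E s t)).mulVec = ⇑(E s t) from funext fun z => LinearMap.toMatrix'_mulVec _ z] at this
    exact this
  refine ⟨s, t, (injective_iff_map_eq_zero _).2 fun y hy => ?_, fun y => ?_⟩
  · have h1 : E s t (ι y) = 0 := by rw [hE, hid, hy, map_zero, sub_self, add_zero]
    have := hbij.1 (h1.trans (map_zero (E s t)).symm)
    rw [← hid y, this, map_zero]
  · obtain ⟨z, hz⟩ := hbij.2 (ι y)
    rw [hE] at hz
    refine ⟨π z, ?_⟩
    have := congrArg π hz
    rwa [map_add, map_sub, hid, hid, hid, sub_self, add_zero] at this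

section AModules

variable {A : Type v} [Ring A] [Algebra R A]

theorem finite_hom' (M : Type w) [AddCommGroup M] [Module A M] [Module.Finite A M] [Module.Projective A M]
    (N : Type z) [AddCommGroup N] [Module A N] [Module R N] [SMulCommClass A R N] [Module.Finite R N] :
    Module.Finite R (M →ₗ[A] N) := by
  obtain ⟨a, π, ι, -, -, hπι⟩ := Module.Finite.exists_comp_eq_id_of_projective A M
  let Ψ : (Fin a → N) →ₗ[R] (M →ₗ[A] N) :=
    { toFun := fun n => (Fintype.linearCombination A n).comp ι
      map_add' := fun n n' => LinearMap.ext fun x => by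
        simp [Fintype.linearCombination_apply, smul_add, Finset.sum_add_distrib]
      map_smul' := fun c n => LinearMap.ext fun x => by
        simp [Fintype.linearCombination_apply, Finset.smul_sum, fun (r : A) (y : N) => (smul_comm r c y).symm] }
  refine Module.Finite.of_surjective Ψ fun f => ⟨fun i => f (π (Pi.single i 1)), LinearMap.ext fun x => ?_⟩
  simp only [Ψ, LinearMap.coe_mk, AddHom.coe_mk, LinearMap.comp_apply, Fintype.linearCombination_apply,
    ← map_smul, ← map_sum]
  rw [← pi_eq_sum_univ' (ι x)]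
  exact congrArg f (LinearMap.congr_fun hπι x)

variable (R A) in
theorem projective_restrict [Module.Projective R A] (M : Type w) [AddCommGroup M] [Module A M] [Module R M]
    [IsScalarTower R A M] [Module.Finite A M] [Module.Projective A M] : Module.Projective R M := by
  obtain ⟨a, π, ι, -, -, hπι⟩ := Module.Finite.exists_comp_eq_id_of_projective A M
  haveI : Module.Projective R (Fin a → A) :=
    Module.Projective.of_equiv (DFinsupp.linearEquivFunOnFintype (R := R) (M := fun _ : Fin a => A))
  exact Module.Projective.of_split (ι.restrictScalars R) (π.restrictScalars R)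
    (LinearMap.ext fun x => LinearMap.congr_fun hπι x)

/-- `mM` as an `A`-submodule. -/
def smulTop (m : Ideal R) (M : Type w) [AddCommGroup M] [Module A M] [Module R M] [IsScalarTower R A M] :
    Submodule A M where
  toAddSubmonoid := (m • (⊤ : Submodule R M)).toAddSubmonoid
  smul_mem' a x hx := by
    refine Submodule.smul_induction_on (p := fun x => a • x ∈ m • (⊤ : Submodule R M)) hx
      (fun r hr n _ => ?_) (fun p p' hp hp' => ?_)
    · show a • r • n ∈ _
      rw [smul_comm]
      exact Submodule.smul_mem_smul hr trivial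
    · show a • (p + p') ∈ _
      rw [smul_add]
      exact add_mem hp hp'

theorem finrank_quot_smulTop (m : Ideal R) [m.IsMaximal] (M : Type w) [AddCommGroup M] [Module A M]
    [Module R M] [IsScalarTower R A M] [Module.Finite R M] [Module.Projective R M]
    [Module (R ⧸ m) (M ⧸ smulTop (A := A) m M)] [IsScalarTower R (R ⧸ m) (M ⧸ smulTop (A := A) m M)] :
    Module.finrank (R ⧸ m) (M ⧸ smulTop (A := A) m M) =
      Module.rankAtStalk (R := R) M ⟨m, ‹m.IsMaximal›.isPrime⟩ := by
  letI := Ideal.Quotient.field m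
  let g : M →ₗ[R] M ⧸ smulTop (A := A) m M := (smulTop (A := A) m M).mkQ.restrictScalars R
  let e1 : (M ⧸ (m • (⊤ : Submodule R M))) ≃ₗ[R] M ⧸ smulTop (A := A) m M :=
    (Submodule.quotEquivOfEq _ _ (by
      ext x
      rw [LinearMap.mem_ker]
      exact (Submodule.Quotient.mk_eq_zero (smulTop (A := A) m M)).symm)).trans
      (g.quotKerEquivOfSurjective (Submodule.mkQ_surjective _))
  let e : (R ⧸ m) ⊗[R] M ≃ₗ[R ⧸ m] M ⧸ smulTop (A := A) m M :=
    ((TensorProduct.quotTensorEquivQuotSMul M m).trans e1).extendScalarsOfSurjective Ideal.Quotient.mk_surjective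
  rw [← e.finrank_eq]
  let q : PrimeSpectrum (R ⧸ m) := ⟨⊥, Ideal.bot_prime⟩
  have h1 := Module.rankAtStalk_baseChange (R := R) (M := M) (S := R ⧸ m) q
  rw [Module.rankAtStalk_eq_finrank_of_free] at h1
  rw [show (⟨m, ‹m.IsMaximal›.isPrime⟩ : PrimeSpectrum R) = PrimeSpectrum.comap (algebraMap R (R ⧸ m)) q from
    PrimeSpectrum.ext (by simp [q, ← RingHom.ker_eq_comap_bot, Ideal.mk_ker])]
  exact h1

theorem mem_smulTop {m : Ideal R} {M : Type w} [AddCommGroup M] [Module A M] [Module R M]
    [IsScalarTower R A M] {x : M} : x ∈ smulTop (A := A) m M ↔ x ∈ m • (⊤ : Submodule R M) := Iff.rfl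

theorem isTorsion_quot_smulTop (m : Ideal R) (M : Type w) [AddCommGroup M] [Module A M]
    [Module R M] [IsScalarTower R A M] : Module.IsTorsionBySet R (M ⧸ smulTop (A := A) m M) m := fun y r =>
  Submodule.Quotient.induction_on _ y fun x =>
    (Submodule.Quotient.mk_smul (smulTop (A := A) m M) (r : R) x).symm.trans
      ((Submodule.Quotient.mk_eq_zero _).2 (mem_smulTop.2 (Submodule.smul_mem_smul r.2 Submodule.mem_top)))

theorem exists_surjective_of_finrank_le (k : Type u) [Field k] (Q : Type z) [Ring Q] [Algebra k Q]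
    [IsSimpleRing Q] [FiniteDimensional k Q] (X Y : Type w) [AddCommGroup X] [Module Q X] [Module k X]
    [IsScalarTower k Q X] [FiniteDimensional k X] [AddCommGroup Y] [Module Q Y] [Module k Y]
    [IsScalarTower k Q Y] [FiniteDimensional k Y] (h : Module.finrank k Y ≤ Module.finrank k X) :
    ∃ g : X →ₗ[Q] Y, Function.Surjective g := by
  haveI : Module.Finite Q X := Module.Finite.of_restrictScalars_finite k Q X
  haveI : Module.Finite Q Y := Module.Finite.of_restrictScalars_finite k Q Y
  obtain ⟨S, hS, hall⟩ := CSAlg.exists_isSimpleModule_forall_linearEquiv_fun.{u, z, w} k Q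
  obtain ⟨a, ⟨eX⟩⟩ := hall X
  obtain ⟨b, ⟨eY⟩⟩ := hall Y
  haveI := IsSimpleModule.nontrivial Q S
  have hba : b ≤ a := by
    have h1 := (eX.restrictScalars k).finrank_eq
    have h2 := (eY.restrictScalars k).finrank_eq
    rw [Module.finrank_pi_fintype] at h1 h2
    simp at h1 h2
    have : 0 < Module.finrank k S := Module.finrank_pos
    exact Nat.le_of_mul_le_mul_right (by omega) this
  refine ⟨eY.symm.toLinearMap ∘ₗ (LinearMap.funLeft Q S (Fin.castLE hba)) ∘ₗ eX.toLinearMap, ?_⟩
  exact eY.symm.surjective.comp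
    ((LinearMap.funLeft_surjective_of_injective Q S _ (Fin.castLE_injective hba)).comp eX.surjective)

/-- Modulo a maximal ideal, a module of larger rank surjects. -/
theorem exists_surjective_mod [IsAzumaya R A] (m : Ideal R) [m.IsMaximal]
    (M N : Type w) [AddCommGroup M] [Module A M] [Module R M] [IsScalarTower R A M] [Module.Finite A M]
    [Module.Projective A M] [AddCommGroup N] [Module A N] [Module R N] [IsScalarTower R A N]
    [Module.Finite A N] [Module.Projective A N]
    (h : Module.rankAtStalk (R := R) N ⟨m, ‹m.IsMaximal›.isPrime⟩ ≤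
      Module.rankAtStalk (R := R) M ⟨m, ‹m.IsMaximal›.isPrime⟩) :
    ∃ f : M →ₗ[A] N ⧸ smulTop (A := A) m N, Function.Surjective f := by
  letI := Ideal.Quotient.field m
  haveI : Module.Finite R M := Module.Finite.trans A M
  haveI : Module.Finite R N := Module.Finite.trans A N
  haveI := projective_restrict R A M
  haveI := projective_restrict R A N
  let k := R ⧸ m
  let X := M ⧸ smulTop (A := A) m M
  let Y := N ⧸ smulTop (A := A) m N
  letI : Module k X := (isTorsion_quot_smulTop (A := A) m M).module
  letI : Module k Y := (isTorsion_quot_smulTop (A := A) m N).module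
  haveI : IsScalarTower R k X := (isTorsion_quot_smulTop (A := A) m M).isScalarTower
  haveI : IsScalarTower R k Y := (isTorsion_quot_smulTop (A := A) m N).isScalarTower
  haveI : SMulCommClass k A X := ⟨fun c a x => by
    obtain ⟨r, rfl⟩ := Ideal.Quotient.mk_surjective c
    show algebraMap R k r • a • x = a • algebraMap R k r • x
    rw [algebraMap_smul, algebraMap_smul, smul_comm]⟩
  haveI : SMulCommClass k A Y := ⟨fun c a x => by
    obtain ⟨r, rfl⟩ := Ideal.Quotient.mk_surjective c
    show algebraMap R k r • a • x = a • algebraMap R k r • x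
    rw [algebraMap_smul, algebraMap_smul, smul_comm]⟩
  letI : Module (k ⊗[R] A) X := TensorProduct.Algebra.module
  letI : Module (k ⊗[R] A) Y := TensorProduct.Algebra.module
  haveI : IsScalarTower k (k ⊗[R] A) X := IsScalarTower.of_algebraMap_smul (R := k) (A := k ⊗[R] A) fun c x => by
    rw [Algebra.TensorProduct.algebraMap_apply, Algebra.algebraMap_self, RingHom.id_apply]
    exact (TensorProduct.Algebra.smul_def c (1 : A) x).trans (by rw [one_smul])
  haveI : IsScalarTower k (k ⊗[R] A) Y := IsScalarTower.of_algebraMap_smul (R := k) (A := k ⊗[R] A) fun c x => by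
    rw [Algebra.TensorProduct.algebraMap_apply, Algebra.algebraMap_self, RingHom.id_apply]
    exact (TensorProduct.Algebra.smul_def c (1 : A) x).trans (by rw [one_smul])
  haveI : IsAzumaya k (k ⊗[R] A) := isAzumaya_baseChange A k
  haveI := Azumaya.isSimpleRing_of_field k (k ⊗[R] A)
  haveI : Module.Finite k X := Module.Finite.of_restrictScalars_finite R k X
  haveI : Module.Finite k Y := Module.Finite.of_restrictScalars_finite R k Y
  haveI : Module.Finite (k ⊗[R] A) X := Module.Finite.of_restrictScalars_finite k _ X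
  haveI : Module.Finite (k ⊗[R] A) Y := Module.Finite.of_restrictScalars_finite k _ Y
  obtain ⟨g, hg⟩ := exists_surjective_of_finrank_le k (k ⊗[R] A) X Y (by
    rw [finrank_quot_smulTop (A := A) m M, finrank_quot_smulTop (A := A) m N]
    exact h)
  let gA : X →ₗ[A] Y :=
    { toFun := g
      map_add' := map_add g
      map_smul' := fun c x => by
        have e1 : ((1 : k) ⊗ₜ[R] c : k ⊗[R] A) • x = c • x := by
          rw [TensorProduct.Algebra.smul_def, one_smul]
        have e2 : ((1 : k) ⊗ₜ[R] c : k ⊗[R] A) • g x = c • g x := by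
          rw [TensorProduct.Algebra.smul_def, one_smul]
        rw [RingHom.id_apply, ← e1, map_smul g, e2] }
  exact ⟨gA ∘ₗ (smulTop (A := A) m M).mkQ, hg.comp (Submodule.mkQ_surjective _)⟩

/-- A module of larger rank surjects. -/
theorem exists_surjective (hR : LGRing.IsLGRing R) [IsAzumaya R A]
    (M N : Type w) [AddCommGroup M] [Module A M] [Module R M] [IsScalarTower R A M] [Module.Finite A M]
    [Module.Projective A M] [AddCommGroup N] [Module A N] [Module R N] [IsScalarTower R A N]
    [Module.Finite A N] [Module.Projective A N]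
    (h : ∀ p : PrimeSpectrum R, Module.rankAtStalk (R := R) N p ≤ Module.rankAtStalk (R := R) M p) :
    ∃ f : M →ₗ[A] N, Function.Surjective f := by
  haveI : Module.Finite R M := Module.Finite.trans A M
  haveI : Module.Finite R N := Module.Finite.trans A N
  haveI := projective_restrict R A M
  haveI := projective_restrict R A N
  haveI := finite_hom' (R := R) (A := A) M N
  haveI := finite_hom' (R := R) (A := R) N M
  obtain ⟨a, φ₁, hφ₁⟩ := Module.Finite.exists_fin' R (M →ₗ[A] N)
  obtain ⟨b, φ₂, hφ₂⟩ := Module.Finite.exists_fin' R (N →ₗ[R] M)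
  let β : Fin a → Fin b → Module.End R N := fun i j =>
    ((φ₁ (Pi.single i 1)).restrictScalars R).comp (φ₂ (Pi.single j 1))
  have hβ : ∀ s t, (∑ i, ∑ j, (s i * t j) • β i j) = ((φ₁ s).restrictScalars R).comp (φ₂ t) := by
    intro s t
    conv_rhs => rw [pi_eq_sum_univ' s, pi_eq_sum_univ' t, map_sum, map_sum]
    simp only [map_smul, β]
    ext x
    simp [Finset.smul_sum, map_sum, smul_smul, mul_comm]
  obtain ⟨s, t, hst⟩ := exists_bijective hR β fun m hm => by
    obtain ⟨f, hf⟩ := exists_surjective_mod (A := A) m M N (h _)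
    obtain ⟨F, hF⟩ := Module.projective_lifting_property (smulTop (A := A) m N).mkQ f
      (Submodule.mkQ_surjective _)
    obtain ⟨G, hG⟩ := Module.projective_lifting_property (f.restrictScalars R)
      ((smulTop (A := A) m N).mkQ.restrictScalars R) hf
    obtain ⟨s, rfl⟩ := hφ₁ F
    obtain ⟨t, rfl⟩ := hφ₂ G
    refine ⟨s, t, eq_top_iff.2 fun y _ => ?_⟩
    rw [hβ]
    refine Submodule.mem_sup.2 ⟨_, ⟨y, rfl⟩, y - φ₁ s (φ₂ t y), ?_, add_sub_cancel _ _⟩
    refine (Submodule.Quotient.mk_eq_zero (smulTop (A := A) m N)).1 ?_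
    rw [Submodule.Quotient.mk_sub, sub_eq_zero]
    have h1 := LinearMap.congr_fun hG y
    have h2 := LinearMap.congr_fun hF (φ₂ t y)
    exact h1.symm.trans h2.symm
  rw [hβ] at hst
  exact ⟨φ₁ s, fun y => ⟨φ₂ t ((Equiv.ofBijective _ hst).symm y), (Equiv.ofBijective _ hst).apply_symm_apply y⟩⟩

/-- A surjection between projective modules of equal rank is bijective. -/
theorem bijective_of_rank_eq {M : Type w} {N : Type z} [AddCommGroup M] [Module R M] [Module.Finite R M]
    [Module.Projective R M] [AddCommGroup N] [Module R N] [Module.Finite R N] [Module.Projective R N]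
    (f : M →ₗ[R] N) (hf : Function.Surjective f)
    (h : ∀ p, Module.rankAtStalk (R := R) N p = Module.rankAtStalk (R := R) M p) : Function.Bijective f := by
  obtain ⟨g, hg⟩ := Module.projective_lifting_property f LinearMap.id hf
  have hfg : ∀ y, f (g y) = y := LinearMap.congr_fun hg
  let K := LinearMap.ker f
  let p₁ : M →ₗ[R] K := (LinearMap.id - g ∘ₗ f).codRestrict K (fun x => by simp [K, hfg])
  haveI : Module.Finite R K := Module.Finite.of_surjective p₁ fun x => ⟨x.1, Subtype.ext (by
    simp [p₁, LinearMap.mem_ker.1 x.2])⟩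
  haveI : Module.Projective R K := Module.Projective.of_split K.subtype p₁ (LinearMap.ext fun x => Subtype.ext (by
    simp [p₁, LinearMap.mem_ker.1 x.2]))
  let e : M ≃ₗ[R] K × N := LinearEquiv.ofLinear (p₁.prod f) (K.subtype.coprod g)
    (LinearMap.ext fun ⟨x, y⟩ => by
      refine Prod.ext (Subtype.ext ?_) ?_ <;> simp [p₁, LinearMap.mem_ker.1 x.2, hfg])
    (LinearMap.ext fun x => by simp [p₁])
  haveI : Subsingleton K := by
    rw [← Module.rankAtStalk_eq_zero_iff_subsingleton (R := R)]
    funext p
    have := congrFun (Module.rankAtStalk_eq_of_equiv e) p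
    rw [Module.rankAtStalk_prod, Pi.add_apply, h p] at this
    simp only [Pi.zero_apply]
    omega
  exact ⟨(injective_iff_map_eq_zero f).2 fun x hx =>
    congrArg Subtype.val (Subsingleton.elim (⟨x, hx⟩ : K) 0), hf⟩

/-- Modules of equal rank are isomorphic. -/
theorem nonempty_linearEquiv (hR : LGRing.IsLGRing R) [IsAzumaya R A]
    (M N : Type w) [AddCommGroup M] [Module A M] [Module R M] [IsScalarTower R A M] [Module.Finite A M]
    [Module.Projective A M] [AddCommGroup N] [Module A N] [Module R N] [IsScalarTower R A N]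
    [Module.Finite A N] [Module.Projective A N]
    (h : ∀ p : PrimeSpectrum R, Module.rankAtStalk (R := R) N p = Module.rankAtStalk (R := R) M p) :
    Nonempty (M ≃ₗ[A] N) := by
  haveI : Module.Finite R M := Module.Finite.trans A M
  haveI : Module.Finite R N := Module.Finite.trans A N
  haveI := projective_restrict R A M
  haveI := projective_restrict R A N
  obtain ⟨f, hf⟩ := exists_surjective (A := A) hR M N fun p => (h p).le
  exact ⟨LinearEquiv.ofBijective f (bijective_of_rank_eq (f.restrictScalars R) hf h)⟩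

/-- Indecomposable modules over a connected LG-ring are isomorphic. -/
theorem nonempty_linearEquiv_of_indecomposable (hR : LGRing.IsLGRing R) [ConnectedSpace (PrimeSpectrum R)]
    [IsAzumaya R A] (P Q : Type w) [AddCommGroup P] [Module A P] [Module R P] [IsScalarTower R A P]
    [Module.Finite A P] [Module.Projective A P] [Nontrivial P] [AddCommGroup Q] [Module A Q] [Module R Q]
    [IsScalarTower R A Q] [Module.Finite A Q] [Module.Projective A Q]
    (hQ : ∀ e : Module.End A Q, IsIdempotentElem e → e = 0 ∨ e = 1)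
    (h : ∀ p : PrimeSpectrum R, Module.rankAtStalk (R := R) P p ≤ Module.rankAtStalk (R := R) Q p) :
    Nonempty (P ≃ₗ[A] Q) := by
  obtain ⟨f, hf⟩ := exists_surjective (A := A) hR Q P h
  obtain ⟨g, hg⟩ := Module.projective_lifting_property f LinearMap.id hf
  have hfg : ∀ y, f (g y) = y := LinearMap.congr_fun hg
  rcases hQ (g ∘ₗ f) (LinearMap.ext fun x => by simp [hfg]) with h0 | h1
  · obtain ⟨x, hx⟩ := exists_ne (0 : P)
    obtain ⟨y, rfl⟩ := hf x
    refine absurd ?_ hx
    rw [← hfg (f y)]
    have : g (f y) = 0 := LinearMap.congr_fun h0 y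
    rw [this, map_zero]
  · exact ⟨LinearEquiv.ofLinear g f h1 hg⟩

end AModules

end Groth.Agent.Brauer25.LG
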