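import Groth.Agent.Lib.Azumaya.Criteria
import Groth.Agent.Lib.Azumaya.SpreadEtale
import Groth.Agent.Lib.Brauer25.LGAzumaya
import Mathlib.Algebra.Azumaya.Matrix
import Mathlib.LinearAlgebra.Matrix.Charpoly.Coeff
import Mathlib.RingTheory.LocalProperties.Basic
import Mathlib.RingTheory.Flat.FaithfullyFlat.Algebra
import Mathlib.RingTheory.TensorProduct.IncludeLeftSubRight
import Mathlib.RingTheory.Spectrum.Prime.FreeLocus

/-!
# Splitting maps of Azumaya algebras over rings

Invariance of the characteristic polynomial, descent of the reduced trace and characteristic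
polynomial, and faithfully flat splittings.
-/

namespace Groth.Agent.Brauer25.SplitMap

open scoped TensorProduct
open Module (rankAtStalk)

universe u v w z

set_option linter.style.haveILetI false

variable {R : Type u} [CommRing R] {A : Type v} [Ring A] [Algebra R A]
variable {n : ℕ} {S : Type w} [CommRing S] [Algebra R S]

/-- A splitting map. -/
def IsSplitting (F : A →ₐ[R] Matrix (Fin n) (Fin n) S) : Prop :=
  Submodule.span S (Set.range F) = ⊤

/-- The linear extension of `F`. -/
noncomputable def ext (F : A →ₐ[R] Matrix (Fin n) (Fin n) S) : S ⊗[R] A →ₐ[S] Matrix (Fin n) (Fin n) S :=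
  Algebra.TensorProduct.lift (Algebra.ofId S _) F fun x y => Algebra.commutes x (F y)

theorem ext_tmul (F : A →ₐ[R] Matrix (Fin n) (Fin n) S) (s : S) (a : A) : ext F (s ⊗ₜ[R] a) = s • F a := by
  simp [ext, Algebra.ofId_apply, Algebra.smul_def]

theorem ext_surjective {F : A →ₐ[R] Matrix (Fin n) (Fin n) S} (hF : IsSplitting F) :
    Function.Surjective (ext F) := by
  intro M
  have hM : M ∈ Submodule.span S (Set.range F) := by rw [hF]; trivial
  induction hM using Submodule.span_induction with
  | mem M hM => obtain ⟨a, rfl⟩ := hM; exact ⟨1 ⊗ₜ a, by rw [ext_tmul, one_smul]⟩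
  | zero => exact ⟨0, map_zero _⟩
  | add a b _ _ ha hb =>
    obtain ⟨p, rfl⟩ := ha; obtain ⟨q, rfl⟩ := hb
    exact ⟨p + q, map_add _ _ _⟩
  | smul c a _ ha =>
    obtain ⟨p, rfl⟩ := ha
    exact ⟨c • p, map_smul _ _ _⟩

theorem isSplitting_of_algEquiv (f : S ⊗[R] A ≃ₐ[S] Matrix (Fin n) (Fin n) S) :
    IsSplitting ((f.toAlgHom.restrictScalars R).comp Algebra.TensorProduct.includeRight) := by
  rw [IsSplitting, eq_top_iff]
  rintro M -
  obtain ⟨x, rfl⟩ := f.surjective M
  induction x using TensorProduct.induction_on with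
  | zero => simp
  | add x y hx hy => rw [map_add]; exact add_mem hx hy
  | tmul s a =>
    rw [show f (s ⊗ₜ[R] a) = s • f (1 ⊗ₜ[R] a) by
      rw [← map_smul, TensorProduct.smul_tmul', smul_eq_mul, mul_one]]
    exact Submodule.smul_mem _ _ (Submodule.subset_span ⟨a, rfl⟩)

theorem rankAtStalk_matrix [Nontrivial S] (q : PrimeSpectrum S) :
    rankAtStalk (R := S) (Matrix (Fin n) (Fin n) S) q = n ^ 2 := by
  rw [Module.rankAtStalk_eq_finrank_of_free, Pi.natCast_apply, Module.finrank_matrix]
  simp [sq]

theorem ext_bijective [Module.Finite R A] [Module.Projective R A]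
    (hrk : ∀ p : PrimeSpectrum R, rankAtStalk (R := R) A p = n ^ 2)
    {F : A →ₐ[R] Matrix (Fin n) (Fin n) S} (hF : IsSplitting F) : Function.Bijective (ext F) := by
  refine LG.bijective_of_rank_eq (ext F).toLinearMap (ext_surjective hF) fun q => ?_
  haveI : Nontrivial S := q.nontrivial
  rw [rankAtStalk_matrix, Module.rankAtStalk_baseChange, hrk]

/-- Base change of a splitting map. -/
noncomputable def push {W : Type z} [CommRing W] [Algebra R W] (j : S →ₐ[R] W)
    (F : A →ₐ[R] Matrix (Fin n) (Fin n) S) : A →ₐ[R] Matrix (Fin n) (Fin n) W :=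
  j.mapMatrix.comp F

theorem push_apply {W : Type z} [CommRing W] [Algebra R W] (j : S →ₐ[R] W)
    (F : A →ₐ[R] Matrix (Fin n) (Fin n) S) (a : A) : push j F a = (F a).map j := rfl

theorem isSplitting_push {W : Type z} [CommRing W] [Algebra R W] (j : S →ₐ[R] W)
    {F : A →ₐ[R] Matrix (Fin n) (Fin n) S} (hF : IsSplitting F) : IsSplitting (push j F) := by
  classical
  have key : ∀ M ∈ Submodule.span S (Set.range F), M.map j ∈ Submodule.span W (Set.range (push j F)) := by
    intro M hM
    induction hM using Submodule.span_induction with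
    | mem M hM => obtain ⟨a, rfl⟩ := hM; exact Submodule.subset_span ⟨a, rfl⟩
    | zero => rw [Matrix.map_zero _ (map_zero j)]; exact zero_mem _
    | add a b _ _ ha hb => rw [Matrix.map_add _ (map_add j)]; exact add_mem ha hb
    | smul c a _ ha =>
      rw [show (c • a).map j = j c • a.map j from Matrix.ext fun i l => by simp]
      exact Submodule.smul_mem _ _ ha
  rw [IsSplitting, eq_top_iff]
  rintro M -
  rw [Matrix.matrix_eq_sum_single M]
  refine Submodule.sum_mem _ fun i _ => Submodule.sum_mem _ fun l _ => ?_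
  rw [show Matrix.single i l (M i l) = M i l • (Matrix.single i l (1 : S)).map j by
    rw [Matrix.map_single, map_one, Matrix.smul_single, smul_eq_mul, mul_one]]
  exact Submodule.smul_mem _ _ (key _ (by rw [hF]; trivial))

/-- Two splitting maps are conjugate locally. -/
theorem exists_conj_local [Module.Finite R A] [Module.Projective R A]
    (hrk : ∀ p : PrimeSpectrum R, rankAtStalk (R := R) A p = n ^ 2)
    {F G : A →ₐ[R] Matrix (Fin n) (Fin n) S} (hF : IsSplitting F) (hG : IsSplitting G)
    (m : Ideal S) [m.IsPrime] :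
    ∃ U : (Matrix (Fin n) (Fin n) (Localization.AtPrime m))ˣ, ∀ a,
      (G a).map (algebraMap S (Localization.AtPrime m)) =
        (U : Matrix (Fin n) (Fin n) (Localization.AtPrime m)) * (F a).map (algebraMap S (Localization.AtPrime m))
          * ((U⁻¹ : (Matrix (Fin n) (Fin n) (Localization.AtPrime m))ˣ) : Matrix (Fin n) (Fin n) (Localization.AtPrime m)) := by
  rcases Nat.eq_zero_or_pos n with rfl | hn
  · exact ⟨1, fun a => Subsingleton.elim _ _⟩
  haveI : Nonempty (Fin n) := ⟨⟨0, hn⟩⟩
  let W := Localization.AtPrime m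
  let j : S →ₐ[R] W := IsScalarTower.toAlgHom R S W
  let eF := AlgEquiv.ofBijective (ext (push j F)) (ext_bijective hrk (isSplitting_push j hF))
  let eG := AlgEquiv.ofBijective (ext (push j G)) (ext_bijective hrk (isSplitting_push j hG))
  haveI := IsAzumaya.matrix W (Fin n)
  obtain ⟨U, hU⟩ := Azumaya.exists_unit_conj (eF.symm.trans eG)
  refine ⟨U, fun a => ?_⟩
  have h := hU ((F a).map j)
  have h1 : eF ((1 : W) ⊗ₜ[R] a) = (F a).map j := by
    simp [eF, ext_tmul, push_apply]
  have h2 : eG ((1 : W) ⊗ₜ[R] a) = (G a).map j := by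
    simp [eG, ext_tmul, push_apply]
  rw [AlgEquiv.trans_apply, ← h1, AlgEquiv.symm_apply_apply, h2, h1] at h
  exact h

theorem eq_of_localization {x y : S} (h : ∀ (m : Ideal S) [m.IsPrime],
    algebraMap S (Localization.AtPrime m) x = algebraMap S (Localization.AtPrime m) y) : x = y := by
  refine sub_eq_zero.1 (eq_zero_of_localization (x - y) fun J hJ => ?_)
  rw [map_sub, sub_eq_zero]
  exact h J

theorem charpoly_eq [Module.Finite R A] [Module.Projective R A]
    (hrk : ∀ p : PrimeSpectrum R, rankAtStalk (R := R) A p = n ^ 2)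
    {F G : A →ₐ[R] Matrix (Fin n) (Fin n) S} (hF : IsSplitting F) (hG : IsSplitting G) (a : A) :
    (F a).charpoly = (G a).charpoly := by
  ext i
  refine eq_of_localization fun m _ => ?_
  obtain ⟨U, hU⟩ := exists_conj_local hrk hF hG m
  rw [← Polynomial.coeff_map, ← Polynomial.coeff_map, ← Matrix.charpoly_map, ← Matrix.charpoly_map,
    hU a, Matrix.coe_units_inv, Matrix.charpoly_units_conj]

theorem trace_eq [Module.Finite R A] [Module.Projective R A]
    (hrk : ∀ p : PrimeSpectrum R, rankAtStalk (R := R) A p = n ^ 2)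
    {F G : A →ₐ[R] Matrix (Fin n) (Fin n) S} (hF : IsSplitting F) (hG : IsSplitting G) (a : A) :
    (F a).trace = (G a).trace := by
  refine eq_of_localization fun m _ => ?_
  obtain ⟨U, hU⟩ := exists_conj_local hrk hF hG m
  rw [AddMonoidHom.map_trace, AddMonoidHom.map_trace]
  change ((F a).map (algebraMap S (Localization.AtPrime m))).trace =
    ((G a).map (algebraMap S (Localization.AtPrime m))).trace
  rw [hU a, Matrix.trace_units_conj]

theorem algebraMap_injective_of_faithfullyFlat [Module.FaithfullyFlat R S] :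
    Function.Injective (algebraMap R S) :=
  fun x y h => by
    have := Module.FaithfullyFlat.tensorProduct_mk_injective (A := R) (B := S) R
      (show (1 : S) ⊗ₜ[R] x = 1 ⊗ₜ[R] y by
        apply (TensorProduct.rid R S).injective
        simpa [Algebra.smul_def] using h)
    exact this

/-- Descent of an element invariant under the two pullbacks. -/
theorem mem_range_of_eq [Module.FaithfullyFlat R S] {x : S}
    (h : x ⊗ₜ[R] (1 : S) = (1 : S) ⊗ₜ[R] x) : ∃ r : R, algebraMap R S r = x := by
  obtain ⟨r, hr⟩ := ((Algebra.IsEffective.of_faithfullyFlat R S) x).1 (by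
    rw [Algebra.TensorProduct.includeLeftSubRight_apply, h, sub_self])
  exact ⟨r, hr⟩

/-- The reduced trace. -/
theorem exists_trace [Module.Finite R A] [Module.Projective R A]
    (hrk : ∀ p : PrimeSpectrum R, rankAtStalk (R := R) A p = n ^ 2) [Module.FaithfullyFlat R S]
    {F : A →ₐ[R] Matrix (Fin n) (Fin n) S} (hF : IsSplitting F) :
    ∃ τ : A →ₗ[R] R, ∀ a, algebraMap R S (τ a) = (F a).trace := by
  have hr : ∀ a, (F a).trace ∈ LinearMap.range (Algebra.linearMap R S) := fun a => by
    refine mem_range_of_eq ?_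
    have h := trace_eq hrk (isSplitting_push (Algebra.TensorProduct.includeLeft : S →ₐ[R] S ⊗[R] S) hF)
      (isSplitting_push (Algebra.TensorProduct.includeRight : S →ₐ[R] S ⊗[R] S) hF) a
    simp only [Matrix.trace, Matrix.diag, push_apply, Matrix.map_apply] at h
    rw [← map_sum, ← map_sum] at h
    exact h
  let g : A →ₗ[R] S := (Matrix.traceLinearMap (Fin n) R S).comp F.toLinearMap
  let e := LinearEquiv.ofInjective (Algebra.linearMap R S) (algebraMap_injective_of_faithfullyFlat)
  exact ⟨e.symm.toLinearMap.comp (g.codRestrict _ hr), fun a =>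
    congrArg Subtype.val (e.apply_symm_apply ⟨g a, hr a⟩)⟩

/-- The reduced characteristic polynomial. -/
theorem exists_charpoly [Module.Finite R A] [Module.Projective R A]
    (hrk : ∀ p : PrimeSpectrum R, rankAtStalk (R := R) A p = n ^ 2) [Module.FaithfullyFlat R S]
    {F : A →ₐ[R] Matrix (Fin n) (Fin n) S} (hF : IsSplitting F) (a : A) :
    ∃ P : Polynomial R, P.map (algebraMap R S) = (F a).charpoly := by
  refine (Polynomial.mem_lifts _).1 ((Polynomial.lifts_iff_coeff_lifts _).2 fun i => ?_)
  refine mem_range_of_eq ?_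
  have h := charpoly_eq hrk (isSplitting_push (Algebra.TensorProduct.includeLeft : S →ₐ[R] S ⊗[R] S) hF)
    (isSplitting_push (Algebra.TensorProduct.includeRight : S →ₐ[R] S ⊗[R] S) hF) a
  rw [push_apply, push_apply] at h
  have h' := congrArg (fun P : Polynomial (S ⊗[R] S) => P.coeff i) h
  erw [Matrix.charpoly_map (F a) (Algebra.TensorProduct.includeLeft : S →ₐ[R] S ⊗[R] S).toRingHom,
    Matrix.charpoly_map (F a) (Algebra.TensorProduct.includeRight : S →ₐ[R] S ⊗[R] S).toRingHom,
    Polynomial.coeff_map, Polynomial.coeff_map] at h'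
  exact h'

/-- Elements killed in a faithfully flat splitting vanish. -/
theorem eq_zero_of_map_eq_zero [Module.Finite R A] [Module.Projective R A]
    (hrk : ∀ p : PrimeSpectrum R, rankAtStalk (R := R) A p = n ^ 2) [Module.FaithfullyFlat R S]
    {F : A →ₐ[R] Matrix (Fin n) (Fin n) S} (hF : IsSplitting F) {a : A} (h : F a = 0) : a = 0 := by
  refine Module.FaithfullyFlat.tensorProduct_mk_injective (A := R) (B := S) A
    (show (1 : S) ⊗ₜ[R] a = 1 ⊗ₜ[R] 0 from (ext_bijective hrk hF).1 ?_)
  rw [ext_tmul, ext_tmul, h, map_zero]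

section exists_split

variable {R : Type u} [CommRing R] {A : Type u} [Ring A] [Algebra R A] [IsAzumaya R A]

/-- A faithfully flat splitting exists. -/
theorem exists_isSplitting (hrk : ∀ p : PrimeSpectrum R, rankAtStalk (R := R) A p = n ^ 2) :
    ∃ (S : Type u) (_ : CommRing S) (_ : Algebra R S) (_ : Module.FaithfullyFlat R S)
      (F : A →ₐ[R] Matrix (Fin n) (Fin n) S), IsSplitting F := by
  classical
  have h := fun p : PrimeSpectrum R => Azumaya.exists_finite_etale_split A p.asIdeal
  choose f hf R' i1 i2 i3 i4 hfin het hff r hr hφ using h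
  have hspan : Ideal.span (Set.range f) = ⊤ := by
    by_contra hne
    obtain ⟨m, hm, hle⟩ := Ideal.exists_le_maximal _ hne
    exact hf ⟨m, hm.isPrime⟩ (hle (Ideal.subset_span ⟨_, rfl⟩))
  obtain ⟨t, ht⟩ := (Ideal.eq_top_iff_one _).1 hspan |> Submodule.mem_span_finite_of_mem_span
  choose idx hidx using fun x : t => ht.1 x.2
  haveI hflat : ∀ l : t, Module.Flat R (R' (idx l)) := fun l => by
    haveI : Module.Flat (Localization.Away (f (idx l))) (R' (idx l)) := inferInstance
    haveI : Module.Flat R (Localization.Away (f (idx l))) :=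
      IsLocalization.flat _ (Submonoid.powers (f (idx l)))
    exact Module.Flat.trans R (Localization.Away (f (idx l))) (R' (idx l))
  have hcomap : ∀ (l : t) (q : PrimeSpectrum R), f (idx l) ∉ q.asIdeal →
      ∃ q' : PrimeSpectrum (R' (idx l)), PrimeSpectrum.comap (algebraMap R (R' (idx l))) q' = q := by
    intro l q hq
    have hmem : q ∈ Set.range (PrimeSpectrum.comap (algebraMap R (Localization.Away (f (idx l))))) := by
      rw [PrimeSpectrum.localization_away_comap_range (Localization.Away (f (idx l))) (f (idx l))]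
      exact hq
    obtain ⟨q₁, hq₁⟩ := hmem
    obtain ⟨q', hq'⟩ := PrimeSpectrum.comap_surjective_of_faithfullyFlat
      (A := Localization.Away (f (idx l))) (B := R' (idx l)) q₁
    refine ⟨q', ?_⟩
    rw [← hq₁, ← hq', IsScalarTower.algebraMap_eq R (Localization.Away (f (idx l))) (R' (idx l)),
      PrimeSpectrum.comap_comp_apply]
  haveI : Module.Flat R (∀ l : t, R' (idx l)) := Module.Flat.of_linearEquiv
    (DFinsupp.linearEquivFunOnFintype (R := R) (M := fun l : t => R' (idx l))).symm
  haveI : Module.FaithfullyFlat R (∀ l : t, R' (idx l)) := Module.FaithfullyFlat.of_comap_surjective fun q => by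
    have hex : ∃ l : t, f (idx l) ∉ q.asIdeal := by
      by_contra hcon
      push Not at hcon
      refine q.isPrime.ne_top ((Ideal.eq_top_iff_one _).2 ?_)
      refine (Submodule.span_le (p := q.asIdeal)).2 ?_ ht.2
      intro x hx
      have := hcon ⟨x, hx⟩
      rwa [hidx] at this
    obtain ⟨l, hl⟩ := hex
    obtain ⟨q', hq'⟩ := hcomap l q hl
    refine ⟨PrimeSpectrum.comap (Pi.evalRingHom (fun l : t => R' (idx l)) l) q', ?_⟩
    rw [← hq', ← PrimeSpectrum.comap_comp_apply]
    rfl
  have hrn : ∀ l : t, r (idx l) = n := fun l => by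
    obtain ⟨q', hq'⟩ := hcomap l (idx l) (hf _)
    obtain ⟨φ⟩ := hφ (idx l)
    haveI : Nontrivial (R' (idx l)) := q'.nontrivial
    have h1 := congrFun (Module.rankAtStalk_eq_of_equiv φ.toLinearEquiv) q'
    rw [rankAtStalk_matrix, Module.rankAtStalk_baseChange, hrk] at h1
    exact (Nat.pow_left_injective two_ne_zero h1).symm
  have hφ' : ∀ l : t, Nonempty (R' (idx l) ⊗[R] A ≃ₐ[R' (idx l)] Matrix (Fin n) (Fin n) (R' (idx l))) :=
    fun l => hrn l ▸ hφ (idx l)
  let φ := fun l => (hφ' l).some
  let Fl : ∀ l : t, A →ₐ[R] Matrix (Fin n) (Fin n) (R' (idx l)) := fun l =>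
    (((φ l).toAlgHom.restrictScalars R).comp Algebra.TensorProduct.includeRight)
  let F : A →ₐ[R] Matrix (Fin n) (Fin n) (∀ l : t, R' (idx l)) :=
    { toFun := fun a => Matrix.of fun i j l => Fl l a i j
      map_one' := by
        ext i j l
        by_cases hij : i = j <;> simp [Matrix.one_apply, hij]
      map_mul' := fun a b => by
        ext i j l
        simp [Matrix.mul_apply, Finset.sum_apply]
      map_zero' := by ext i j l; simp
      map_add' := fun a b => by ext i j l; simp
      commutes' := fun c => by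
        ext i j l
        by_cases hij : i = j <;> simp [Matrix.algebraMap_matrix_apply, hij] }
  refine ⟨(∀ l : t, R' (idx l)), inferInstance, inferInstance, inferInstance, F, ?_⟩
  rw [IsSplitting, eq_top_iff]
  rintro M -
  have key : ∀ (l : t) (N : Matrix (Fin n) (Fin n) (R' (idx l))),
      N ∈ Submodule.span (R' (idx l)) (Set.range (Fl l)) →
      ∀ c : R' (idx l), N.map (fun x => (Pi.single l (c * x) : (∀ l : t, R' (idx l)))) ∈ Submodule.span (∀ l : t, R' (idx l)) (Set.range F) := by
    intro l N hN
    induction hN using Submodule.span_induction with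
    | mem N hN =>
      obtain ⟨a, rfl⟩ := hN
      intro c
      rw [show (Fl l a).map (fun x => (Pi.single l (c * x) : (∀ l : t, R' (idx l)))) = (Pi.single l c : (∀ l : t, R' (idx l))) • F a from
        Matrix.ext fun i j => funext fun l' => by
          rcases eq_or_ne l' l with rfl | hne
          · simp [F]
          · simp [F, hne]]
      exact Submodule.smul_mem _ _ (Submodule.subset_span ⟨a, rfl⟩)
    | zero =>
      intro c
      rw [Matrix.map_zero _ (by simp)]
      exact zero_mem _
    | add N N' _ _ hN hN' =>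
      intro c
      rw [Matrix.map_add (fun x => (Pi.single l (c * x) : (∀ l : t, R' (idx l)))) (fun x y => by rw [mul_add, Pi.single_add])]
      exact add_mem (hN c) (hN' c)
    | smul d N _ hN =>
      intro c
      rw [show (d • N).map (fun x => (Pi.single l (c * x) : (∀ l : t, R' (idx l)))) = N.map (fun x => (Pi.single l ((c * d) * x) : (∀ l : t, R' (idx l)))) from
        Matrix.ext fun i j => by simp [mul_assoc]]
      exact hN _
  have hM : M = ∑ l : t, (M.map fun x => x l).map (fun x => (Pi.single l (1 * x) : (∀ l : t, R' (idx l)))) := by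
    refine Matrix.ext fun i j => ?_
    simp only [Matrix.sum_apply, Matrix.map_apply, one_mul]
    exact (Finset.univ_sum_single (M i j)).symm
  rw [hM]
  exact Submodule.sum_mem _ fun l _ => key l _ (by rw [isSplitting_of_algEquiv (φ l)]; trivial) 1

end exists_split

end Groth.Agent.Brauer25.SplitMap
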