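import Groth.Agent.Lib.Azumaya.Criteria
import Mathlib.RingTheory.Idempotents
import Mathlib.RingTheory.Spectrum.Prime.FreeLocus
import Mathlib.LinearAlgebra.Contraction
import Mathlib.RingTheory.LocalProperties.Basic

/-!
# Corners of Azumaya algebras
-/

set_option autoImplicit false

universe u v w

open TensorProduct

namespace Groth.Agent.Brauer25.AzCorner

variable {R : Type u} [CommRing R] {A : Type v} [Ring A] [Algebra R A]

/-- The corner `e A e`. -/
abbrev Cor {e : A} (he : IsIdempotentElem e) : Type v := he.Corner

noncomputable instance corAlgebra {e : A} (he : IsIdempotentElem e) : Algebra R (Cor he) :=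
  RingHom.toAlgebra'
    { toFun := fun r => ⟨r • e, r • 1, by simp [he.eq]⟩
      map_one' := Subtype.ext (one_smul R e)
      map_mul' := fun r s => Subtype.ext (by
        show (r * s) • e = (r • e) * (s • e)
        rw [smul_mul_smul_comm, he.eq])
      map_zero' := Subtype.ext (zero_smul R e)
      map_add' := fun r s => Subtype.ext (add_smul r s e) }
    (fun r x => Subtype.ext (by
      obtain ⟨h1, h2⟩ := (Subsemigroup.mem_corner_iff he).1 x.2
      show (r • e) * x.1 = x.1 * (r • e)
      rw [smul_mul_assoc, mul_smul_comm, h1, h2]))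

theorem val_algebraMap {e : A} (he : IsIdempotentElem e) (r : R) :
    (algebraMap R (Cor he) r).1 = r • e := rfl

theorem val_mul {e : A} {he : IsIdempotentElem e} (x y : Cor he) : (x * y).1 = x.1 * y.1 := rfl

theorem val_one {e : A} {he : IsIdempotentElem e} : (1 : Cor he).1 = e := rfl

theorem cor_left {e : A} {he : IsIdempotentElem e} (x : Cor he) : e * x.1 = x.1 :=
  ((Subsemigroup.mem_corner_iff he).1 x.2).1

theorem cor_right {e : A} {he : IsIdempotentElem e} (x : Cor he) : x.1 * e = x.1 :=
  ((Subsemigroup.mem_corner_iff he).1 x.2).2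

/-- The inclusion of a corner. -/
noncomputable def incl {e : A} (he : IsIdempotentElem e) : Cor he →ₗ[R] A where
  toFun x := x.1
  map_add' _ _ := rfl
  map_smul' r x := by
    rw [Algebra.smul_def, val_mul, val_algebraMap, smul_mul_assoc, cor_left, RingHom.id_apply]

/-- The projection onto a corner. -/
noncomputable def pr {e : A} (he : IsIdempotentElem e) : A →ₗ[R] Cor he where
  toFun z := ⟨e * z * e, z, rfl⟩
  map_add' x y := Subtype.ext (by show e * (x + y) * e = e * x * e + e * y * e; rw [mul_add, add_mul])
  map_smul' r x := Subtype.ext (by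
    show e * (r • x) * e = ((algebraMap R (Cor he) r).1 * (e * x * e))
    rw [val_algebraMap]
    simp only [mul_smul_comm, smul_mul_assoc, ← mul_assoc, he.eq])

@[simp] theorem incl_apply {e : A} {he : IsIdempotentElem e} (x : Cor he) : incl (R := R) he x = x.1 := rfl

@[simp] theorem pr_val {e : A} {he : IsIdempotentElem e} (z : A) : (pr (R := R) he z).1 = e * z * e := rfl

/-- The module `e A f`. -/
noncomputable def Sand (R : Type u) [CommRing R] {A : Type v} [Ring A] [Algebra R A] (e f : A) :
    Submodule R A :=
  LinearMap.range (LinearMap.mulLeftRight R (e, f))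

variable {e f : A}

theorem mem_sand_iff (he : IsIdempotentElem e) (hf : IsIdempotentElem f) {x : A} :
    x ∈ Sand R e f ↔ e * x = x ∧ x * f = x := by
  constructor
  · rintro ⟨z, rfl⟩
    simp only [LinearMap.mulLeftRight_apply]
    exact ⟨by rw [← mul_assoc, ← mul_assoc, he.eq], by rw [mul_assoc, hf.eq]⟩
  · rintro ⟨h1, h2⟩
    exact ⟨x, by simp only [LinearMap.mulLeftRight_apply]; rw [h1, h2]⟩

/-- The projection onto `e A f`. -/
noncomputable def sandProj (e f : A) : A →ₗ[R] Sand R e f := (LinearMap.mulLeftRight R (e, f)).rangeRestrict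

theorem sandProj_val (z : A) : (sandProj (R := R) e f z : A) = e * z * f := by
  show LinearMap.mulLeftRight R (e, f) z = _
  simp [LinearMap.mulLeftRight_apply]

theorem sandProj_of_mem (he : IsIdempotentElem e) (hf : IsIdempotentElem f) (x : Sand R e f) :
    sandProj (R := R) e f (x : A) = x := by
  obtain ⟨h1, h2⟩ := (mem_sand_iff he hf).1 x.2
  exact Subtype.ext (by rw [sandProj_val, h1, h2])

theorem sand_finite (he : IsIdempotentElem e) (hf : IsIdempotentElem f) [Module.Finite R A] :
    Module.Finite R (Sand R e f) :=
  Module.Finite.of_surjective (sandProj e f) fun x => ⟨x, sandProj_of_mem he hf x⟩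

theorem sand_projective (he : IsIdempotentElem e) (hf : IsIdempotentElem f) [Module.Projective R A] :
    Module.Projective R (Sand R e f) :=
  Module.Projective.of_split (Sand R e f).subtype (sandProj e f)
    (LinearMap.ext fun x => sandProj_of_mem he hf x)

/-- The two-sided action of the corners on `e A f`. -/
noncomputable def psi (he : IsIdempotentElem e) (hf : IsIdempotentElem f) :
    Cor he ⊗[R] (Cor hf)ᵐᵒᵖ →ₐ[R] Module.End R (Sand R e f) :=
  Algebra.TensorProduct.lift
    ({ toFun := fun x => (sandProj e f) ∘ₗ (LinearMap.mulLeft R x.1) ∘ₗ (Sand R e f).subtype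
       map_one' := LinearMap.ext fun m => by
         obtain ⟨h1, h2⟩ := (mem_sand_iff he hf).1 m.2
         exact Subtype.ext (by simp [sandProj_val, val_one, h1, h2])
       map_mul' := fun x y => LinearMap.ext fun m => by
         obtain ⟨h1, h2⟩ := (mem_sand_iff he hf).1 m.2
         refine Subtype.ext ?_
         simp only [LinearMap.coe_comp, Function.comp_apply, Submodule.coe_subtype,
           LinearMap.mulLeft_apply, Module.End.mul_apply, sandProj_val, val_mul]
         simp only [mul_assoc, h2, hf.eq]
         simp only [← mul_assoc, he.eq, cor_left, cor_right]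
       map_zero' := LinearMap.ext fun m => Subtype.ext (by
         show ((sandProj (R := R) e f) ((0 : A) * (m : A)) : A) = 0
         rw [sandProj_val, zero_mul, mul_zero, zero_mul])
       map_add' := fun x y => LinearMap.ext fun m => Subtype.ext (by
         show ((sandProj (R := R) e f) ((x.1 + y.1) * (m : A)) : A) =
           ((sandProj (R := R) e f) (x.1 * m) : A) + ((sandProj (R := R) e f) (y.1 * m) : A)
         simp only [sandProj_val, add_mul, mul_add])
       commutes' := fun r => LinearMap.ext fun m => by
         obtain ⟨h1, h2⟩ := (mem_sand_iff he hf).1 m.2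
         exact Subtype.ext (by
           simp [sandProj_val, val_algebraMap, h1, h2, Module.algebraMap_end_apply]) } :
      Cor he →ₐ[R] Module.End R (Sand R e f))
    ({ toFun := fun y => (sandProj e f) ∘ₗ (LinearMap.mulRight R y.unop.1) ∘ₗ (Sand R e f).subtype
       map_one' := LinearMap.ext fun m => by
         obtain ⟨h1, h2⟩ := (mem_sand_iff he hf).1 m.2
         exact Subtype.ext (by simp [sandProj_val, val_one, h1, h2])
       map_mul' := fun x y => LinearMap.ext fun m => by
         obtain ⟨h1, h2⟩ := (mem_sand_iff he hf).1 m.2
         refine Subtype.ext ?_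
         simp only [LinearMap.coe_comp, Function.comp_apply, Submodule.coe_subtype,
           LinearMap.mulRight_apply, Module.End.mul_apply, sandProj_val, MulOpposite.unop_mul, val_mul]
         simp only [← mul_assoc, h1, he.eq]
         simp only [mul_assoc, hf.eq, cor_left, cor_right]
       map_zero' := LinearMap.ext fun m => Subtype.ext (by
         show ((sandProj (R := R) e f) ((m : A) * (0 : A)) : A) = 0
         rw [sandProj_val, mul_zero, mul_zero, zero_mul])
       map_add' := fun x y => LinearMap.ext fun m => Subtype.ext (by
         show ((sandProj (R := R) e f) ((m : A) * (x.unop.1 + y.unop.1)) : A) =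
           ((sandProj (R := R) e f) (m * x.unop.1) : A) + ((sandProj (R := R) e f) (m * y.unop.1) : A)
         simp only [sandProj_val, add_mul, mul_add])
       commutes' := fun r => LinearMap.ext fun m => by
         obtain ⟨h1, h2⟩ := (mem_sand_iff he hf).1 m.2
         exact Subtype.ext (by
           simp [sandProj_val, val_algebraMap, MulOpposite.algebraMap_apply, h1, h2,
             Module.algebraMap_end_apply]) } :
      (Cor hf)ᵐᵒᵖ →ₐ[R] Module.End R (Sand R e f))
    (fun x y => LinearMap.ext fun m => by
      obtain ⟨h1, h2⟩ := (mem_sand_iff he hf).1 m.2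
      refine Subtype.ext ?_
      simp only [AlgHom.coe_mk, RingHom.coe_mk, MonoidHom.coe_mk, OneHom.coe_mk, Module.End.mul_apply,
        LinearMap.coe_comp, Function.comp_apply, Submodule.coe_subtype, LinearMap.mulLeft_apply,
        LinearMap.mulRight_apply, sandProj_val]
      simp only [← mul_assoc, h1, cor_left]
      simp only [mul_assoc, h2, cor_right])

theorem psi_tmul (he : IsIdempotentElem e) (hf : IsIdempotentElem f) (x : Cor he) (y : (Cor hf)ᵐᵒᵖ)
    (m : Sand R e f) : (psi he hf (x ⊗ₜ y) m : A) = x.1 * m * y.unop.1 := by
  obtain ⟨h1, h2⟩ := (mem_sand_iff he hf).1 m.2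
  simp only [psi, Algebra.TensorProduct.lift_tmul, AlgHom.coe_mk, RingHom.coe_mk, MonoidHom.coe_mk,
    OneHom.coe_mk, Module.End.mul_apply, LinearMap.coe_comp, Function.comp_apply,
    Submodule.coe_subtype, LinearMap.mulLeft_apply, LinearMap.mulRight_apply, sandProj_val]
  simp only [← mul_assoc, he.eq, cor_left, h1]
  simp only [mul_assoc, hf.eq, cor_right]

theorem psi_bijective [IsAzumaya R A] (he : IsIdempotentElem e) (hf : IsIdempotentElem f) :
    Function.Bijective (psi (R := R) he hf) := by
  let Φ := AlgHom.mulLeftRight R A
  let ι := (Sand R e f).subtype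
  let π : A →ₗ[R] Sand R e f := sandProj e f
  let opI : (Cor hf)ᵐᵒᵖ →ₗ[R] Aᵐᵒᵖ :=
    (MulOpposite.opLinearEquiv R).toLinearMap ∘ₗ incl hf ∘ₗ (MulOpposite.opLinearEquiv R).symm.toLinearMap
  let opP : Aᵐᵒᵖ →ₗ[R] (Cor hf)ᵐᵒᵖ :=
    (MulOpposite.opLinearEquiv R).toLinearMap ∘ₗ pr hf ∘ₗ (MulOpposite.opLinearEquiv R).symm.toLinearMap
  let s := TensorProduct.map (incl (R := R) he) opI
  let ρ := TensorProduct.map (pr (R := R) he) opP
  have hρs : ∀ t, ρ (s t) = t := by
    intro t
    induction t using TensorProduct.induction_on with
    | zero => simp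
    | add a b ha hb => rw [map_add, map_add, ha, hb]
    | tmul x y =>
      simp only [s, ρ, TensorProduct.map_tmul]
      congr 1
      · exact Subtype.ext (by simp [cor_left, cor_right])
      · apply MulOpposite.unop_injective
        exact Subtype.ext (by simp [opI, opP, cor_left, cor_right])
  have hs : ∀ t z, Φ (s t) z = ι (psi he hf t (π z)) := by
    intro t z
    induction t using TensorProduct.induction_on with
    | zero => simp
    | add a b ha hb => simp only [map_add, LinearMap.add_apply, ha, hb]
    | tmul x y =>
      simp only [s, ι, π, Φ, TensorProduct.map_tmul, AlgHom.mulLeftRight_apply, Submodule.coe_subtype,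
        psi_tmul, sandProj_val]
      simp only [opI, LinearMap.coe_comp, LinearEquiv.coe_coe, Function.comp_apply,
        MulOpposite.coe_opLinearEquiv_symm, MulOpposite.coe_opLinearEquiv, incl_apply, MulOpposite.unop_op]
      simp only [← mul_assoc, cor_right]
      simp only [mul_assoc, cor_left]
  refine ⟨fun a b hab => ?_, fun g => ?_⟩
  · rw [← hρs a, ← hρs b, (IsAzumaya.bij (R := R) (A := A)).1
      (LinearMap.ext fun z => by rw [hs, hs, hab] : Φ (s a) = Φ (s b))]
  · obtain ⟨z, hz⟩ := (IsAzumaya.bij (R := R) (A := A)).2 (ι ∘ₗ g ∘ₗ π)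
    refine ⟨ρ z, ?_⟩
    have key : ∀ (z : A ⊗[R] Aᵐᵒᵖ) (m : Sand R e f), psi he hf (ρ z) m = π (Φ z (m : A)) := by
      intro z m
      obtain ⟨h1, h2⟩ := (mem_sand_iff he hf).1 m.2
      induction z using TensorProduct.induction_on with
      | zero => simp
      | add a b ha hb => simp only [map_add, LinearMap.add_apply, ha, hb]
      | tmul x y =>
        refine Subtype.ext ?_
        simp only [ρ, π, Φ, TensorProduct.map_tmul, psi_tmul, AlgHom.mulLeftRight_apply, sandProj_val]
        simp only [opP, LinearMap.coe_comp, LinearEquiv.coe_coe, Function.comp_apply,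
          MulOpposite.coe_opLinearEquiv_symm, MulOpposite.coe_opLinearEquiv, pr_val, MulOpposite.unop_op]
        calc e * x * e * (m : A) * (f * y.unop * f) = e * x * ((e * m) * f) * y.unop * f := by
              simp only [mul_assoc]
          _ = e * (x * m * y.unop) * f := by rw [h1, h2]; simp only [mul_assoc]
    refine LinearMap.ext fun m => ?_
    rw [key, show Φ z = _ from hz]
    simp [π, ι, sandProj_of_mem he hf]

/-- The corner as a module is `e A e`. -/
noncomputable def corEquiv (he : IsIdempotentElem e) : Cor he ≃ₗ[R] Sand R e e :=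
  LinearEquiv.ofLinearMap
    ((incl he).codRestrict (Sand R e e) fun x => (mem_sand_iff he he).2 ⟨cor_left x, cor_right x⟩)
    (pr he ∘ₗ (Sand R e e).subtype)
    (LinearMap.ext fun x => by
      obtain ⟨h1, h2⟩ := (mem_sand_iff he he).1 x.2
      exact Subtype.ext (by simp [h1, h2]))
    (LinearMap.ext fun x => Subtype.ext (by simp [cor_left, cor_right]))

/-- On a connected base, a nonzero finite projective module is faithful. -/
theorem faithful_of_nontrivial [ConnectedSpace (PrimeSpectrum R)] (M : Type w) [AddCommGroup M]
    [Module R M] [Module.Finite R M] [Module.Projective R M] [Nontrivial M] : FaithfulSMul R M := by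
  haveI := Module.finitePresentation_of_projective R M
  have hloc := Module.isLocallyConstant_rankAtStalk (R := R) (M := M)
  have hpos : ∀ p, 0 < Module.rankAtStalk (R := R) M p := by
    intro p
    by_contra h
    refine not_subsingleton M ((Module.rankAtStalk_eq_zero_iff_subsingleton (R := R)).1 (funext fun q => ?_))
    rw [hloc.apply_eq_of_preconnectedSpace q p]
    show _ = 0
    omega
  constructor
  intro a b hab
  rw [← sub_eq_zero]
  refine eq_zero_of_localization _ fun J hJ => ?_
  have hp := Module.rankAtStalk_pos_iff_mem_support (R := R) (M := M) ⟨J, hJ.isPrime⟩ |>.1 (hpos _)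
  rw [Module.mem_support_iff] at hp
  haveI := Module.free_of_flat_of_isLocalRing (R := Localization.AtPrime J)
    (P := LocalizedModule J.primeCompl M)
  by_contra hne
  have hzero : ∀ x : LocalizedModule J.primeCompl M,
      algebraMap R (Localization.AtPrime J) (a - b) • x = 0 := by
    intro x
    rw [algebraMap_smul]
    induction x using LocalizedModule.induction_on with
    | _ m s => rw [LocalizedModule.smul'_mk, sub_smul, hab, sub_self, LocalizedModule.zero_mk]
  obtain ⟨ι, bas⟩ := Module.Free.exists_basis (R := Localization.AtPrime J)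
    (M := LocalizedModule J.primeCompl M)
  obtain ⟨i⟩ := bas.index_nonempty
  apply hne
  have := congrArg (fun y => bas.repr y i) (hzero (bas i))
  simpa using this

/-- Corners at nonzero idempotents of Azumaya algebras over connected rings are Azumaya. -/
theorem isAzumaya_cor [ConnectedSpace (PrimeSpectrum R)] [IsAzumaya R A] (he : IsIdempotentElem e)
    (h0 : e ≠ 0) : IsAzumaya R (Cor he) := by
  haveI : Module.Finite R (Sand R e e) := sand_finite he he
  haveI : Module.Projective R (Sand R e e) := sand_projective he he
  haveI : Module.Finite R (Cor he) := Module.Finite.equiv (corEquiv he).symm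
  haveI : Module.Projective R (Cor he) := Module.Projective.of_equiv (corEquiv he).symm
  haveI : Nontrivial (Cor he) := ⟨⟨1, 0, fun h => h0 (congrArg Subtype.val h)⟩⟩
  haveI := faithful_of_nontrivial (R := R) (Cor he)
  refine { bij := ?_ }
  have key : ∀ t, AlgHom.mulLeftRight R (Cor he) t =
      (corEquiv he).symm.conj (psi (R := R) he he t) := by
    intro t
    induction t using TensorProduct.induction_on with
    | zero => simp
    | add a b ha hb => simp only [map_add, ha, hb]
    | tmul x y =>
      refine LinearMap.ext fun z => Subtype.ext ?_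
      have h1 := psi_tmul (R := R) he he x y (corEquiv he z)
      simp only [AlgHom.mulLeftRight_apply, LinearEquiv.conj_apply_apply, LinearEquiv.symm_symm]
      show (x * z * y.unop).1 = e * ((psi (R := R) he he (x ⊗ₜ y) (corEquiv he z) : Sand R e e) : A) * e
      rw [h1]
      show x.1 * z.1 * y.unop.1 = e * (x.1 * z.1 * y.unop.1) * e
      simp only [mul_assoc, cor_right]
      simp only [← mul_assoc, cor_left]
  have hfun : ⇑(AlgHom.mulLeftRight R (Cor he)) = (corEquiv (R := R) he).symm.conj ∘ psi he he := funext key
  rw [hfun]
  exact (LinearEquiv.bijective _).comp (psi_bijective he he)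

/-- `End M ⊗ End N = End (M ⊗ N)`. -/
noncomputable def endTensorEquiv (M : Type v) [AddCommGroup M] [Module R M] [Module.Finite R M]
    [Module.Projective R M] (N : Type w) [AddCommGroup N] [Module R N] [Module.Finite R N]
    [Module.Projective R N] : Module.End R M ⊗[R] Module.End R N ≃ₐ[R] Module.End R (M ⊗[R] N) :=
  AlgEquiv.ofBijective (Module.endTensorEndAlgHom (R := R) (S := R) (A := R)) (by
    have h : ⇑(Module.endTensorEndAlgHom (R := R) (S := R) (A := R) (M := M) (N := N)) =
        ⇑(homTensorHomEquiv R M N M N) := by
      funext x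
      induction x using TensorProduct.induction_on with
      | zero => simp
      | add a b ha hb => simp only [map_add, ha, hb]
      | tmul a b =>
        rw [Module.endTensorEndAlgHom_apply, homTensorHomEquiv_apply, TensorProduct.homTensorHomMap_apply]
        rfl
    rw [h]
    exact LinearEquiv.bijective _)

/-- The corner of `1` is the algebra itself. -/
noncomputable def corOne : A ≃ₐ[R] Cor (IsIdempotentElem.one : IsIdempotentElem (1 : A)) :=
  AlgEquiv.ofLinearEquiv
    (LinearEquiv.ofLinearMap (pr _) (incl _)
      (LinearMap.ext fun x => Subtype.ext (by simp))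
      (LinearMap.ext fun x => by simp))
    (Subtype.ext (by simp [val_one]))
    (fun x y => Subtype.ext (by simp [val_mul]))

end Groth.Agent.Brauer25.AzCorner
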