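import Mathlib

/-!
An isomorphism `End F ≃ End G` of endomorphism algebras of faithfully projective modules is induced by an
isomorphism `F ⊗ L ≃ G` with `L` invertible.
-/

set_option autoImplicit false

universe u v

open TensorProduct

namespace Groth.Agent.Brauer25.EndIso

variable {A : Type u} [CommRing A] {F : Type v} [AddCommGroup F] [Module A F]
  {G : Type v} [AddCommGroup G] [Module A G]

/-- The intertwiners of `φ`. -/
def Inter (φ : Module.End A F ≃ₐ[A] Module.End A G) : Submodule A (F →ₗ[A] G) where
  carrier := {ξ | ∀ f x, φ f (ξ x) = ξ (f x)}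
  add_mem' h h' f x := by simp [h f x, h' f x]
  zero_mem' f x := by simp
  smul_mem' c ξ h f x := by simp [h f x]

variable (φ : Module.End A F ≃ₐ[A] Module.End A G)

theorem inter_spec (ξ : Inter φ) (f : Module.End A F) (x : F) : φ f (ξ.1 x) = ξ.1 (f x) := ξ.2 f x

/-- Evaluation. -/
noncomputable def ev : F ⊗[A] Inter φ →ₗ[A] G :=
  TensorProduct.lift ((Inter φ).subtype.flip)

@[simp] theorem ev_tmul (x : F) (ξ : Inter φ) : ev φ (x ⊗ₜ ξ) = ξ.1 x := rfl

/-- `y ↦ φ(μ • y) g`. -/
noncomputable def mkInter (μ : F →ₗ[A] A) : G →ₗ[A] Inter φ where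
  toFun g := ⟨{ toFun := fun y => φ (LinearMap.smulRight μ y) g
                map_add' := fun y y' => by
                  rw [show LinearMap.smulRight μ (y + y') = LinearMap.smulRight μ y + LinearMap.smulRight μ y'
                    from LinearMap.ext fun z => by simp, map_add, LinearMap.add_apply]
                map_smul' := fun c y => by
                  rw [show LinearMap.smulRight μ (c • y) = c • LinearMap.smulRight μ y
                    from LinearMap.ext fun z => by simp [smul_comm c], map_smul, LinearMap.smul_apply,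
                    RingHom.id_apply] },
    fun f y => by
      show φ f (φ (LinearMap.smulRight μ y) g) = φ (LinearMap.smulRight μ (f y)) g
      rw [← Module.End.mul_apply, ← map_mul]
      congr 2
      ext z
      simp⟩
  map_add' g g' := Subtype.ext (LinearMap.ext fun y => (φ (LinearMap.smulRight μ y)).map_add g g')
  map_smul' c g := Subtype.ext (LinearMap.ext fun y => (φ (LinearMap.smulRight μ y)).map_smul c g)

theorem mkInter_apply (μ : F →ₗ[A] A) (g : G) (y : F) :
    (mkInter φ μ g).1 y = φ (LinearMap.smulRight μ y) g := rfl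

theorem ev_bijective [Module.Finite A F] [Module.Projective A F] : Function.Bijective (ev φ) := by
  obtain ⟨n, π, ι, -, -, hπι⟩ := Module.Finite.exists_comp_eq_id_of_projective A F
  let μ : Fin n → (F →ₗ[A] A) := fun k => (LinearMap.proj k).comp ι
  let v : Fin n → F := fun k => π (Pi.single k 1)
  have hid : ∑ k, LinearMap.smulRight (μ k) (v k) = LinearMap.id := by
    ext x
    simp only [LinearMap.coe_sum, Finset.sum_apply, LinearMap.smulRight_apply, μ, v, LinearMap.comp_apply,
      LinearMap.proj_apply, LinearMap.id_apply, ← map_smul]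
    rw [← map_sum, ← pi_eq_sum_univ' (ι x)]
    exact LinearMap.congr_fun hπι x
  let inv : G →ₗ[A] F ⊗[A] Inter φ :=
    ∑ k, (TensorProduct.mk A F (Inter φ) (v k)).comp (mkInter φ (μ k))
  refine Function.bijective_iff_has_inverse.2 ⟨inv, fun z => ?_, fun g => ?_⟩
  · induction z using TensorProduct.induction_on with
    | zero => simp
    | add x y hx hy => rw [map_add, map_add, hx, hy]
    | tmul x ξ =>
      have h : ∀ k, mkInter φ (μ k) (ξ.1 x) = μ k x • ξ := fun k =>
        Subtype.ext (LinearMap.ext fun y => by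
          rw [mkInter_apply, inter_spec]
          simp)
      simp only [ev_tmul, inv, LinearMap.coe_sum, Finset.sum_apply, LinearMap.comp_apply,
        TensorProduct.mk_apply, h, TensorProduct.tmul_smul, TensorProduct.smul_tmul']
      rw [← TensorProduct.sum_tmul]
      congr 1
      simpa using LinearMap.congr_fun hid x
  · simp only [inv, LinearMap.coe_sum, Finset.sum_apply, LinearMap.comp_apply, TensorProduct.mk_apply,
      map_sum, ev_tmul, mkInter_apply]
    rw [← Finset.sum_apply, ← LinearMap.coe_sum, ← map_sum, hid, ← Module.End.one_eq_id, map_one]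
    rfl

theorem exists_trace_eq_one (F : Type v) [AddCommGroup F] [Module A F] [Module.Finite A F]
    [Module.Projective A F] [Module.FaithfullyFlat A F] :
    ∃ (n : ℕ) (l : Fin n → (F →ₗ[A] A)) (u : Fin n → F), ∑ k, l k (u k) = 1 := by
  obtain ⟨n, π, ι, -, -, hπι⟩ := Module.Finite.exists_comp_eq_id_of_projective A F
  let μ : Fin n → (F →ₗ[A] A) := fun k => (LinearMap.proj k).comp ι
  let T : (Fin n → F) →ₗ[A] A := ∑ k, (μ k).comp (LinearMap.proj k)
  refine ⟨n, μ, ?_⟩
  by_contra! h
  have hne : LinearMap.range T ≠ ⊤ := by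
    intro htop
    obtain ⟨u, hu⟩ : (1 : A) ∈ LinearMap.range T := htop ▸ Submodule.mem_top
    exact h u (by simpa [T] using hu)
  obtain ⟨m, hm, hle⟩ := Ideal.exists_le_maximal _ hne
  refine Module.FaithfullyFlat.submodule_ne_top (R := A) (M := F) hm (eq_top_iff.2 fun x _ => ?_)
  have hx : x = ∑ k, μ k x • π (Pi.single k 1) := by
    simp only [μ, LinearMap.comp_apply, LinearMap.proj_apply, ← map_smul]
    rw [← map_sum, ← pi_eq_sum_univ' (ι x)]
    exact (LinearMap.congr_fun hπι x).symm
  rw [hx]
  refine Submodule.sum_mem _ fun k _ => Submodule.smul_mem_smul (hle ?_) Submodule.mem_top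
  refine ⟨Pi.single k x, ?_⟩
  simp only [T, LinearMap.coe_sum, Finset.sum_apply, LinearMap.comp_apply, LinearMap.proj_apply]
  rw [Finset.sum_eq_single k (fun j _ hj => by rw [Pi.single_eq_of_ne hj, map_zero]) (by simp),
    Pi.single_eq_same]

theorem invertible [Module.Finite A F] [Module.Projective A F] [Module.FaithfullyFlat A F]
    [Module.Finite A G] [Module.Projective A G] : Module.Invertible A (Inter φ) := by
  obtain ⟨n, l, u, hlu⟩ := exists_trace_eq_one (A := A) F
  let β : Inter φ →ₗ[A] Inter φ.symm →ₗ[A] A :=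
    LinearMap.mk₂ A (fun ξ η => ∑ k, l k (η.1 (ξ.1 (u k))))
      (fun ξ ξ' η => by simp [Finset.sum_add_distrib])
      (fun c ξ η => by simp [Finset.mul_sum])
      (fun ξ η η' => by simp [Finset.sum_add_distrib])
      (fun c ξ η => by simp [Finset.mul_sum])
  have hβ : ∀ ξ η x, η.1 (ξ.1 x) = β ξ η • x := by
    intro ξ η x
    have hf : ∀ (f : Module.End A F) (y : F), η.1 (ξ.1 (f y)) = f (η.1 (ξ.1 y)) := by
      intro f y
      rw [← inter_spec φ ξ, ← inter_spec φ.symm η, AlgEquiv.symm_apply_apply]
    calc η.1 (ξ.1 x) = ∑ k, η.1 (ξ.1 (LinearMap.smulRight (l k) x (u k))) := by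
          simp only [LinearMap.smulRight_apply, map_smul, ← Finset.sum_smul, hlu, one_smul]
      _ = ∑ k, l k (η.1 (ξ.1 (u k))) • x := Finset.sum_congr rfl fun k _ => by
          rw [hf, LinearMap.smulRight_apply]
      _ = β ξ η • x := by simp [β, Finset.sum_smul]
  letI : AddCommGroup (Inter φ) := Submodule.addCommGroup _
  letI : AddCommGroup (Inter φ.symm) := Submodule.addCommGroup _
  let c : Inter φ ⊗[A] Inter φ.symm →ₗ[A] A := TensorProduct.lift β
  let e1 := (TensorProduct.assoc A F (Inter φ) (Inter φ.symm)).symm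
  let e2 := LinearEquiv.rTensor (Inter φ.symm) (LinearEquiv.ofBijective _ (ev_bijective φ))
  let e3 := LinearEquiv.ofBijective _ (ev_bijective φ.symm)
  have key : LinearMap.lTensor F c =
      ((e1.trans (e2.trans e3)).trans (TensorProduct.rid A F).symm).toLinearMap := by
    apply TensorProduct.ext
    refine LinearMap.ext fun x => TensorProduct.ext' fun ξ η => ?_
    simp [c, e1, e2, e3, hβ, TensorProduct.smul_tmul, TensorProduct.tmul_smul, TensorProduct.smul_tmul']
  have hb : Function.Bijective (LinearMap.lTensor F c) := by rw [key]; exact LinearEquiv.bijective _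
  have hbij : Function.Bijective c := (Module.FaithfullyFlat.lTensor_bijective_iff_bijective (R := A) (M := F) (N := Inter φ ⊗[A] Inter φ.symm) (N' := A) c).1 hb
  exact Module.Invertible.left (LinearEquiv.ofBijective c hbij)

/-- The isomorphism `F ⊗ L ≃ G`. -/
noncomputable def evEquiv [Module.Finite A F] [Module.Projective A F] : F ⊗[A] Inter φ ≃ₗ[A] G :=
  LinearEquiv.ofBijective _ (ev_bijective φ)

theorem evEquiv_conj [Module.Finite A F] [Module.Projective A F] (f : Module.End A F) :
    φ f = (evEquiv φ).conj (TensorProduct.map f LinearMap.id) := by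
  have key : (φ f).comp (ev φ) = (ev φ).comp (TensorProduct.map f LinearMap.id) :=
    TensorProduct.ext' fun x ξ => by simp [inter_spec]
  refine LinearMap.ext fun g => ?_
  rw [LinearEquiv.conj_apply_apply]
  have := LinearMap.congr_fun key ((evEquiv φ).symm g)
  simp only [LinearMap.comp_apply] at this
  rw [show ev φ ((evEquiv φ).symm g) = g from (evEquiv φ).apply_symm_apply g] at this
  exact this

/-- Finite tensor powers of an invertible module are invertible. -/
theorem invertible_tensorPower (L : Type v) [AddCommGroup L] [Module A L] [Module.Invertible A L] :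
    ∀ n : ℕ, Module.Invertible A (⨂[A] _ : Fin n, L)
  | 0 => Module.Invertible.congr (PiTensorProduct.isEmptyEquiv (Fin 0) (R := A) (s := fun _ => L)).symm
  | n + 1 => by
    haveI := invertible_tensorPower L n
    haveI : Module.Invertible A (⨂[A] _ : Fin 1, L) :=
      Module.Invertible.congr (PiTensorProduct.subsingletonEquiv (R := A) (s := fun _ : Fin 1 => L) 0).symm
    exact Module.Invertible.congr
      ((PiTensorProduct.tmulEquiv A L).trans (PiTensorProduct.reindex A (fun _ => L) finSumFinEquiv))

/-- The intertwiner module of a matrix automorphism has trivial `n`-th tensor power. -/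
theorem matrix_tensorPower (n : ℕ) (L : Submodule A (Matrix (Fin n) (Fin n) A))
    [Module.Invertible A L] (hn : 0 < n)
    (hcomm : ∀ M ∈ L, ∀ N : Matrix (Fin n) (Fin n) A, ∃ N', M * N = N' * M)
    (hspan : ∀ (m : Ideal A), m.IsMaximal → ∃ M ∈ L, ∃ i j, M i j ∉ m) :
    Nonempty ((⨂[A] _ : Fin n, L) ≃ₗ[A] A) := by
  haveI := invertible_tensorPower (A := A) L n
  let δ : MultilinearMap A (fun _ : Fin n => L) A :=
    (Matrix.detRowAlternating (n := Fin n) (R := A)).toMultilinearMap.compLinearMap
      (fun i => (LinearMap.proj i).comp L.subtype)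
  let d := PiTensorProduct.lift δ
  have hsurj : Function.Surjective d := by
    rw [← LinearMap.range_eq_top]
    by_contra hne
    obtain ⟨m, hm, hle⟩ := Ideal.exists_le_maximal _ hne
    obtain ⟨M, hM, i, j, hij⟩ := hspan m hm
    have hdet : M.det ∈ m := hle ⟨PiTensorProduct.tprod A fun _ => ⟨M, hM⟩, by
      rw [PiTensorProduct.lift.tprod]; rfl⟩
    letI := Ideal.Quotient.field m
    let q := Ideal.Quotient.mk m
    have h0 : (M.map q).det = 0 := by
      rw [← RingHom.mapMatrix_apply, ← RingHom.map_det]
      exact Ideal.Quotient.eq_zero_iff_mem.2 hdet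
    obtain ⟨x, hx0, hx⟩ := Matrix.exists_mulVec_eq_zero_iff.2 h0
    obtain ⟨l, hl⟩ : ∃ l, x l ≠ 0 := Function.ne_iff.1 hx0
    obtain ⟨N', hN'⟩ := hcomm M hM (Matrix.single j l 1)
    have h2 : (M.map q * (Matrix.single j l 1 : Matrix _ _ A).map q) = N'.map q * M.map q := by
      rw [← Matrix.map_mul, ← Matrix.map_mul, hN']
    have h3 := congrArg (fun R => R.mulVec x i) h2
    simp only [← Matrix.mulVec_mulVec, hx, Matrix.mulVec_zero, Pi.zero_apply] at h3
    have h4 : M.map q i j * x l = 0 := by
      rw [Matrix.map_single _ _ _ q, map_one, Matrix.single_mulVec_eq, Matrix.mulVec_smul,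
        Matrix.mulVec_single_one] at h3
      simpa [mul_comm] using h3
    rcases mul_eq_zero.1 h4 with h | h
    · exact hij (Ideal.Quotient.eq_zero_iff_mem.1 h)
    · exact hl h
  exact ⟨LinearEquiv.ofBijective d (Module.Invertible.bijective_of_surjective hsurj)⟩

end Groth.Agent.Brauer25.EndIso
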