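import Groth.Agent.Lib.Brauer25.LGAzumaya
import Groth.Agent.Lib.Brauer25.EndIso

/-!
Cancellation of Azumaya algebras over LG-rings.
-/

set_option autoImplicit false

universe u v w z

open TensorProduct

namespace Groth.Agent.Brauer25.LG

variable {R : Type u} [CommRing R]

/-- `P` is a faithfully projective module with a split line `φ x = 1`. -/
theorem exists_dual_one (hR : LGRing.IsLGRing R) (P : Type w) [AddCommGroup P] [Module R P] [Module.Finite R P]
    [Module.Projective R P] [FaithfulSMul R P] : ∃ (φ : P →ₗ[R] R) (x : P), φ x = 1 := by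
  haveI := finite_hom' (R := R) (A := R) P R
  obtain ⟨a, φ₁, hφ₁⟩ := Module.Finite.exists_fin' R (P →ₗ[R] R)
  obtain ⟨b, φ₂, hφ₂⟩ := Module.Finite.exists_fin' R P
  let β : Fin a → Fin b → Module.End R R := fun i j =>
    (φ₁ (Pi.single i 1) (φ₂ (Pi.single j 1))) • LinearMap.id
  have hβ : ∀ s t, (∑ i, ∑ j, (s i * t j) • β i j) = (φ₁ s (φ₂ t)) • (LinearMap.id : R →ₗ[R] R) := by
    intro s t
    have h : φ₁ s (φ₂ t) = ∑ i, ∑ j, (s i * t j) * φ₁ (Pi.single i 1) (φ₂ (Pi.single j 1)) := by
      conv_lhs => rw [pi_eq_sum_univ' s, pi_eq_sum_univ' t]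
      simp only [map_sum, map_smul, LinearMap.coe_sum, Finset.sum_apply, LinearMap.smul_apply, smul_eq_mul,
        Finset.mul_sum]
      rw [Finset.sum_comm]
      exact Finset.sum_congr rfl fun i _ => Finset.sum_congr rfl fun j _ => by ring
    rw [h]
    simp only [β, smul_smul, Finset.sum_smul]
  obtain ⟨s, t, hst⟩ := exists_bijective hR β fun m hm => by
    haveI := hm.isPrime
    have hp : (⟨m, hm.isPrime⟩ : PrimeSpectrum R) ∈ Module.support R P := by
      rw [Module.mem_support_iff_of_finite]
      intro r hr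
      have : r = 0 := by
        refine eq_of_smul_eq_smul (α := P) fun y => ?_
        rw [zero_smul]
        exact Module.mem_annihilator.1 hr y
      exact this ▸ zero_mem _
    obtain ⟨n, π, ι, -, -, hπι⟩ := Module.Finite.exists_comp_eq_id_of_projective R P
    obtain ⟨φ, x, hφx⟩ : ∃ (φ : P →ₗ[R] R) (x : P), φ x ∉ m := by
      by_contra! hall
      haveI := (Module.mem_support_iff_nontrivial_residueField_tensorProduct ⟨m, hm.isPrime⟩).1 hp
      refine not_subsingleton (m.ResidueField ⊗[R] P) ⟨fun z z' => ?_⟩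
      have hz : ∀ z : m.ResidueField ⊗[R] P, z = 0 := fun z => by
        induction z using TensorProduct.induction_on with
        | zero => rfl
        | add u v hu hv => rw [hu, hv, add_zero]
        | tmul c y =>
          rw [show y = ∑ k, ι y k • π (Pi.single k 1) by
            simp only [← map_smul]
            rw [← map_sum, ← pi_eq_sum_univ' (ι y)]
            exact (LinearMap.congr_fun hπι y).symm, TensorProduct.tmul_sum]
          refine Finset.sum_eq_zero fun k _ => ?_
          rw [TensorProduct.tmul_smul, TensorProduct.smul_tmul', Algebra.smul_def,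
            Ideal.algebraMap_residueField_eq_zero.2 (show ι y k ∈ m from hall ((LinearMap.proj k).comp ι) y), zero_mul,
            TensorProduct.zero_tmul]
      rw [hz z, hz z']
    obtain ⟨s, rfl⟩ := hφ₁ φ
    obtain ⟨t, rfl⟩ := hφ₂ x
    refine ⟨s, t, ?_⟩
    rw [hβ, Ideal.smul_eq_mul, Ideal.mul_top]
    by_contra hne
    refine hφx ?_
    rw [hm.eq_of_le hne le_sup_right]
    exact Submodule.mem_sup_left ⟨1, by simp⟩
  rw [hβ] at hst
  obtain ⟨y, hy⟩ := hst.2 1
  refine ⟨φ₁ s, y • φ₂ t, ?_⟩
  rw [map_smul, smul_eq_mul, mul_comm]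
  simpa using hy

/-- `z ↦ (ze)` identifies `M` with the left ideal `De`. -/
theorem exists_range_equiv {D : Type v} [Ring D] [Algebra R D] (e : D) {M : Type w} [AddCommGroup M] [Module R M]
    (θ : M →ₗ[R] D) (ρ : D →ₗ[R] M) (h1 : ∀ x, ρ (θ x) = x) (h2 : ∀ z, θ (ρ z) = z * e) (he : e * e = e) :
    Nonempty (M ≃ₗ[R] (LinearMap.range (LinearMap.toSpanSingleton D D e))) := by
  let I := LinearMap.range (LinearMap.toSpanSingleton D D e)
  have hθ : ∀ x, θ x ∈ I := fun x => ⟨θ x, by
    rw [LinearMap.toSpanSingleton_apply, smul_eq_mul, ← h2, h1]⟩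
  refine ⟨{ toFun := fun x => ⟨θ x, hθ x⟩
            invFun := fun z => ρ z.1
            map_add' := fun x y => Subtype.ext (map_add θ x y)
            map_smul' := fun c x => Subtype.ext (map_smul θ c x)
            left_inv := h1
            right_inv := fun z => Subtype.ext ?_ }⟩
  obtain ⟨z, y, rfl⟩ := z
  show θ (ρ (LinearMap.toSpanSingleton D D e y)) = LinearMap.toSpanSingleton D D e y
  rw [h2, LinearMap.toSpanSingleton_apply, smul_eq_mul, mul_assoc, he]

/-- Isomorphic left ideals of idempotents have isomorphic corners. -/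
theorem nonempty_algEquiv_corner {C : Type v} [Ring C] [Algebra R C] (e e' : C) (he : e * e = e) (he' : e' * e' = e')
    (ψ : LinearMap.range (LinearMap.toSpanSingleton C C e) ≃ₗ[C] LinearMap.range (LinearMap.toSpanSingleton C C e'))
    {A : Type w} [Ring A] [Algebra R A] (jA : A →ₗ[R] C) (hA1 : jA 1 = e) (hAm : ∀ a b, jA (a * b) = jA a * jA b)
    (hAi : Function.Injective jA) (hAs : ∀ z, ∃ a, jA a = e * z * e)
    {B : Type z} [Ring B] [Algebra R B] (jB : B →ₗ[R] C) (hB1 : jB 1 = e') (hBm : ∀ a b, jB (a * b) = jB a * jB b)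
    (hBi : Function.Injective jB) (hBs : ∀ z, ∃ b, jB b = e' * z * e') : Nonempty (A ≃ₐ[R] B) := by
  let x : LinearMap.range (LinearMap.toSpanSingleton C C e) := ⟨e, 1, by simp⟩
  let x' : LinearMap.range (LinearMap.toSpanSingleton C C e') := ⟨e', 1, by simp⟩
  let u : C := ψ x
  let v : C := ψ.symm x'
  have hue : e * u = u := by
    have h : e • x = x := Subtype.ext he
    have := congrArg (fun t => ((ψ t : _) : C)) h
    simpa only [map_smul, Submodule.coe_smul, smul_eq_mul] using this
  have hve : e' * v = v := by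
    have h : e' • x' = x' := Subtype.ext he'
    have := congrArg (fun t => ((ψ.symm t : _) : C)) h
    simpa only [map_smul, Submodule.coe_smul, smul_eq_mul] using this
  have hue' : u * e' = u := by
    obtain ⟨y, hy⟩ := (ψ x).2
    rw [LinearMap.toSpanSingleton_apply, smul_eq_mul] at hy
    show (ψ x : C) * e' = ψ x
    rw [← hy, mul_assoc, he']
  have hve' : v * e = v := by
    obtain ⟨y, hy⟩ := (ψ.symm x').2
    rw [LinearMap.toSpanSingleton_apply, smul_eq_mul] at hy
    show (ψ.symm x' : C) * e = ψ.symm x'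
    rw [← hy, mul_assoc, he]
  have huv : u * v = e := by
    have h : ψ x = u • x' := Subtype.ext hue'.symm
    have := congrArg (fun t => ((ψ.symm t : _) : C)) h
    simp only [LinearEquiv.symm_apply_apply, map_smul, Submodule.coe_smul, smul_eq_mul] at this
    exact this.symm
  have hvu : v * u = e' := by
    have h : ψ.symm x' = v • x := Subtype.ext hve'.symm
    have := congrArg (fun t => ((ψ t : _) : C)) h
    simp only [LinearEquiv.apply_symm_apply, map_smul, Submodule.coe_smul, smul_eq_mul] at this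
    exact this.symm
  have key : ∀ a, ∃ b, jB b = v * jA a * u := fun a => by
    obtain ⟨b, hb⟩ := hBs (v * jA a * u)
    exact ⟨b, by rw [hb, ← mul_assoc, ← mul_assoc, hve, mul_assoc _ u e', hue']⟩
  choose F hF using key
  have hsand : ∀ a, e * jA a * e = jA a := fun a => by
    rw [← hA1, ← hAm, ← hAm, one_mul, mul_one]
  have hlin : IsLinearMap R F := by
    constructor
    · intro a b
      apply hBi
      simp only [map_add, hF, mul_add, add_mul]
    · intro c a
      apply hBi
      simp only [map_smul, hF, mul_smul_comm, smul_mul_assoc]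
  let f : A →ₐ[R] B := AlgHom.ofLinearMap (IsLinearMap.mk' F hlin)
    (hBi (by show jB (F 1) = jB 1; rw [hF, hA1, hB1, hve', hvu]))
    (fun a b => hBi (by
      show jB (F (a * b)) = jB (F a * F b)
      rw [hBm, hF, hF, hF, hAm]
      calc v * (jA a * jA b) * u = v * (jA a * (e * jA b)) * u := by rw [← hA1, ← hAm 1 b, one_mul]
        _ = _ := by rw [← huv]; simp only [mul_assoc]))
  refine ⟨AlgEquiv.ofBijective f ⟨fun a b hab => hAi ?_, fun b => ?_⟩⟩
  · have h0 : v * jA a * u = v * jA b * u := by rw [← hF, ← hF]; exact congrArg jB hab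
    have := congrArg (fun t => u * t * v) h0
    simp only [← mul_assoc, huv] at this
    rw [mul_assoc (e * jA a) u v, mul_assoc (e * jA b) u v, huv, hsand, hsand] at this
    exact this
  · obtain ⟨a, ha⟩ := hAs (u * jB b * v)
    refine ⟨a, hBi ?_⟩
    show jB (F a) = jB b
    have hsand' : e' * jB b * e' = jB b := by rw [← hB1, ← hBm, ← hBm, one_mul, mul_one]
    rw [hF, ha]
    calc v * (e * (u * jB b * v) * e) * u = (v * e * u) * jB b * (v * e * u) := by simp only [mul_assoc]
      _ = _ := by rw [hve', hvu, hsand']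

section End

variable (A : Type v) [Ring A] [Algebra R A] {P : Type w} [AddCommGroup P] [Module R P] (φ : P →ₗ[R] R) (x : P)

/-- The corner of a rank one idempotent. -/
theorem exists_corner_data (h : φ x = 1) :
    ∃ (e : A ⊗[R] Module.End R P) (j : A →ₗ[R] A ⊗[R] Module.End R P), e * e = e ∧ j 1 = e ∧
      (∀ a b, j (a * b) = j a * j b) ∧ Function.Injective j ∧ (∀ z, ∃ a, j a = e * z * e) ∧
      Nonempty ((A ⊗[R] P) ≃ₗ[R] (LinearMap.range (LinearMap.toSpanSingleton (A ⊗[R] Module.End R P)
        (A ⊗[R] Module.End R P) e))) := by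
  let p : Module.End R P := φ.smulRight x
  have hp : p * p = p := LinearMap.ext fun y => by simp [p, h]
  have hpg : ∀ g : Module.End R P, p * g * p = φ (g x) • p := fun g => LinearMap.ext fun y => by
    simp [p, smul_smul, mul_comm]
  let j : A →ₗ[R] A ⊗[R] Module.End R P := (TensorProduct.mk R A (Module.End R P)).flip p
  let col : P →ₗ[R] Module.End R P := LinearMap.smulRightₗ φ
  let θ : A ⊗[R] P →ₗ[R] A ⊗[R] Module.End R P := LinearMap.lTensor A col
  let ρ : A ⊗[R] Module.End R P →ₗ[R] A ⊗[R] P := LinearMap.lTensor A (LinearMap.applyₗ x)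
  let back : A ⊗[R] Module.End R P →ₗ[R] A :=
    (TensorProduct.rid R A).toLinearMap ∘ₗ LinearMap.lTensor A (φ ∘ₗ LinearMap.applyₗ x)
  have he : ((1 : A) ⊗ₜ[R] p) * ((1 : A) ⊗ₜ[R] p) = (1 : A) ⊗ₜ[R] p := by simp [hp]
  refine ⟨(1 : A) ⊗ₜ[R] p, j, he, rfl, fun a b => by simp [j, hp],
    Function.LeftInverse.injective (g := back) fun a => by simp [back, j, p, h], fun z => ⟨back z, ?_⟩, ?_⟩
  · induction z using TensorProduct.induction_on with
    | zero => simp
    | add u v hu hv => rw [map_add, map_add, hu, hv, mul_add, add_mul]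
    | tmul a g => simp [back, j, hpg, TensorProduct.smul_tmul]
  · refine exists_range_equiv _ θ ρ (fun y => ?_) (fun z => ?_) he
    · induction y using TensorProduct.induction_on with
      | zero => simp
      | add u v hu hv => rw [map_add, map_add, hu, hv]
      | tmul a y => simp [θ, ρ, col, h]
    · induction z using TensorProduct.induction_on with
      | zero => simp
      | add u v hu hv => rw [map_add, map_add, hu, hv, add_mul]
      | tmul a g =>
        rw [Algebra.TensorProduct.tmul_mul_tmul, mul_one]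
        simp only [θ, ρ, LinearMap.lTensor_tmul]
        congr 1
        exact LinearMap.ext fun y => by simp [col, p]

end End

theorem rankAtStalk_end {P : Type w} [AddCommGroup P] [Module R P] [Module.Finite R P] [Module.Projective R P]
    (p : PrimeSpectrum R) :
    Module.rankAtStalk (R := R) (Module.End R P) p = Module.rankAtStalk (R := R) P p ^ 2 := by
  haveI := finite_hom' (R := R) (A := R) P P
  haveI : Module.Projective R (Module.End R P) := by
    obtain ⟨n, π, ι, -, -, hπι⟩ := Module.Finite.exists_comp_eq_id_of_projective R P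
    refine Module.Projective.of_split
      ((LinearMap.llcomp R (Fin n → R) P (Fin n → R) ι).comp (LinearMap.lcomp R P π))
      ((LinearMap.llcomp R P (Fin n → R) P π).comp (LinearMap.lcomp R (Fin n → R) ι)) ?_
    refine LinearMap.ext fun g => LinearMap.ext fun y => ?_
    simp [show ∀ y, π (ι y) = y from LinearMap.congr_fun hπι]
  rw [Module.rankAtStalk_eq, Module.rankAtStalk_eq, sq]
  exact ((AlgEquiv.ofBijective (LinearMap.tensorProductEnd R p.asIdeal.ResidueField P)
    (tensorProductEnd_bijective P p.asIdeal.ResidueField)).toLinearEquiv.finrank_eq).trans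
    (Module.finrank_linearMap p.asIdeal.ResidueField p.asIdeal.ResidueField _ _)

/-- Brauer equivalent Azumaya algebras of equal rank over an LG-ring are isomorphic. -/
theorem nonempty_algEquiv_of_tensor_end (hR : LGRing.IsLGRing R)
    (A : Type v) [Ring A] [Algebra R A] [IsAzumaya R A] (B : Type v) [Ring B] [Algebra R B] [IsAzumaya R B]
    (hdeg : ∀ p, Module.rankAtStalk (R := R) A p = Module.rankAtStalk (R := R) B p)
    (P Q : Type w) [AddCommGroup P] [Module R P] [Module.Finite R P] [Module.Projective R P] [FaithfulSMul R P]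
    [AddCommGroup Q] [Module R Q] [Module.Finite R Q] [Module.Projective R Q] [FaithfulSMul R Q]
    (Φ : A ⊗[R] Module.End R P ≃ₐ[R] B ⊗[R] Module.End R Q) : Nonempty (A ≃ₐ[R] B) := by
  haveI := isAzumaya_end (R := R) P
  haveI := isAzumaya_end (R := R) Q
  haveI := isAzumaya_tensor (R := R) A (Module.End R P)
  haveI := isAzumaya_tensor (R := R) B (Module.End R Q)
  obtain ⟨φ, x, hφx⟩ := exists_dual_one hR P
  obtain ⟨ψ, y, hψy⟩ := exists_dual_one hR Q
  obtain ⟨e₀, jA, he₀, hA1, hAm, hAi, hAs, ⟨eA⟩⟩ := exists_corner_data A φ x hφx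
  obtain ⟨e', jB, he', hB1, hBm, hBi, hBs, ⟨eB⟩⟩ := exists_corner_data B ψ y hψy
  have he : Φ e₀ * Φ e₀ = Φ e₀ := by rw [← map_mul, he₀]
  let C := B ⊗[R] Module.End R Q
  let I := LinearMap.range (LinearMap.toSpanSingleton C C (Φ e₀))
  let J := LinearMap.range (LinearMap.toSpanSingleton C C e')
  have hproj : ∀ (f : C), f * f = f →
      Module.Finite C (LinearMap.range (LinearMap.toSpanSingleton C C f)) ∧
        Module.Projective C (LinearMap.range (LinearMap.toSpanSingleton C C f)) := by
    intro f hf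
    let π := (LinearMap.toSpanSingleton C C f).rangeRestrict
    refine ⟨Module.Finite.of_surjective π (LinearMap.surjective_rangeRestrict _),
      Module.Projective.of_split (LinearMap.range (LinearMap.toSpanSingleton C C f)).subtype π ?_⟩
    refine LinearMap.ext fun z => Subtype.ext ?_
    obtain ⟨z, c, rfl⟩ := z
    simp [π, mul_assoc, hf]
  haveI := (hproj _ he).1
  haveI := (hproj _ he).2
  haveI := (hproj _ he').1
  haveI := (hproj _ he').2
  obtain ⟨eA'⟩ : Nonempty ((A ⊗[R] P) ≃ₗ[R] I) := by
    let θ : A ⊗[R] P →ₗ[R] C := Φ.toLinearMap ∘ₗ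
      ((LinearMap.range (LinearMap.toSpanSingleton (A ⊗[R] Module.End R P) _ e₀)).subtype.restrictScalars R) ∘ₗ
        eA.toLinearMap
    let ρ : C →ₗ[R] A ⊗[R] P := eA.symm.toLinearMap ∘ₗ
      ((LinearMap.toSpanSingleton (A ⊗[R] Module.End R P) _ e₀).rangeRestrict.restrictScalars R) ∘ₗ
        Φ.symm.toLinearMap
    refine exists_range_equiv (Φ e₀) θ ρ (fun z => ?_) (fun z => ?_) he
    · obtain ⟨w, hw⟩ := (eA z).2
      have hfix : (eA z : A ⊗[R] Module.End R P) * e₀ = eA z := by
        rw [← hw, LinearMap.toSpanSingleton_apply, smul_eq_mul, mul_assoc, he₀]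
      apply eA.injective
      apply Subtype.ext
      simp [θ, ρ, hfix]
    · simp [θ, ρ]
  have hrk : ∀ p : PrimeSpectrum R, Module.rankAtStalk (R := R) J p = Module.rankAtStalk (R := R) I p := by
    intro p
    have h1 := congrFun (Module.rankAtStalk_eq_of_equiv (R := R) (M := A ⊗[R] P) (N := I) eA') p
    have h2 := congrFun (Module.rankAtStalk_eq_of_equiv (R := R) (M := B ⊗[R] Q) (N := J) eB) p
    rw [Module.rankAtStalk_tensorProduct, Pi.mul_apply] at h1 h2
    have h3 := congrFun (Module.rankAtStalk_eq_of_equiv Φ.toLinearEquiv) p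
    rw [Module.rankAtStalk_tensorProduct, Module.rankAtStalk_tensorProduct, Pi.mul_apply, Pi.mul_apply,
      rankAtStalk_end, rankAtStalk_end, ← hdeg p] at h3
    rw [← h1, ← h2, ← hdeg p]
    rcases Nat.eq_zero_or_pos (Module.rankAtStalk (R := R) A p) with h0 | h0
    · simp [h0]
    · rw [Nat.eq_of_mul_eq_mul_left h0 h3 |> Nat.pow_left_injective two_ne_zero]
  obtain ⟨ψ'⟩ := nonempty_linearEquiv (A := C) hR I J hrk
  refine nonempty_algEquiv_corner (Φ e₀) e' he he' ψ' (Φ.toLinearMap ∘ₗ jA) (by simp [hA1]) ?_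
    (Φ.injective.comp hAi) ?_ jB hB1 hBm hBi hBs
  · intro a b; simp [hAm, map_mul]
  · intro z
    obtain ⟨a, ha⟩ := hAs (Φ.symm z)
    exact ⟨a, by simp [ha, map_mul]⟩

end Groth.Agent.Brauer25.LG
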