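import Groth.Agent.Lib.Brauer25.AzPowBasic
import Groth.Agent.Lib.Brauer25.LGCorner
import Mathlib.LinearAlgebra.PiTensorProduct.Finite
import Mathlib.RingTheory.Flat.FaithfullyFlat.Basic

/-!
# The tensor power of an Azumaya algebra of degree `n` with exponent `n` is an endomorphism algebra
-/

namespace Groth.Agent.Brauer25.AzPow

open scoped TensorProduct
open Equiv (Perm)
open Module (rankAtStalk)

universe u v w z

set_option linter.style.haveILetI false

variable {R : Type u} [CommRing R] {A : Type v} [Ring A] [Algebra R A]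
variable {S : Type w} [CommRing S] [Algebra R S] {n : ℕ}

/-- `A^{⊗ (m+1)} = A ⊗ A^{⊗ m}`. -/
noncomputable def powSucc (m : ℕ) : (⨂[R] _ : Fin (1 + m), A) ≃ₗ[R] A ⊗[R] (⨂[R] _ : Fin m, A) :=
  (PiTensorProduct.reindex R (fun _ : Fin (1 + m) => A) finSumFinEquiv.symm).trans
    ((PiTensorProduct.tmulEquiv R A).symm.trans
      (TensorProduct.congr (PiTensorProduct.subsingletonEquiv (0 : Fin 1)) (LinearEquiv.refl R _)))

/-- Tensor powers of projective modules. -/
theorem pow_projective [Module.Finite R A] [Module.Projective R A] {d : ℕ}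
    (hrk : ∀ p : PrimeSpectrum R, rankAtStalk (R := R) A p = d) : ∀ m : ℕ,
    Module.Projective R (⨂[R] _ : Fin m, A) ∧ Module.Finite R (⨂[R] _ : Fin m, A) ∧
      ∀ p : PrimeSpectrum R, rankAtStalk (R := R) (⨂[R] _ : Fin m, A) p = d ^ m := by
  intro m
  induction m with
  | zero =>
    let e : (⨂[R] _ : Fin 0, A) ≃ₗ[R] R := PiTensorProduct.isEmptyEquiv _
    refine ⟨Module.Projective.of_equiv e.symm, Module.Finite.equiv e.symm, fun p => ?_⟩
    haveI : Nontrivial R := p.nontrivial
    rw [Module.rankAtStalk_eq_of_equiv e, Module.rankAtStalk_self]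
    simp
  | succ m ih =>
    obtain ⟨_, _, h⟩ := ih
    rw [add_comm m 1]
    refine ⟨Module.Projective.of_equiv (powSucc m).symm, Module.Finite.equiv (powSucc m).symm, fun p => ?_⟩
    rw [Module.rankAtStalk_eq_of_equiv (powSucc m), Module.rankAtStalk_tensorProduct, Pi.mul_apply,
      hrk, h, pow_add, pow_one]

/-- Membership in the range of a linear map descends along faithfully flat extensions. -/
theorem mem_range_of_baseChange {M : Type v} [AddCommGroup M] [Module R M] {N : Type z} [AddCommGroup N]
    [Module R N] [Module.FaithfullyFlat R S] (f : M →ₗ[R] N) (y : N)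
    (hy : (1 : S) ⊗ₜ[R] y ∈ LinearMap.range (f.baseChange S)) : y ∈ LinearMap.range f := by
  obtain ⟨x, hx⟩ := hy
  rw [← Submodule.Quotient.mk_eq_zero]
  refine Module.FaithfullyFlat.tensorProduct_mk_injective (A := R) (B := S) (N ⧸ LinearMap.range f) ?_
  have h := congrArg ((LinearMap.range f).mkQ.baseChange S) hx
  rw [← LinearMap.comp_apply, ← LinearMap.baseChange_comp,
    show (LinearMap.range f).mkQ.comp f = 0 from LinearMap.range_mkQ_comp f, LinearMap.baseChange_zero,
    LinearMap.zero_apply, LinearMap.baseChange_tmul] at h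
  simpa using! h.symm

/-- `a ⊗ b ↦ F a * Y * F b`. -/
noncomputable def sandwich (F : A →ₐ[R] Matrix (Fin n) (Fin n) S) (Y : Matrix (Fin n) (Fin n) S) :
    A ⊗[R] A →ₗ[R] Matrix (Fin n) (Fin n) S :=
  TensorProduct.lift <| LinearMap.mk₂ R (fun a b => F a * Y * F b)
    (fun a a' b => by simp [add_mul])
    (fun c a b => by simp [Matrix.smul_mul])
    (fun a b b' => by simp [mul_add])
    (fun c a b => by simp)

@[simp] theorem sandwich_tmul (F : A →ₐ[R] Matrix (Fin n) (Fin n) S) (Y : Matrix (Fin n) (Fin n) S)
    (a b : A) : sandwich F Y (a ⊗ₜ[R] b) = F a * Y * F b := rfl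

/-- The Goldman element. -/
theorem exists_goldman [IsAzumaya R A] (hrk : ∀ p : PrimeSpectrum R, rankAtStalk (R := R) A p = n ^ 2)
    [Module.FaithfullyFlat R S] {F : A →ₐ[R] Matrix (Fin n) (Fin n) S} (hF : SplitMap.IsSplitting F) :
    ∃ g : A ⊗[R] A, ∀ Y, sandwich F Y g = Y.trace • (1 : Matrix (Fin n) (Fin n) S) := by
  obtain ⟨t, ht⟩ := SplitMap.exists_trace hrk hF
  obtain ⟨g', hg'⟩ := (IsAzumaya.bij (R := R) (A := A)).2 ((LinearMap.toSpanSingleton R A 1).comp t)
  let φ : A ⊗[R] Aᵐᵒᵖ →ₗ[R] A ⊗[R] A :=
    TensorProduct.map LinearMap.id (MulOpposite.opLinearEquiv R).symm.toLinearMap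
  refine ⟨φ g', fun Y => ?_⟩
  have h1 : ∀ (y : A) (z : A ⊗[R] Aᵐᵒᵖ), sandwich F (F y) (φ z) = F (AlgHom.mulLeftRight R A z y) := by
    intro y z
    induction z using TensorProduct.induction_on with
    | zero => simp
    | add p q hp hq => simp only [map_add, LinearMap.add_apply, hp, hq]
    | tmul a b =>
      simp only [φ, TensorProduct.map_tmul, LinearMap.id_coe, id_eq, LinearEquiv.coe_coe,
        MulOpposite.coe_opLinearEquiv_symm, sandwich_tmul, AlgHom.mulLeftRight_apply, map_mul]
  have hY : Y ∈ Submodule.span S (Set.range F) := by rw [hF]; trivial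
  induction hY using Submodule.span_induction with
  | mem Y hY =>
    obtain ⟨y, rfl⟩ := hY
    rw [h1, hg', LinearMap.comp_apply, LinearMap.toSpanSingleton_apply, map_smul, map_one, ← ht,
      algebraMap_smul]
  | zero =>
    have : sandwich F 0 = 0 := TensorProduct.ext' fun a b => by simp
    simp [this]
  | add Y Y' _ _ hY hY' =>
    have : sandwich F (Y + Y') = sandwich F Y + sandwich F Y' :=
      TensorProduct.ext' fun a b => by simp [mul_add, add_mul]
    rw [this, LinearMap.add_apply, hY, hY', Matrix.trace_add, add_smul]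
  | smul c Y _ hY =>
    have : sandwich F (c • Y) = c • sandwich F Y :=
      TensorProduct.ext' fun a b => by simp
    rw [this, LinearMap.smul_apply, hY, Matrix.trace_smul, smul_eq_mul, mul_smul]

/-- A permutation matrix lifts to the tensor power. -/
theorem exists_theta_eq_permMat [IsAzumaya R A] (hrk : ∀ p : PrimeSpectrum R, rankAtStalk (R := R) A p = n ^ 2)
    [Module.FaithfullyFlat R S] {F : A →ₐ[R] Matrix (Fin n) (Fin n) S} (hF : SplitMap.IsSplitting F)
    {r : ℕ} (σ : Perm (Fin r)) :
    ∃ x : ⨂[R] _i : Fin r, A, theta (fun _ : Fin r => F) x = permMat σ := by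
  induction σ using Equiv.Perm.swap_induction_on with
  | one => exact ⟨1, by rw [map_one, permMat_one]⟩
  | swap_mul τ i j hij ih =>
    obtain ⟨y, hy⟩ := ih
    obtain ⟨g, hg⟩ := exists_goldman hrk hF
    let Φ : A ⊗[R] A →ₐ[R] ⨂[R] _i : Fin r, A :=
      Algebra.TensorProduct.lift (PiTensorProduct.singleAlgHom (R := R) (A := fun _ : Fin r => A) i)
        (PiTensorProduct.singleAlgHom (R := R) (A := fun _ : Fin r => A) j)
        fun a b => by
          simp only [PiTensorProduct.singleAlgHom_apply]
          exact Commute.tprod (Pi.mulSingle_commute (f := fun _ : Fin r => A) hij a b)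
    refine ⟨Φ g * y, ?_⟩
    rw [map_mul, hy, ← permMat_mul]
    congr 1
    ext I J
    let δ : S := ∏ l ∈ Finset.univ \ {i, j}, if I l = J l then 1 else 0
    have key : ∀ z : A ⊗[R] A, theta (fun _ : Fin r => F) (Φ z) I J =
        sandwich F (Matrix.single (J i) (I j) 1) z (I i) (J j) * δ := by
      intro z
      induction z using TensorProduct.induction_on with
      | zero => simp
      | add p q hp hq => simp only [map_add, Matrix.add_apply, hp, hq, add_mul]
      | tmul a b =>
        have e : Φ (a ⊗ₜ[R] b) = PiTensorProduct.tprod R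
            (Pi.mulSingle i a * Pi.mulSingle j b : Fin r → A) := by
          simp [Φ]
        rw [e, theta_tprod, kron_apply, ← Finset.prod_sdiff (Finset.subset_univ {i, j}), Finset.prod_pair hij,
          sandwich_tmul, mul_comm]
        congr 1
        · have hs : ∀ (P Q : Matrix (Fin n) (Fin n) S) (a b c e : Fin n),
              (P * Matrix.single a b (1 : S) * Q : Matrix (Fin n) (Fin n) S) c e = P c a * Q b e := by
            intro P Q a b c e
            rw [Matrix.mul_assoc, Matrix.mul_apply, Finset.sum_eq_single a]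
            · simp
            · intro x _ hx
              rw [Matrix.single_mul_apply_of_ne _ _ _ _ _ hx, mul_zero]
            · simp
          simp [hs, hij, hij.symm]
        · refine Finset.prod_congr rfl fun l hl => ?_
          simp only [Finset.mem_sdiff, Finset.mem_insert, Finset.mem_singleton, not_or] at hl
          simp [Pi.mulSingle_eq_of_ne hl.2.1, Pi.mulSingle_eq_of_ne hl.2.2, Matrix.one_apply]
    rw [key, hg]
    simp only [permMat, Matrix.of_apply, Matrix.smul_apply, smul_eq_mul, Matrix.one_apply]
    by_cases h : J = I ∘ Equiv.swap i j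
    · subst h
      have hδ : δ = 1 := Finset.prod_eq_one fun l hl => by
        simp only [Finset.mem_sdiff, Finset.mem_insert, Finset.mem_singleton, not_or] at hl
        simp [Equiv.swap_apply_of_ne_of_ne hl.2.1 hl.2.2]
      simp [hδ]
    · rw [if_neg h]
      by_cases h1 : J i = I j
      · by_cases h2 : I i = J j
        · obtain ⟨l, hl⟩ := Function.ne_iff.mp h
          have hli : l ≠ i := by rintro rfl; simp [h1] at hl
          have hlj : l ≠ j := by rintro rfl; simp [h2] at hl
          have hδ : δ = 0 := Finset.prod_eq_zero (i := l) (by simp [hli, hlj]) (by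
            rw [if_neg]
            intro he
            exact hl (by simp [Equiv.swap_apply_of_ne_of_ne hli hlj, he]))
          simp [hδ]
        · simp [h2]
      · simp [Matrix.trace, Ne.symm h1, h1]

/-- The sign vector. -/
noncomputable def sgnVec (n : ℕ) (S : Type w) [CommRing S] (I : Fin n → Fin n) : S :=
  if h : Function.Injective I then ((Perm.sign (Equiv.ofBijective I h.bijective_of_finite) : ℤ) : S) else 0

theorem antisym_apply (I J : Fin n → Fin n) :
    antisym n n S I J = sgnVec n S I * sgnVec n S J := by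
  classical
  by_cases hI : Function.Injective I
  · let π := Equiv.ofBijective I hI.bijective_of_finite
    rw [antisym, Matrix.sum_apply, sgnVec, dif_pos hI]
    by_cases hJ : Function.Injective J
    · let ρ := Equiv.ofBijective J hJ.bijective_of_finite
      rw [sgnVec, dif_pos hJ, Finset.sum_eq_single (π⁻¹ * ρ)]
      · rw [Matrix.smul_apply, permMat, Matrix.of_apply, if_pos, smul_eq_mul, mul_one, map_mul,
          Equiv.Perm.sign_inv, Units.val_mul, Int.cast_mul]
        funext x
        exact (π.apply_symm_apply (J x)).symm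
      · intro σ _ hσ
        rw [Matrix.smul_apply, permMat, Matrix.of_apply, if_neg, smul_zero]
        intro h
        apply hσ
        rw [eq_inv_mul_iff_mul_eq]
        exact Equiv.ext fun x => (congrFun h x).symm
      · simp
    · rw [sgnVec, dif_neg hJ, mul_zero]
      refine Finset.sum_eq_zero fun σ _ => ?_
      rw [Matrix.smul_apply, permMat, Matrix.of_apply, if_neg, smul_zero]
      intro h
      exact hJ (h ▸ hI.comp σ.injective)
  · rw [sgnVec, dif_neg hI, zero_mul]
    have h := antisym_mulVec_eq_zero (r := n) (d := n) (S := S) (Pi.single J 1) I hI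
    simpa using! h

theorem sgnVec_id : sgnVec n S (id : Fin n → Fin n) = 1 := by
  rw [sgnVec, dif_pos Function.injective_id,
    show Equiv.ofBijective (id : Fin n → Fin n) Function.injective_id.bijective_of_finite = 1 from
      Equiv.ext fun _ => rfl, map_one, Units.val_one, Int.cast_one]

open Matrix in
theorem antisym_mul_mul (M : Matrix (Fin n → Fin n) (Fin n → Fin n) S) :
    antisym n n S * M * antisym n n S = (sgnVec n S ᵥ* M ⬝ᵥ sgnVec n S) • antisym n n S := by
  have h : antisym n n S = Matrix.vecMulVec (sgnVec n S) (sgnVec n S) :=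
    Matrix.ext fun I J => antisym_apply I J
  rw [h, Matrix.vecMulVec_mul, Matrix.vecMulVec_mul_vecMulVec, Matrix.vecMulVec_smul]

section main

variable {R : Type u} [CommRing R] {A : Type u} [Ring A] [Algebra R A] [IsAzumaya R A]

/-- The multiplication map into endomorphisms of a left ideal. -/
noncomputable def idealHom {T : Type u} [Ring T] [Algebra R T] (e : T) :
    T →ₐ[R] Module.End R (LinearMap.range (LinearMap.mulRight R e)) where
  toFun z := (LinearMap.mulLeft R z).restrict (fun x hx => by
    obtain ⟨y, rfl⟩ := hx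
    exact ⟨z * y, by simp [mul_assoc]⟩)
  map_one' := LinearMap.ext fun x => Subtype.ext (by simp)
  map_mul' a b := LinearMap.ext fun x => Subtype.ext (by simp [mul_assoc])
  map_zero' := LinearMap.ext fun x => Subtype.ext (by simp)
  map_add' a b := LinearMap.ext fun x => Subtype.ext (by simp [add_mul])
  commutes' c := LinearMap.ext fun x => Subtype.ext (by simp [Algebra.smul_def])

theorem idealHom_apply {T : Type u} [Ring T] [Algebra R T] (e z : T) (x : LinearMap.range (LinearMap.mulRight R e)) :
    ((idealHom e z x : LinearMap.range (LinearMap.mulRight R e)) : T) = z * x.1 := rfl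

/-- If `e T e = R e` and `T e T = T` then `T = End (T e)`. -/
theorem idealHom_bijective {T : Type u} [Ring T] [Algebra R T] (e : T) (he : e * e = e)
    (hcorner : ∀ z : T, ∃ c : R, e * z * e = c • e)
    (hfull : (1 : T) ∈ Submodule.span R {x | ∃ p q : T, x = p * e * q}) :
    Function.Bijective (idealHom (R := R) e) := by
  obtain ⟨c, hc⟩ := Classical.axiom_of_choice hcorner
  have hmem : ∀ z : T, z * e ∈ LinearMap.range (LinearMap.mulRight R e) := fun z => ⟨z, rfl⟩
  constructor
  · refine (injective_iff_map_eq_zero _).2 fun z hz => ?_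
    have h0 : ∀ w ∈ Submodule.span R {x | ∃ p q : T, x = p * e * q}, z * w = 0 := by
      intro w hw
      induction hw using Submodule.span_induction with
      | mem w hw =>
        obtain ⟨p, q, rfl⟩ := hw
        have h1 := congrArg Subtype.val (LinearMap.congr_fun hz ⟨p * e, hmem p⟩)
        rw [idealHom_apply] at h1
        simp only [LinearMap.zero_apply, ZeroMemClass.coe_zero] at h1
        rw [← mul_assoc, h1, zero_mul]
      | zero => rw [mul_zero]
      | add a b _ _ ha hb => rw [mul_add, ha, hb, add_zero]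
      | smul a b _ hb => rw [mul_smul_comm, hb, smul_zero]
    simpa using h0 1 hfull
  · intro g
    have key : ∀ w ∈ Submodule.span R {x | ∃ p q : T, x = p * e * q}, ∃ z : T, ∀ y : T,
        ∀ hy : w * (y * e) ∈ LinearMap.range (LinearMap.mulRight R e),
          z * (y * e) = (g ⟨w * (y * e), hy⟩ : T) := by
      intro w hw
      induction hw using Submodule.span_induction with
      | mem w hw =>
        obtain ⟨p, q, rfl⟩ := hw
        refine ⟨(g ⟨p * e, hmem p⟩ : T) * (e * q), fun y hy => ?_⟩
        have h1 : p * e * q * (y * e) = c (q * y) • (p * e) := by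
          rw [← mul_smul_comm, ← hc]
          simp only [mul_assoc]
        have h2 : (⟨p * e * q * (y * e), hy⟩ : LinearMap.range (LinearMap.mulRight R e))
            = c (q * y) • ⟨p * e, hmem p⟩ := Subtype.ext h1
        rw [h2, map_smul, Submodule.coe_smul,
          show (g ⟨p * e, hmem p⟩ : T) * (e * q) * (y * e) = (g ⟨p * e, hmem p⟩ : T) * (e * (q * y) * e) by
            simp only [mul_assoc], hc, mul_smul_comm]
        obtain ⟨y', hy'⟩ := (g ⟨p * e, hmem p⟩).2
        rw [LinearMap.mulRight_apply] at hy'
        rw [← hy', mul_assoc, he]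
      | zero =>
        refine ⟨0, fun y hy => ?_⟩
        rw [show (⟨0 * (y * e), hy⟩ : LinearMap.range (LinearMap.mulRight R e)) = 0 from Subtype.ext (zero_mul _),
          map_zero, zero_mul, Submodule.coe_zero]
      | add a b _ _ ha hb =>
        obtain ⟨z, hz⟩ := ha
        obtain ⟨z', hz'⟩ := hb
        refine ⟨z + z', fun y hy => ?_⟩
        have hay : a * (y * e) ∈ LinearMap.range (LinearMap.mulRight R e) := ⟨a * y, by simp [mul_assoc]⟩
        have hby : b * (y * e) ∈ LinearMap.range (LinearMap.mulRight R e) := ⟨b * y, by simp [mul_assoc]⟩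
        rw [add_mul, hz y hay, hz' y hby, ← Submodule.coe_add, ← map_add]
        exact congrArg Subtype.val (congrArg g (Subtype.ext (add_mul a b _).symm))
      | smul r a _ ha =>
        obtain ⟨z, hz⟩ := ha
        refine ⟨r • z, fun y hy => ?_⟩
        have hay : a * (y * e) ∈ LinearMap.range (LinearMap.mulRight R e) := ⟨a * y, by simp [mul_assoc]⟩
        rw [smul_mul_assoc, hz y hay, ← Submodule.coe_smul, ← map_smul]
        exact congrArg Subtype.val (congrArg g (Subtype.ext (smul_mul_assoc r a _).symm))
    obtain ⟨z, hz⟩ := key 1 hfull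
    refine ⟨z, LinearMap.ext fun x => Subtype.ext ?_⟩
    obtain ⟨x, y, rfl⟩ := x
    rw [idealHom_apply]
    exact (hz y (by rw [one_mul]; exact hmem y)).trans
      (congrArg Subtype.val (congrArg g (Subtype.ext (one_mul _))))

/-- The main theorem. -/
theorem exists_algEquiv_end (n : ℕ) (hrk : ∀ p : PrimeSpectrum R, rankAtStalk (R := R) A p = n ^ 2) :
    ∃ (E : Type u) (_ : AddCommGroup E) (_ : Module R E), Module.Finite R E ∧ Module.Projective R E ∧
      (∀ p : PrimeSpectrum R, rankAtStalk (R := R) E p = n ^ n) ∧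
      Nonempty ((⨂[R] _ : Fin n, A) ≃ₐ[R] Module.End R E) := by
  classical
  obtain ⟨S, _, _, _, F, hF⟩ := SplitMap.exists_isSplitting hrk
  obtain ⟨hPT, hFT, hrT⟩ := pow_projective hrk n
  choose x hx using exists_theta_eq_permMat (r := n) hrk hF
  let Θ := thetaE (fun _ : Fin n => F)
  have hΘ : Function.Bijective Θ := by
    refine LG.bijective_of_rank_eq Θ.toLinearMap (thetaE_surjective _ fun _ => hF) fun q => ?_
    haveI : Nontrivial S := q.nontrivial
    rw [Module.rankAtStalk_eq_finrank_of_free, Pi.natCast_apply, Module.finrank_matrix,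
      Module.rankAtStalk_baseChange, hrT, Fintype.card_fun, Fintype.card_fin, Module.finrank_self]
    simp only [Nat.cast_id, mul_one]
    rw [← pow_mul, ← pow_add, two_mul]
  set s : ⨂[R] _ : Fin n, A := ∑ σ : Perm (Fin n), ((Perm.sign σ : ℤ) : R) • x σ with hs
  have hθ : Θ (1 ⊗ₜ s) = antisym n n S := by
    rw [thetaE_tmul, one_smul, hs, map_sum, antisym]
    refine Finset.sum_congr rfl fun σ _ => ?_
    rw [map_smul, hx, ← algebraMap_smul S ((Perm.sign σ : ℤ) : R), map_intCast]
  -- regularity
  have hreg : s ∈ LinearMap.range ((LinearMap.mulRight R s).comp (LinearMap.mulLeft R s)) := by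
    refine mem_range_of_baseChange (S := S) _ _ ?_
    have hL : ∀ X, ((LinearMap.mulRight R s).comp (LinearMap.mulLeft R s)).baseChange S X
        = (1 ⊗ₜ s) * X * (1 ⊗ₜ s) := by
      intro X
      induction X using TensorProduct.induction_on with
      | zero => simp
      | add a b ha hb => simp only [map_add, mul_add, add_mul, ha, hb]
      | tmul l a => simp
    obtain ⟨X, hX⟩ := hΘ.2 (Matrix.single id id 1)
    refine ⟨X, hΘ.1 ?_⟩
    rw [hL, map_mul, map_mul, hX, hθ, antisym_mul_mul]
    simp [Matrix.vecMul, dotProduct, Matrix.single_apply, sgnVec_id, ite_and]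
  obtain ⟨x₀, hx₀⟩ := hreg
  replace hx₀ : s * x₀ * s = s := hx₀
  set e := x₀ * s with he'
  have he : e * e = e := by
    rw [he']
    calc x₀ * s * (x₀ * s) = x₀ * (s * x₀ * s) := by simp only [mul_assoc]
      _ = x₀ * s := by rw [hx₀]
  have hse : s * e = s := by rw [he', ← mul_assoc, hx₀]
  have hcorner : ∀ z, ∃ c : R, e * z * e = c • e := by
    intro z
    suffices e * z * e ∈ LinearMap.range (LinearMap.toSpanSingleton R _ e) by
      obtain ⟨c, hc⟩ := this
      exact ⟨c, hc.symm⟩
    refine mem_range_of_baseChange (S := S) _ _ ?_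
    let c : S := Matrix.vecMul (sgnVec n S) (Θ (1 ⊗ₜ (z * x₀))) ⬝ᵥ sgnVec n S
    refine ⟨c ⊗ₜ 1, hΘ.1 ?_⟩
    rw [LinearMap.baseChange_tmul, LinearMap.toSpanSingleton_apply, one_smul]
    have e1 : e * z * e = x₀ * (s * (z * x₀) * s) := by simp only [he', mul_assoc]
    have e2 : ∀ l : S, ∀ w, Θ (l ⊗ₜ w) = l • Θ (1 ⊗ₜ w) := fun l w => by
      rw [← map_smul, TensorProduct.smul_tmul', smul_eq_mul, mul_one]
    have e3 : ∀ a b, Θ ((1 : S) ⊗ₜ[R] (a * b)) = Θ (1 ⊗ₜ a) * Θ (1 ⊗ₜ b) := fun a b => by
      rw [← map_mul, Algebra.TensorProduct.tmul_mul_tmul, one_mul]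
    rw [e2, e1, he', e3, e3, e3, e3 s, hθ, antisym_mul_mul, mul_smul_comm]
  have hfull : (1 : ⨂[R] _ : Fin n, A) ∈ Submodule.span R {x | ∃ p q, x = p * e * q} := by
    let μ : (⨂[R] _ : Fin n, A) ⊗[R] (⨂[R] _ : Fin n, A) →ₗ[R] ⨂[R] _ : Fin n, A :=
      TensorProduct.lift ((LinearMap.mul R _).comp (LinearMap.mulRight R e))
    have hμ : LinearMap.range μ ≤ Submodule.span R {x | ∃ p q, x = p * e * q} := by
      rintro _ ⟨w, rfl⟩
      induction w using TensorProduct.induction_on with
      | zero => rw [map_zero]; exact zero_mem _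
      | add a b ha hb => rw [map_add]; exact add_mem ha hb
      | tmul p q => exact Submodule.subset_span ⟨p, q, by simp [μ]⟩
    refine hμ (mem_range_of_baseChange (S := S) μ 1 ?_)
    have hprod : ∀ P Q : S ⊗[R] (⨂[R] _ : Fin n, A), P * (1 ⊗ₜ e) * Q ∈ LinearMap.range (μ.baseChange S) := by
      intro P Q
      induction P using TensorProduct.induction_on with
      | zero => simp
      | add a b ha hb => rw [add_mul, add_mul]; exact add_mem ha hb
      | tmul l p =>
        induction Q using TensorProduct.induction_on with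
        | zero => simp
        | add a b ha hb => rw [mul_add]; exact add_mem ha hb
        | tmul l' q => exact ⟨(l * l') ⊗ₜ (p ⊗ₜ q), by simp [μ]⟩
    have h1 : (1 : S ⊗[R] (⨂[R] _ : Fin n, A)) ∈ LinearMap.range (μ.baseChange S) := by
      have ha : antisym n n S * Θ (1 ⊗ₜ e) = antisym n n S := by
        rw [← hθ, ← map_mul, Algebra.TensorProduct.tmul_mul_tmul, one_mul, hse]
      have hP : ∀ M N, ∃ u ∈ LinearMap.range (μ.baseChange S), Θ u = M * Θ (1 ⊗ₜ e) * N := by
        intro M N
        obtain ⟨P, rfl⟩ := hΘ.2 M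
        obtain ⟨Q, rfl⟩ := hΘ.2 N
        exact ⟨_, hprod P Q, by rw [map_mul, map_mul]⟩
      choose u hu hu' using fun I : Fin n → Fin n => hP (Matrix.single I id 1 * antisym n n S) (Matrix.single id I 1)
      have : (1 : S ⊗[R] (⨂[R] _ : Fin n, A)) = ∑ I, u I := by
        apply hΘ.1
        rw [map_one, map_sum, Finset.sum_congr rfl fun I _ => (hu' I).trans
          (show _ = Matrix.single I id 1 * antisym n n S * Matrix.single id I 1 by
            rw [mul_assoc (Matrix.single I id 1) (antisym n n S), ha])]
        simp only [Matrix.single_mul_mul_single, antisym_apply, sgnVec_id, one_mul, mul_one]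
        ext I J
        rw [Matrix.sum_apply]
        simp [Matrix.single_apply, Matrix.one_apply, ite_and]
      rw [this]
      exact Submodule.sum_mem _ fun I _ => hu I
    exact h1
  let E := LinearMap.range (LinearMap.mulRight R e)
  let π : (⨂[R] _ : Fin n, A) →ₗ[R] E := (LinearMap.mulRight R e).rangeRestrict
  haveI : Module.Finite R E := Module.Finite.of_surjective π (LinearMap.surjective_rangeRestrict _)
  haveI : Module.Projective R E := Module.Projective.of_split E.subtype π
    (LinearMap.ext fun y => Subtype.ext (by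
      obtain ⟨y, z, rfl⟩ := y
      simp [π, mul_assoc, he]))
  have hbij := idealHom_bijective e he hcorner hfull
  let Ψ := AlgEquiv.ofBijective _ hbij
  refine ⟨E, inferInstance, inferInstance, inferInstance, inferInstance, fun p => ?_, ⟨Ψ⟩⟩
  have h := congrFun (Module.rankAtStalk_eq_of_equiv (M := ⨂[R] _ : Fin n, A) (N := Module.End R E) Ψ.toLinearEquiv) p
  rw [hrT, LG.rankAtStalk_end, ← pow_mul, mul_comm, pow_mul] at h
  exact (Nat.pow_left_injective two_ne_zero h).symm

end main

end Groth.Agent.Brauer25.AzPow
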