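import Groth.Agent.Lib.Brauer25.SplitMap
import Mathlib.RingTheory.PiTensorProduct
import Mathlib.LinearAlgebra.PiTensorProduct.Basic
import Mathlib.GroupTheory.Perm.Sign

/-!
# Kronecker products and antisymmetrizers over commutative rings
-/

namespace Groth.Agent.Brauer25.AzPow

open scoped TensorProduct
open Equiv (Perm)

universe u v w z

section kron

variable {R : Type u} [CommRing R] {S : Type w} [CommRing S] [Algebra R S]
variable {ι : Type z} [Fintype ι] [DecidableEq ι] {n : ι → ℕ}

/-- `(Y_i) ↦ ((I, J) ↦ ∏ i, Y_i (I i) (J i))`. -/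
noncomputable def kron (Y : ∀ i, Matrix (Fin (n i)) (Fin (n i)) S) :
    Matrix (∀ i, Fin (n i)) (∀ i, Fin (n i)) S :=
  Matrix.of fun I J => ∏ i, Y i (I i) (J i)

theorem kron_apply (Y : ∀ i, Matrix (Fin (n i)) (Fin (n i)) S) (I J : ∀ i, Fin (n i)) :
    kron Y I J = ∏ i, Y i (I i) (J i) := rfl

theorem kron_one : kron (fun i => (1 : Matrix (Fin (n i)) (Fin (n i)) S)) = 1 := by
  ext I J
  rw [kron_apply]
  rcases eq_or_ne I J with rfl | h
  · simp
  · obtain ⟨i, hi⟩ := Function.ne_iff.mp h
    rw [Matrix.one_apply_ne h]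
    exact Finset.prod_eq_zero (Finset.mem_univ i) (Matrix.one_apply_ne hi)

theorem kron_mul (Y Z : ∀ i, Matrix (Fin (n i)) (Fin (n i)) S) : kron (Y * Z) = kron Y * kron Z := by
  ext I J
  simp only [kron_apply, Pi.mul_apply, Matrix.mul_apply, Fintype.prod_sum, Finset.prod_mul_distrib]

theorem kron_update_add (Y : ∀ i, Matrix (Fin (n i)) (Fin (n i)) S) (i : ι)
    (P Q : Matrix (Fin (n i)) (Fin (n i)) S) :
    kron (Function.update Y i (P + Q)) = kron (Function.update Y i P) + kron (Function.update Y i Q) := by
  ext I J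
  simp only [kron_apply, Matrix.add_apply]
  rw [Finset.prod_eq_mul_prod_sdiff_singleton_of_mem (Finset.mem_univ i),
    Finset.prod_eq_mul_prod_sdiff_singleton_of_mem (Finset.mem_univ i),
    Finset.prod_eq_mul_prod_sdiff_singleton_of_mem (Finset.mem_univ i)]
  simp only [Function.update_self, Matrix.add_apply, add_mul]
  congr 1 <;> congr 1 <;> refine Finset.prod_congr rfl fun j hj => ?_ <;>
    rw [Function.update_of_ne (by simpa using hj), Function.update_of_ne (by simpa using hj)]

theorem kron_update_smul (Y : ∀ i, Matrix (Fin (n i)) (Fin (n i)) S) (i : ι) (c : S)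
    (P : Matrix (Fin (n i)) (Fin (n i)) S) :
    kron (Function.update Y i (c • P)) = c • kron (Function.update Y i P) := by
  ext I J
  simp only [kron_apply, Matrix.smul_apply, smul_eq_mul]
  rw [Finset.prod_eq_mul_prod_sdiff_singleton_of_mem (Finset.mem_univ i),
    Finset.prod_eq_mul_prod_sdiff_singleton_of_mem (Finset.mem_univ i)]
  simp only [Function.update_self, Matrix.smul_apply, smul_eq_mul, mul_assoc]
  congr 2
  refine Finset.prod_congr rfl fun j hj => ?_
  rw [Function.update_of_ne (by simpa using hj), Function.update_of_ne (by simpa using hj)]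

theorem kron_single (I J : ∀ i, Fin (n i)) :
    kron (fun i => Matrix.single (I i) (J i) (1 : S)) = Matrix.single I J 1 := by
  ext P Q
  rw [kron_apply]
  by_cases h : I = P ∧ J = Q
  · obtain ⟨rfl, rfl⟩ := h
    simp
  · rw [Matrix.single_apply, if_neg h]
    have : ∃ i, ¬ (I i = P i ∧ J i = Q i) := by
      by_contra hne
      push Not at hne
      exact h ⟨funext fun i => (hne i).1, funext fun i => (hne i).2⟩
    obtain ⟨i, hi⟩ := this
    exact Finset.prod_eq_zero (Finset.mem_univ i) (by rw [Matrix.single_apply, if_neg hi])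

variable {A : ι → Type v} [∀ i, Ring (A i)] [∀ i, Algebra R (A i)]
  (F : ∀ i, A i →ₐ[R] Matrix (Fin (n i)) (Fin (n i)) S)

/-- The tensor product of the maps `F i`. -/
noncomputable def theta : (⨂[R] i, A i) →ₐ[R] Matrix (∀ i, Fin (n i)) (∀ i, Fin (n i)) S :=
  PiTensorProduct.liftAlgHom
    (MultilinearMap.mk' (fun a => kron fun i => F i (a i))
      (fun a i x y => by
        simp only [Function.apply_update (fun j => F j), map_add, kron_update_add])
      (fun a i c x => by
        simp only [Function.apply_update (fun j => F j), map_smul]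
        rw [← algebraMap_smul S c (F i x), kron_update_smul, algebraMap_smul]))
    (by simpa using kron_one)
    (fun a b => by
      show kron _ = kron _ * kron _
      rw [← kron_mul]
      congr 1
      funext i
      simp)

theorem theta_tprod (a : ∀ i, A i) : theta F (PiTensorProduct.tprod R a) = kron fun i => F i (a i) := by
  simp [theta, PiTensorProduct.liftAlgHom]

theorem theta_single (i : ι) (a : A i) (I J : ∀ i, Fin (n i)) :
    theta F (PiTensorProduct.singleAlgHom (R := R) i a) I J =
      F i a (I i) (J i) * ∏ l ∈ Finset.univ \ {i}, if I l = J l then 1 else 0 := by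
  rw [PiTensorProduct.singleAlgHom_apply, theta_tprod, kron_apply,
    Finset.prod_eq_mul_prod_sdiff_singleton_of_mem (Finset.mem_univ i)]
  congr 1
  · simp
  · refine Finset.prod_congr rfl fun l hl => ?_
    have hne : l ≠ i := by simpa using hl
    simp [Pi.mulSingle_eq_of_ne hne, Matrix.one_apply]

/-- `S ⊗ ⨂ A i → matrices`. -/
noncomputable def thetaE : S ⊗[R] (⨂[R] i, A i) →ₐ[S] Matrix (∀ i, Fin (n i)) (∀ i, Fin (n i)) S :=
  Algebra.TensorProduct.lift (Algebra.ofId S _) (theta F) fun x _ => Algebra.commute_algebraMap_left x _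

theorem thetaE_tmul (l : S) (x : ⨂[R] i, A i) : thetaE F (l ⊗ₜ[R] x) = l • theta F x := by
  simp [thetaE, Algebra.algebraMap_eq_smul_one]

theorem thetaE_surjective (hF : ∀ i, Submodule.span S (Set.range (F i)) = ⊤) :
    Function.Surjective (thetaE F) := by
  have hk : ∀ (s : Finset ι) (Y : ∀ i, Matrix (Fin (n i)) (Fin (n i)) S),
      (∀ i ∉ s, Y i ∈ Set.range (F i)) → kron Y ∈ (thetaE F).range := by
    intro s
    induction s using Finset.induction_on with
    | empty =>
      intro Y hY
      choose a ha using fun i => hY i (Finset.notMem_empty i)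
      refine ⟨(1 : S) ⊗ₜ[R] PiTensorProduct.tprod R a, ?_⟩
      show thetaE F _ = _
      rw [thetaE_tmul, one_smul, theta_tprod, funext ha]
    | insert i s his ih =>
      intro Y hY
      have h : Y i ∈ Submodule.span S (Set.range (F i)) := by rw [hF i]; trivial
      rw [← Function.update_eq_self i Y]
      generalize Y i = P at h
      induction h using Submodule.span_induction with
      | mem P hP =>
        refine ih _ fun j hj => ?_
        rcases eq_or_ne j i with rfl | hne
        · rwa [Function.update_self]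
        · rw [Function.update_of_ne hne]
          exact hY j (by simp [hne, hj])
      | zero =>
        have : kron (Function.update Y i 0) = 0 := by
          have := kron_update_smul Y i 0 0
          simpa using this
        rw [this]; exact zero_mem _
      | add P Q _ _ hP hQ => rw [kron_update_add]; exact add_mem hP hQ
      | smul c P _ hP => rw [kron_update_smul]; exact (thetaE F).range.smul_mem hP c
  intro M
  show M ∈ (thetaE F).range
  rw [Matrix.matrix_eq_sum_single M]
  refine sum_mem fun I _ => sum_mem fun J _ => ?_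
  have : Matrix.single I J (M I J) = M I J • Matrix.single I J (1 : S) := by
    rw [Matrix.smul_single, smul_eq_mul, mul_one]
  rw [this, ← kron_single]
  exact (thetaE F).range.smul_mem (hk Finset.univ _ fun i hi => absurd (Finset.mem_univ i) hi) _

end kron

section antisym

variable {r d : ℕ} {S : Type w} [CommRing S]

/-- The permutation matrix on `r`-tuples. -/
def permMat (σ : Perm (Fin r)) : Matrix (Fin r → Fin d) (Fin r → Fin d) S :=
  Matrix.of fun I J => if J = I ∘ σ then 1 else 0

theorem permMat_one : permMat (1 : Perm (Fin r)) = (1 : Matrix (Fin r → Fin d) (Fin r → Fin d) S) := by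
  ext I J
  simp [permMat, Matrix.one_apply, eq_comm]

theorem permMat_mul (σ τ : Perm (Fin r)) :
    permMat σ * permMat τ = (permMat (σ * τ) : Matrix (Fin r → Fin d) (Fin r → Fin d) S) := by
  ext I J
  simp only [permMat, Matrix.mul_apply, Matrix.of_apply, ite_mul, one_mul, zero_mul, Finset.sum_ite_eq',
    Finset.mem_univ, if_true]
  rfl

theorem permMat_mulVec (σ : Perm (Fin r)) (v : (Fin r → Fin d) → S) (I : Fin r → Fin d) :
    (permMat σ).mulVec v I = v (I ∘ σ) := by
  simp [Matrix.mulVec, dotProduct, permMat]

variable (r d S) in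
/-- The antisymmetrizer. -/
noncomputable def antisym : Matrix (Fin r → Fin d) (Fin r → Fin d) S :=
  ∑ σ : Perm (Fin r), ((Perm.sign σ : ℤ) : S) • permMat σ

theorem antisym_mulVec (v : (Fin r → Fin d) → S) (I : Fin r → Fin d) :
    (antisym r d S).mulVec v I = ∑ σ : Perm (Fin r), ((Perm.sign σ : ℤ) : S) * v (I ∘ σ) := by
  simp [antisym, Matrix.sum_mulVec, Matrix.smul_mulVec, permMat_mulVec]

theorem antisym_mulVec_comp (v : (Fin r → Fin d) → S) (I : Fin r → Fin d) (τ : Perm (Fin r)) :
    (antisym r d S).mulVec v (I ∘ τ) = ((Perm.sign τ : ℤ) : S) * (antisym r d S).mulVec v I := by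
  rw [antisym_mulVec, antisym_mulVec, Finset.mul_sum]
  refine Fintype.sum_equiv (Equiv.mulLeft τ) _ _ fun σ => ?_
  simp only [Equiv.coe_mulLeft, Perm.coe_mul, map_mul, Units.val_mul, Int.cast_mul, ← mul_assoc,
    Function.comp_assoc]
  have : ((Perm.sign τ : ℤ) : S) * ((Perm.sign τ : ℤ) : S) = 1 := by
    rw [← Int.cast_mul, ← Units.val_mul, Int.units_mul_self, Units.val_one, Int.cast_one]
  rw [this, one_mul]

theorem antisym_mulVec_eq_zero (v : (Fin r → Fin d) → S) (I : Fin r → Fin d) (hI : ¬ Function.Injective I) :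
    (antisym r d S).mulVec v I = 0 := by
  obtain ⟨i, j, hij, hne⟩ := Function.not_injective_iff.mp hI
  rw [antisym_mulVec]
  refine Finset.sum_involution (fun σ _ => Equiv.swap i j * σ) (fun σ _ => ?_) (fun σ _ _ => ?_)
    (fun σ _ => Finset.mem_univ _) fun σ _ => by simp [← mul_assoc]
  · have e : I ∘ (Equiv.swap i j * σ) = I ∘ σ := by
      funext x
      simp only [Function.comp_apply, Perm.coe_mul]
      rcases eq_or_ne (σ x) i with h | h
      · rw [h, Equiv.swap_apply_left, hij]
      · rcases eq_or_ne (σ x) j with h' | h'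
        · rw [h', Equiv.swap_apply_right, hij]
        · rw [Equiv.swap_apply_of_ne_of_ne h h']
    rw [e, map_mul, Perm.sign_swap hne, neg_one_mul, Units.val_neg, Int.cast_neg, neg_mul, add_neg_cancel]
  · intro h
    exact hne (Equiv.swap_eq_one_iff.mp (mul_eq_right.mp h))

end antisym

end Groth.Agent.Brauer25.AzPow
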