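import Groth.Agent.Lib.MilnorSqH7.Glue
import Groth.Agent.Lib.Brauer25.AzumayaOps

/-!
Azumaya algebras over Milnor squares.
-/

set_option autoImplicit false

universe u

open TensorProduct

namespace Groth.Agent.Brauer25

variable {B' B A' A : Type u} [CommRing B'] [CommRing B] [CommRing A'] [CommRing A]
  [Algebra B' B] [Algebra B' A'] [Algebra B A] [Algebra A' A] [Algebra B' A]
  [IsScalarTower B' B A] [IsScalarTower B' A' A]

theorem exists_prime_over (h : EtMil.IsFibreSquare B' B A' A) (p : Ideal B') [p.IsPrime] :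
    (∃ q : Ideal B, q.IsPrime ∧ q.comap (algebraMap B' B) = p) ∨
      ∃ q : Ideal A', q.IsPrime ∧ q.comap (algebraMap B' A') = p := by
  by_cases hp : RingHom.ker (algebraMap B' B) ≤ p
  · left
    exact ⟨p.map (algebraMap B' B), Ideal.map_isPrime_of_surjective (MilnorH7.weak_of_isFibreSquare h).surjFst hp,
      by rw [Ideal.comap_map_of_surjective _ (MilnorH7.weak_of_isFibreSquare h).surjFst,
        ← RingHom.ker_eq_comap_bot, sup_eq_left.2 hp]⟩
  · right
    obtain ⟨j, hj, hjp⟩ := SetLike.not_le_iff_exists.1 hp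
    rw [RingHom.mem_ker] at hj
    refine (Ideal.comap_map_eq_self_iff_of_isPrime p).1 (le_antisymm (fun x hx => ?_) Ideal.le_comap_map)
    have key : ∀ z ∈ p.map (algebraMap B' A'), ∃ c ∈ p, algebraMap B' B c = 0 ∧
        algebraMap B' A' c = algebraMap B' A' j * z := by
      intro z hz
      induction hz using Submodule.span_induction with
      | mem z hz =>
        obtain ⟨y, hy, rfl⟩ := hz
        exact ⟨j * y, p.mul_mem_left j hy, by rw [map_mul, hj, zero_mul], by rw [map_mul]⟩
      | zero => exact ⟨0, p.zero_mem, map_zero _, by simp⟩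
      | add u v _ _ hu hv =>
        obtain ⟨c, hc, hc0, hc'⟩ := hu
        obtain ⟨d, hd, hd0, hd'⟩ := hv
        exact ⟨c + d, p.add_mem hc hd, by rw [map_add, hc0, hd0, add_zero],
          by rw [map_add, hc', hd', mul_add]⟩
      | smul a z _ hz =>
        obtain ⟨c, hc, hc0, hc'⟩ := hz
        obtain ⟨e, ⟨he0, he⟩, -⟩ := h.2 0 (algebraMap B' A' j * a) (by
          rw [map_zero, map_mul, MilnorH7.algebraMap_snd_eq_zero (B := B) (A' := A') (A := A) hj, zero_mul])
        obtain ⟨f, ⟨hf0, hf⟩, -⟩ := h.2 0 (algebraMap B' A' j * (a • z)) (by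
          rw [map_zero, map_mul, MilnorH7.algebraMap_snd_eq_zero (B := B) (A' := A') (A := A) hj, zero_mul])
        refine ⟨f, ?_, hf0, hf⟩
        have hje : j * f = e * c := MilnorH7.pair_ext h (by simp [hj, he0, hf0])
          (by rw [map_mul, map_mul, he, hf, hc', smul_eq_mul]; ring)
        exact (Ideal.IsPrime.mem_or_mem ‹p.IsPrime› (hje ▸ p.mul_mem_left e hc)).resolve_left hjp
    obtain ⟨c, hc, hc0, hc'⟩ := key _ (Ideal.mem_comap.1 hx)
    have : j * x = c := MilnorH7.pair_ext h (by rw [map_mul, hj, zero_mul, hc0]) (by rw [map_mul, hc'])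
    exact (Ideal.IsPrime.mem_or_mem ‹p.IsPrime› (this ▸ hc)).resolve_left hjp

theorem isAzumaya_of_pair (h : EtMil.IsFibreSquare B' B A' A) (D : Type u) [Ring D] [Algebra B' D]
    [IsAzumaya B (B ⊗[B'] D)] [IsAzumaya A' (A' ⊗[B'] D)] : IsAzumaya B' D := by
  haveI := Module.finitePresentation_of_projective B (B ⊗[B'] D)
  haveI := Module.finitePresentation_of_projective A' (A' ⊗[B'] D)
  haveI := MilnorH7.flat_of_pair h D
  haveI := MilnorH7.finitePresentation_of_pair h D
  haveI : Module.Projective B' D := Module.Flat.projective_of_finitePresentation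
  refine Azumaya.isAzumaya_iff_fibres.mpr fun p _ => ?_
  have key : ∀ (S : Type u) [CommRing S] [Algebra B' S] [IsAzumaya S (S ⊗[B'] D)] (q : Ideal S) [q.IsPrime],
      q.comap (algebraMap B' S) = p →
      Algebra.IsCentral p.ResidueField (p.ResidueField ⊗[B'] D) ∧ IsSimpleRing (p.ResidueField ⊗[B'] D) := by
    intro S _ _ _ q _ hq
    obtain ⟨i1, i2⟩ := exists_residue_algebra S p q hq.symm
    obtain ⟨hB, hB'⟩ := Azumaya.fibre_centralSimple (R := S) (A := S ⊗[B'] D) q
    let e : q.ResidueField ⊗[S] (S ⊗[B'] D) ≃ₐ[q.ResidueField]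
        q.ResidueField ⊗[p.ResidueField] (p.ResidueField ⊗[B'] D) :=
      (AlgEquiv.symm <| AlgEquiv.ofLinearEquiv
        (TensorProduct.AlgebraTensorModule.cancelBaseChange B' S q.ResidueField q.ResidueField D).symm
        (by simp [Algebra.TensorProduct.one_def]) <|
          LinearMap.map_mul_of_map_mul_tmul (fun _ _ _ _ ↦ by simp)).trans
      (AlgEquiv.ofLinearEquiv
        (TensorProduct.AlgebraTensorModule.cancelBaseChange B' p.ResidueField q.ResidueField q.ResidueField D).symm
        (by simp [Algebra.TensorProduct.one_def]) <|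
          LinearMap.map_mul_of_map_mul_tmul (fun _ _ _ _ ↦ by simp))
    exact csa_descend (L := q.ResidueField) (CSAlg.isCentral_of_algEquiv e)
      (IsSimpleRing.of_ringEquiv e.toRingEquiv inferInstance)
  rcases exists_prime_over h p with ⟨q, hq, hqp⟩ | ⟨q, hq, hqp⟩
  · exact key B q hqp
  · exact key A' q hqp

end Groth.Agent.Brauer25
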