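import Groth.Agent.Lib.CSAlg.Split
import Mathlib.RingTheory.SimpleRing.Field

/-!
Consequences of the structure theory of central simple algebras: sep. closed base, Skolem–Noether over
the centre, involutions.
-/

namespace Groth.Agent.Brauer25

open scoped TensorProduct

universe u v w

variable {k : Type u} [Field k]

theorem exists_algEquiv_matrix_of_isSepClosed [IsSepClosed k] (A : Type v) [Ring A] [Algebra k A]
    [Algebra.IsCentral k A] [IsSimpleRing A] [FiniteDimensional k A] :
    ∃ n : ℕ, n ≠ 0 ∧ Nonempty (A ≃ₐ[k] Matrix (Fin n) (Fin n) k) := by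
  obtain ⟨E, -, -, h⟩ := CSAlg.exists_galois_splits (k := k) A
  obtain ⟨n, hn, ⟨f⟩⟩ := CSAlg.splits_of_algHom (IsSepClosed.lift (M := k) : E →ₐ[k] k) h
  exact ⟨n, hn, ⟨(Algebra.TensorProduct.lid k A).symm.trans f⟩⟩

variable {A : Type v} [Ring A] [Algebra k A] [IsSimpleRing A] [FiniteDimensional k A]

/-- Automorphisms fixing the centre are inner. -/
theorem exists_unit_conj_of_fix_center (φ : A ≃ₐ[k] A) (h : ∀ c ∈ Subalgebra.center k A, φ c = c) :
    ∃ a : Aˣ, ∀ x : A, φ x = (a : A) * x * (a⁻¹ : Aˣ) := by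
  letI : Field (Subring.center A) := (IsSimpleRing.isField_center A).toField
  letI : Algebra (Subring.center A) A :=
    (Subring.center A).subtype.toAlgebra' fun c x => (Subring.mem_center_iff.mp c.2 x).symm
  haveI : Algebra.IsCentral (Subring.center A) A :=
    ⟨fun x hx => ⟨⟨x, Subring.mem_center_iff.mpr (Subalgebra.mem_center_iff.mp hx)⟩, rfl⟩⟩
  letI : Algebra k (Subring.center A) :=
    ((algebraMap k A).codRestrict (Subring.center A) fun c =>
      Subring.mem_center_iff.mpr fun x => (Algebra.commutes c x).symm).toAlgebra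
  haveI : IsScalarTower k (Subring.center A) A := IsScalarTower.of_algebraMap_eq fun _ => rfl
  haveI : FiniteDimensional (Subring.center A) A := Module.Finite.of_restrictScalars_finite k _ _
  let φ' : A →ₐ[Subring.center A] A :=
    { φ.toRingEquiv.toRingHom with
      commutes' := fun c => h c.1 (Subalgebra.mem_center_iff.mpr (Subring.mem_center_iff.mp c.2)) }
  obtain ⟨a, ha⟩ := CSAlg.skolem_noether φ' (AlgHom.id (Subring.center A) A)
  exact ⟨a, ha⟩

/-- Two involutions agreeing on the centre differ by an inner automorphism. -/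
theorem exists_unit_conj_of_antihoms {s t : A →ₗ[k] A}
    (hs1 : s 1 = 1) (hsmul : ∀ x y : A, s (x * y) = s y * s x) (hss : ∀ x : A, s (s x) = x)
    (ht1 : t 1 = 1) (htmul : ∀ x y : A, t (x * y) = t y * t x) (htt : ∀ x : A, t (t x) = x)
    (hagree : ∀ c ∈ Subalgebra.center k A, s c = t c) :
    ∃ a : Aˣ, ∀ x : A, s x = (a : A) * t x * (a⁻¹ : Aˣ) := by
  let φ : A ≃ₐ[k] A := AlgEquiv.ofLinearEquiv
    (LinearEquiv.ofLinear (s ∘ₗ t) (t ∘ₗ s) (LinearMap.ext fun x => by simp [htt, hss])
      (LinearMap.ext fun x => by simp [htt, hss]))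
    (by simp [ht1, hs1]) (fun x y => by simp [htmul, hsmul])
  obtain ⟨a, ha⟩ := exists_unit_conj_of_fix_center φ fun c hc => by
    have htc : t c ∈ Subalgebra.center k A := Subalgebra.mem_center_iff.mpr fun x => by
      have := congrArg t (Subalgebra.mem_center_iff.mp hc (t x))
      rw [htmul, htmul, htt] at this
      exact this.symm
    show s (t c) = c
    rw [hagree _ htc, htt]
  refine ⟨a, fun x => ?_⟩
  have := ha (t x)
  simpa [φ, htt] using this

theorem map_unit_inv {t : A →ₗ[k] A} (ht1 : t 1 = 1) (htmul : ∀ x y : A, t (x * y) = t y * t x) (a : Aˣ) :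
    t (a : A) * t ((a⁻¹ : Aˣ) : A) = 1 ∧ t ((a⁻¹ : Aˣ) : A) * t (a : A) = 1 :=
  ⟨by rw [← htmul, Units.inv_mul, ht1], by rw [← htmul, Units.mul_inv, ht1]⟩

/-- `x ↦ a t(x) a⁻¹` is again an involution when `t a = ±a`. -/
theorem conj_involution {t : A →ₗ[k] A} (ht1 : t 1 = 1) (htmul : ∀ x y : A, t (x * y) = t y * t x)
    (htt : ∀ x : A, t (t x) = x) {s : A →ₗ[k] A} (a : Aˣ) (ha : t (a : A) = a ∨ t (a : A) = -a)
    (hs : ∀ x : A, s x = (a : A) * t x * (a⁻¹ : Aˣ)) :
    s 1 = 1 ∧ (∀ x y : A, s (x * y) = s y * s x) ∧ (∀ x : A, s (s x) = x) ∧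
      ∀ c ∈ Subalgebra.center k A, s c = t c := by
  have htinv : ∀ x : A, (a : A) * (t ((a⁻¹ : Aˣ) : A) * (x * t (a : A))) * (a⁻¹ : Aˣ) = x := by
    intro x
    rcases ha with h | h
    · have e : t ((a⁻¹ : Aˣ) : A) = (a⁻¹ : Aˣ) := by
        have := (map_unit_inv ht1 htmul a).1
        rw [h] at this
        exact a.isUnit.mul_left_cancel (by simpa using this)
      simp [e, h, ← mul_assoc]
    · have e : t ((a⁻¹ : Aˣ) : A) = -((a⁻¹ : Aˣ) : A) := by
        have := (map_unit_inv ht1 htmul a).1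
        rw [h, neg_mul, neg_eq_iff_eq_neg] at this
        exact a.isUnit.mul_left_cancel (by simpa using this)
      simp [e, h, ← mul_assoc]
  refine ⟨by simp [hs, ht1], fun x y => by simp [hs, htmul, mul_assoc], fun x => ?_, fun c hc => ?_⟩
  · rw [hs, hs x, htmul, htmul, htt]
    exact htinv x
  · have htc : t c ∈ Subalgebra.center k A := Subalgebra.mem_center_iff.mpr fun x => by
      have := congrArg t (Subalgebra.mem_center_iff.mp hc (t x))
      rw [htmul, htmul, htt] at this
      exact this.symm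
    rw [hs, Subalgebra.mem_center_iff.mp htc, mul_assoc, Units.mul_inv, mul_one]

/-- The multiplier of two involutions: a central unit `c` with `a = c * t a` and `t c * c = 1`. -/
theorem exists_multiplier {t : A →ₗ[k] A} (ht1 : t 1 = 1) (htmul : ∀ x y : A, t (x * y) = t y * t x)
    (htt : ∀ x : A, t (t x) = x) {s : A →ₗ[k] A} (hss : ∀ x : A, s (s x) = x) (a : Aˣ)
    (hs : ∀ x : A, s x = (a : A) * t x * (a⁻¹ : Aˣ)) :
    ∃ c ∈ Subalgebra.center k A, t (a : A) = c * a ∧ t c * c = 1 := by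
  refine ⟨t (a : A) * (a⁻¹ : Aˣ), Subalgebra.mem_center_iff.mpr fun x => ?_, by simp [mul_assoc], ?_⟩
  · have h := hss x
    rw [hs, hs x, htmul, htmul, htt] at h
    have h2 := congrArg (fun y => t (a : A) * (a⁻¹ : Aˣ) * y) h
    simp only [← mul_assoc, Units.inv_mul_cancel_right, (map_unit_inv ht1 htmul a).1, one_mul] at h2
    rw [← mul_assoc]
    exact h2
  · rw [htmul, htt, mul_assoc, ← mul_assoc (a : A) (t _), ← mul_assoc]
    have h := hss (a : A)
    rw [hs, hs (a : A), htmul, htmul, htt] at h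
    have h2 := congrArg (fun y => ((a⁻¹ : Aˣ) : A) * y) h
    simp only [← mul_assoc, Units.inv_mul, one_mul] at h2 ⊢
    exact h2

end Groth.Agent.Brauer25
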