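import Groth.Prelude.Def_GSzCSA
import Groth.Agent.Lib.CSAlg.Split
import Groth.Agent.Lib.CSAlg.Centralizer
import Mathlib.FieldTheory.Galois.Basic
import Mathlib.RingTheory.Norm.Transitivity
import Mathlib.RingTheory.Norm.Basic
import Mathlib.GroupTheory.SpecificGroups.Cyclic
import Mathlib.RingTheory.SimpleRing.Matrix

/-!
# Cyclic algebras

Normal form, universal property, and the basic structure of cyclic algebras.
-/

namespace Groth.Agent.Brauer25.Cyclic

open scoped TensorProduct
open CSAGal Module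

universe u v w w'

set_option linter.style.haveILetI false

variable {k : Type u} [Field k] {K : Type v} [Field K] [Algebra k K] [FiniteDimensional k K] [IsGalois k K]
variable {σ : K ≃ₐ[k] K}
variable {C : Type w} [Ring C] [Algebra k C] {ι : K →ₐ[k] C} {y : C}

local notation "τ" => (σ⁻¹ : K ≃ₐ[k] K)
local notation "m" => finrank k K

section group
variable (hσ : ∀ g : K ≃ₐ[k] K, g ∈ Subgroup.zpowers σ)
include hσ

theorem orderOf_gen : orderOf σ = m := by
  rw [orderOf_eq_card_of_forall_mem_zpowers hσ, IsGalois.card_aut_eq_finrank]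

theorem gen_pow_finrank : σ ^ m = 1 := by
  rw [← orderOf_gen hσ]; exact pow_orderOf_eq_one σ

theorem inv_pow_finrank : τ ^ m = 1 := by
  rw [inv_pow, gen_pow_finrank hσ, inv_one]

theorem inv_pow_injOn {i j : ℕ} (hi : i < m) (hj : j < m) (h : τ ^ i = τ ^ j) : i = j :=
  pow_injOn_Iio_orderOf (by rw [orderOf_inv, orderOf_gen hσ]; exact hi)
    (by rw [orderOf_inv, orderOf_gen hσ]; exact hj) h

theorem inv_pow_bijective : Function.Bijective (fun i : Fin m => τ ^ (i : ℕ)) := by
  rw [Fintype.bijective_iff_injective_and_card]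
  refine ⟨fun i j h => Fin.ext (inv_pow_injOn hσ i.2 j.2 h), ?_⟩
  rw [Fintype.card_fin, ← Nat.card_eq_fintype_card, IsGalois.card_aut_eq_finrank]

/-- The norm is the product over the powers of a generator. -/
theorem norm_eq_prod (x : K) :
    algebraMap k K (Algebra.norm k x) = ∏ i : Fin m, (τ ^ (i : ℕ)) x := by
  rw [Algebra.norm_eq_prod_automorphisms]
  exact ((inv_pow_bijective hσ).prod_comp fun g : K ≃ₐ[k] K => g x).symm

theorem exists_algebraMap_of_fixed {c : K} (hc : τ c = c) : ∃ r : k, algebraMap k K r = c := by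
  refine IntermediateField.mem_bot.1 ((IsGalois.mem_bot_iff_fixed _).2 fun g => ?_)
  obtain ⟨i, rfl⟩ := (inv_pow_bijective hσ).2 g
  simp only
  induction (i : ℕ) with
  | zero => simp
  | succ n ih => rw [pow_succ, AlgEquiv.mul_apply, hc, ih]

/-- The vectors of conjugates span. -/
theorem span_conj_eq_top :
    Submodule.span K (Set.range fun (x : K) => fun i : Fin m => (τ ^ (i : ℕ)) x) = ⊤ := by
  classical
  by_contra hne
  obtain ⟨φ, hφ0, hle⟩ := Submodule.exists_le_ker_of_lt_top _ (lt_top_iff_ne_top.mpr hne)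
  apply hφ0
  have hli := (linearIndependent_monoidHom K K).comp
    (fun i : Fin m => ((τ ^ (i : ℕ)).toAlgHom : K →* K))
    (fun i j h => Fin.ext (inv_pow_injOn hσ i.2 j.2 (AlgEquiv.ext fun x => DFunLike.congr_fun h x)))
  have h0 : ∀ i : Fin m, φ (Pi.single i 1) = 0 := by
    refine Fintype.linearIndependent_iff.mp hli _ ?_
    funext x
    have h2 := hle (Submodule.subset_span ⟨x, rfl⟩)
    rw [LinearMap.mem_ker] at h2
    change φ (fun i : Fin m => (τ ^ (i : ℕ)) x) = 0 at h2
    rw [pi_eq_sum_univ' (fun i : Fin m => (τ ^ (i : ℕ)) x), map_sum] at h2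
    simpa [Finset.sum_apply, mul_comm] using! h2
  refine (Pi.basisFun K (Fin m)).ext fun i => ?_
  simpa using h0 i

end group

section rel

/-- The normal form map `v ↦ ∑ ι (v i) y ^ i`. -/
noncomputable def nf (ι : K →ₐ[k] C) (y : C) : (Fin m → K) →ₗ[k] C :=
  ∑ i : Fin m, (LinearMap.mulRight k (y ^ (i : ℕ))).comp (ι.toLinearMap.comp (LinearMap.proj i))

theorem nf_apply (v : Fin m → K) : nf ι y v = ∑ i : Fin m, ι (v i) * y ^ (i : ℕ) := by
  simp [nf, LinearMap.sum_apply]

theorem nf_single (i : Fin m) (x : K) : nf ι y (Pi.single i x) = ι x * y ^ (i : ℕ) := by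
  classical
  rw [nf_apply, Finset.sum_eq_single i]
  · simp
  · intro j _ hj; simp [hj]
  · intro h; exact absurd (Finset.mem_univ i) h

theorem nf_const_mul (c : K) (v : Fin m → K) : nf ι y (fun i => c * v i) = ι c * nf ι y v := by
  simp [nf_apply, Finset.mul_sum, mul_assoc]

variable (hc : ∀ x : K, ι x * y = y * ι (σ x))
include hc

theorem y_mul_ι (x : K) : y * ι x = ι (τ x) * y := by
  rw [hc (τ x), AlgEquiv.aut_inv, AlgEquiv.apply_symm_apply]

theorem ypow_mul_ι (n : ℕ) (x : K) : y ^ n * ι x = ι ((τ ^ n) x) * y ^ n := by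
  induction n generalizing x with
  | zero => simp
  | succ n ih =>
    rw [pow_succ, mul_assoc, y_mul_ι hc, ← mul_assoc, ih, mul_assoc, ← pow_succ,
      pow_succ (σ⁻¹) n, AlgEquiv.mul_apply]

theorem monomial_mul (x z : K) (i j : ℕ) :
    ι x * y ^ i * (ι z * y ^ j) = ι (x * (τ ^ i) z) * y ^ (i + j) := by
  rw [map_mul, pow_add, mul_assoc, ← mul_assoc (y ^ i), ypow_mul_ι hc]
  simp only [mul_assoc]

theorem nf_mul_ι (v : Fin m → K) (w : K) :
    nf ι y v * ι w = nf ι y (fun i => (τ ^ (i : ℕ)) w * v i) := by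
  simp only [nf_apply, Finset.sum_mul, map_mul]
  refine Finset.sum_congr rfl fun i _ => ?_
  rw [mul_assoc, ypow_mul_ι hc, ← mul_assoc, ← map_mul, ← map_mul, mul_comm (v i)]

theorem ι_mul_y_pow (z : K) : ∀ n : ℕ,
    (ι z * y) ^ n = ι (∏ i ∈ Finset.range n, (τ ^ i) z) * y ^ n
  | 0 => by simp
  | n + 1 => by
    rw [pow_succ, ι_mul_y_pow z n, Finset.prod_range_succ]
    nth_rw 2 [← pow_one y]
    rw [monomial_mul hc]

/-- Isolation of a homogeneous component. -/
theorem monomial_mem (hσ : ∀ g : K ≃ₐ[k] K, g ∈ Subgroup.zpowers σ) (P : AddSubgroup C)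
    (hl : ∀ c u, u ∈ P → ι c * u ∈ P) (hr : ∀ c u, u ∈ P → u * ι c ∈ P)
    (v : Fin m → K) (hv : nf ι y v ∈ P) (i : Fin m) : ι (v i) * y ^ (i : ℕ) ∈ P := by
  classical
  have key : ∀ t ∈ Submodule.span K (Set.range fun (x : K) => fun i : Fin m => (τ ^ (i : ℕ)) x),
      nf ι y (t * v) ∈ P := by
    intro t ht
    induction ht using Submodule.span_induction with
    | mem t ht =>
      obtain ⟨w, rfl⟩ := ht
      have := hr w _ hv
      rwa [nf_mul_ι hc] at this
    | zero => rw [zero_mul, map_zero]; exact P.zero_mem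
    | add s t _ _ hs ht => rw [add_mul, map_add]; exact P.add_mem hs ht
    | smul a t _ ht =>
      have := hl a _ ht
      rw [← nf_const_mul] at this
      convert this using 2
      funext j
      simp [mul_assoc]
  have h := key (Pi.single i 1) (by rw [span_conj_eq_top hσ]; trivial)
  have e : (Pi.single i 1 : Fin m → K) * v = Pi.single i (v i) := by
    funext j
    rcases eq_or_ne j i with rfl | hj <;> simp [*]
  rwa [e, nf_single] at h

theorem nf_injective (hσ : ∀ g : K ≃ₐ[k] K, g ∈ Subgroup.zpowers σ) [Nontrivial C] (hy : IsUnit y) :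
    Function.Injective (nf ι y) := by
  refine (injective_iff_map_eq_zero _).2 fun v hv => funext fun i => ?_
  have := monomial_mem hc hσ ⊥ (fun c u hu => by simp_all) (fun c u hu => by simp_all) v
    (by simp [hv]) i
  rw [AddSubgroup.mem_bot, (hy.pow _).mul_left_eq_zero] at this
  exact ι.toRingHom.injective (this.trans (map_zero ι).symm)

theorem nf_bijective (hσ : ∀ g : K ≃ₐ[k] K, g ∈ Subgroup.zpowers σ) [Nontrivial C] (hy : IsUnit y)
    [FiniteDimensional k C] (hdim : finrank k C = m ^ 2) : Function.Bijective (nf ι y) := by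
  refine ⟨nf_injective hc hσ hy, ?_⟩
  refine (LinearMap.injective_iff_surjective_of_finrank_eq_finrank ?_).1 (nf_injective hc hσ hy)
  rw [Module.finrank_pi_fintype, hdim]
  simp [sq]

/-- An element commuting with `ι K` lies in `ι K`. -/
theorem exists_ι_of_commute (hσ : ∀ g : K ≃ₐ[k] K, g ∈ Subgroup.zpowers σ)
    (hb : Function.Bijective (nf ι y)) (u : C) (hu : ∀ x, ι x * u = u * ι x) : ∃ c : K, u = ι c := by
  classical
  obtain ⟨v, rfl⟩ := hb.2 u
  haveI : NeZero m := ⟨Module.finrank_pos.ne'⟩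
  refine ⟨v 0, ?_⟩
  have hv : ∀ i : Fin m, i ≠ 0 → v i = 0 := by
    intro i hi
    by_contra hvi
    apply hi
    have h1 : τ ^ (i : ℕ) = τ ^ 0 := by
      refine AlgEquiv.ext fun x => ?_
      have h2 := hu x
      rw [nf_mul_ι hc, ← nf_const_mul] at h2
      have h3 := congrFun (hb.1 h2) i
      simpa using (mul_right_cancel₀ hvi h3).symm
    exact Fin.ext (inv_pow_injOn hσ i.2 Module.finrank_pos h1)
  rw [nf_apply, Finset.sum_eq_single (0 : Fin m)]
  · simp
  · intro j _ hj; simp [hv j hj]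
  · intro h; exact absurd (Finset.mem_univ _) h

/-- The span of the normal forms is the subalgebra generated. -/
theorem range_nf {b : k} (hpow : y ^ m = algebraMap k C b) :
    LinearMap.range (nf ι y) = Subalgebra.toSubmodule (Algebra.adjoin k (Set.range ι ∪ {y})) := by
  classical
  have hm : 0 < m := Module.finrank_pos
  have hmono : ∀ (x : K) (n : ℕ), ι x * y ^ n ∈ LinearMap.range (nf ι y) := by
    intro x n
    refine ⟨Pi.single ⟨n % m, Nat.mod_lt n hm⟩ (b ^ (n / m) • x), ?_⟩
    rw [nf_single, map_smul, Algebra.smul_def, map_pow, ← hpow, ← pow_mul,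
      ← (show Commute (ι x) (y ^ (m * (n / m))) by
        rw [pow_mul, hpow, ← map_pow]; exact (Algebra.commute_algebraMap_left _ _).symm).eq,
      mul_assoc, ← pow_add]
    congr 2
    rw [add_comm]; exact Nat.mod_add_div n m
  apply le_antisymm
  · rintro _ ⟨v, rfl⟩
    rw [nf_apply]
    refine Submodule.sum_mem _ fun i _ => ?_
    change ι (v i) * y ^ (i : ℕ) ∈ Algebra.adjoin k (Set.range ι ∪ {y})
    refine mul_mem (Algebra.subset_adjoin (Or.inl ⟨v i, rfl⟩)) (pow_mem ?_ _)
    exact Algebra.subset_adjoin (Or.inr rfl)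
  · intro u hu
    have hu' : u ∈ Algebra.adjoin k (Set.range ι ∪ {y}) := hu
    clear hu
    induction hu' using Algebra.adjoin_induction with
    | mem u hu =>
      rcases hu with ⟨x, rfl⟩ | rfl
      · simpa using hmono x 0
      · simpa using hmono 1 1
    | algebraMap r => simpa using hmono (algebraMap k K r) 0
    | add a c _ _ ha hc' => exact Submodule.add_mem _ ha hc'
    | mul a c _ _ ha hc' =>
      obtain ⟨p, rfl⟩ := ha
      obtain ⟨q, rfl⟩ := hc'
      rw [nf_apply, nf_apply, Finset.sum_mul]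
      refine Submodule.sum_mem _ fun i _ => ?_
      rw [Finset.mul_sum]
      refine Submodule.sum_mem _ fun j _ => ?_
      rw [monomial_mul hc]
      exact hmono _ _

end rel

variable (hσ : ∀ g : K ≃ₐ[k] K, g ∈ Subgroup.zpowers σ)
include hσ

/-- The subalgebra generated by a solution of the cyclic relations is a cyclic algebra. -/
theorem isCyclicAlg_adjoin [Nontrivial C] (b : kˣ) (hpow : y ^ m = algebraMap k C (b : k))
    (hc : ∀ x : K, ι x * y = y * ι (σ x)) :
    IsCyclicAlg k K σ b (Algebra.adjoin k (Set.range ι ∪ {y})) := by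
  let S := Algebra.adjoin k (Set.range ι ∪ {y})
  have hy : y ∈ S := Algebra.subset_adjoin (Or.inr rfl)
  let ι' : K →ₐ[k] S := ι.codRestrict S fun x => Algebra.subset_adjoin (Or.inl ⟨x, rfl⟩)
  refine ⟨ι', ⟨y, hy⟩, Subtype.ext hpow, fun x => Subtype.ext (hc x), ?_, Module.finrank_pos, ?_⟩
  · have e : Set.range ι' ∪ {(⟨y, hy⟩ : S)} = (Subtype.val) ⁻¹' (Set.range ι ∪ {y}) := by
      ext z
      simp [ι', Subtype.ext_iff]
    rw [e]
    exact Algebra.adjoin_adjoin_coe_preimage
  · have hu : IsUnit y := (isUnit_pow_iff Module.finrank_pos.ne').1 (hpow ▸ (b.isUnit.map _))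
    change finrank k (Subalgebra.toSubmodule S) = _
    rw [← range_nf hc hpow, LinearMap.finrank_range_of_inj (nf_injective hc hσ hu),
      Module.finrank_pi_fintype]
    simp [sq]

omit hσ [FiniteDimensional k K] [IsGalois k K] in
theorem finite_of_isCyclicAlg {b : kˣ} {A : Type w} [Ring A] [Algebra k A]
    (hA : IsCyclicAlg k K σ b A) : Nontrivial A ∧ FiniteDimensional k A ∧ finrank k A = m ^ 2 := by
  obtain ⟨-, -, -, -, -, hm, hdim⟩ := hA
  have : 0 < finrank k A := by rw [hdim]; positivity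
  exact ⟨Module.nontrivial_of_finrank_pos this, .of_finrank_pos this, hdim⟩

/-- Normal form data of a cyclic algebra. -/
theorem exists_data {b : kˣ} {A : Type w} [Ring A] [Algebra k A] (hA : IsCyclicAlg k K σ b A) :
    ∃ (ι : K →ₐ[k] A) (y : A), y ^ m = algebraMap k A (b : k) ∧ (∀ x : K, ι x * y = y * ι (σ x)) ∧
      IsUnit y ∧ Function.Bijective (nf ι y) ∧ Algebra.adjoin k (Set.range ι ∪ {y}) = ⊤ := by
  obtain ⟨_, _, hdim⟩ := finite_of_isCyclicAlg hA
  obtain ⟨ι, y, hpow, hc, hadj, -, -⟩ := hA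
  have hu : IsUnit y := (isUnit_pow_iff Module.finrank_pos.ne').1 (hpow ▸ (b.isUnit.map _))
  exact ⟨ι, y, hpow, hc, hu, nf_bijective hc hσ hu hdim, hadj⟩

/-- Cyclic algebras are central simple. -/
theorem isCSA_of_isCyclicAlg {b : kˣ} {A : Type w} [Ring A] [Algebra k A] (hA : IsCyclicAlg k K σ b A) :
    Algebra.IsCentral k A ∧ IsSimpleRing A := by
  classical
  obtain ⟨_, _, hdim⟩ := finite_of_isCyclicAlg hA
  obtain ⟨ι, y, hpow, hc, hu, hb, hadj⟩ := exists_data hσ hA
  constructor
  · refine ⟨fun u hu' => ?_⟩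
    have hcomm := Subalgebra.mem_center_iff.1 hu'
    obtain ⟨c, rfl⟩ := exists_ι_of_commute hc hσ hb u (fun x => hcomm (ι x))
    have h1 : ι (τ c) = ι c := by
      have h2 := y_mul_ι hc c
      rw [hcomm y] at h2
      exact (hu.mul_left_injective h2).symm
    obtain ⟨r, rfl⟩ := exists_algebraMap_of_fixed hσ (ι.toRingHom.injective h1)
    exact Algebra.mem_bot.2 ⟨r, (ι.commutes r).symm⟩
  · refine IsSimpleRing.of_eq_bot_or_eq_top fun I => or_iff_not_imp_left.2 fun hI => ?_
    obtain ⟨u, huI, hu0⟩ : ∃ u ∈ I, u ≠ 0 := by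
      by_contra hcon
      push Not at hcon
      exact hI (eq_bot_iff.2 fun z hz => (TwoSidedIdeal.mem_bot A).2 (hcon z hz))
    obtain ⟨v, rfl⟩ := hb.2 u
    obtain ⟨i, hi⟩ : ∃ i, v i ≠ 0 := Function.ne_iff.1 (fun h => hu0 (by subst h; exact map_zero _))
    have hmem := monomial_mem hc hσ
      { carrier := (I : Set A), add_mem' := fun h h' => I.add_mem h h', zero_mem' := I.zero_mem,
        neg_mem' := fun h => I.neg_mem h }
      (fun c u hu => I.mul_mem_left _ _ hu) (fun c u hu => I.mul_mem_right _ _ hu) v huI i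
    have hun : IsUnit (ι (v i) * y ^ (i : ℕ)) := ((IsUnit.mk0 _ hi).map ι).mul (hu.pow _)
    obtain ⟨w, hw⟩ := hun
    have h1 : (1 : A) ∈ I := by
      have := I.mul_mem_left ((w⁻¹ : Aˣ) : A) _ (hw ▸ hmem)
      rwa [Units.inv_mul] at this
    exact eq_top_iff.2 fun z _ => by simpa using I.mul_mem_left z _ h1

/-- A cyclic algebra is split by its cyclic field. -/
theorem splits_of_isCyclicAlg {b : kˣ} {A : Type w} [Ring A] [Algebra k A] (hA : IsCyclicAlg k K σ b A) :
    Curves.Splits k A K := by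
  obtain ⟨_, _⟩ := isCSA_of_isCyclicAlg hσ hA
  obtain ⟨_, _, hdim⟩ := finite_of_isCyclicAlg hA
  obtain ⟨ι, -⟩ := hA
  exact CSAlg.splits_of_finrank_eq_sq ι hdim

/-- The universal property. -/
theorem exists_algHom {b : kˣ} {A : Type w} [Ring A] [Algebra k A] {C : Type w'} [Ring C] [Algebra k C]
    {ι : K →ₐ[k] A} {y : A} (hpow : y ^ m = algebraMap k A (b : k))
    (hc : ∀ x : K, ι x * y = y * ι (σ x)) (hb : Function.Bijective (nf ι y))
    (ι' : K →ₐ[k] C) (y' : C) (hpow' : y' ^ m = algebraMap k C (b : k))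
    (hc' : ∀ x : K, ι' x * y' = y' * ι' (σ x)) :
    ∃ f : A →ₐ[k] C, (∀ x, f (ι x) = ι' x) ∧ f y = y' := by
  classical
  have hm : 0 < m := Module.finrank_pos
  let e := LinearEquiv.ofBijective (nf ι y) hb
  let g : A →ₗ[k] C := (nf ι' y').comp e.symm.toLinearMap
  have hg : ∀ (x : K) (n : ℕ), g (ι x * y ^ n) = ι' x * y' ^ n := by
    intro x n
    have hn : n = n % m + m * (n / m) := (Nat.mod_add_div n m).symm
    have hA : ι x * y ^ n = nf ι y (Pi.single ⟨n % m, Nat.mod_lt n hm⟩ ((b : k) ^ (n / m) • x)) := by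
      rw [nf_single, map_smul, Algebra.smul_mul_assoc]
      conv_lhs => rw [hn, pow_add, pow_mul, hpow, ← map_pow, ← mul_assoc,
        ← Algebra.commutes, ← Algebra.smul_def]
    have hC : ι' x * y' ^ n = nf ι' y' (Pi.single ⟨n % m, Nat.mod_lt n hm⟩ ((b : k) ^ (n / m) • x)) := by
      rw [nf_single, map_smul, Algebra.smul_mul_assoc]
      conv_lhs => rw [hn, pow_add, pow_mul, hpow', ← map_pow, ← mul_assoc,
        ← Algebra.commutes, ← Algebra.smul_def]
    rw [hA, hC]
    change nf ι' y' (e.symm (e _)) = _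
    rw [LinearEquiv.symm_apply_apply]
  have h1 : g 1 = 1 := by simpa using hg 1 0
  have hmul : ∀ u v, g (u * v) = g u * g v := by
    intro u v
    obtain ⟨p, rfl⟩ := hb.2 u
    obtain ⟨q, rfl⟩ := hb.2 v
    simp only [nf_apply, Finset.sum_mul, Finset.mul_sum, map_sum, monomial_mul hc, hg,
      monomial_mul hc']
  exact ⟨AlgHom.ofLinearMap g h1 hmul, fun x => by simpa using hg x 0, by simpa using hg 1 1⟩

/-- Two cyclic algebras with the same invariants are isomorphic. -/
theorem nonempty_algEquiv {b : kˣ} {A : Type w} [Ring A] [Algebra k A] {A' : Type w'} [Ring A'] [Algebra k A']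
    (hA : IsCyclicAlg k K σ b A) (hA' : IsCyclicAlg k K σ b A') : Nonempty (A ≃ₐ[k] A') := by
  obtain ⟨_, _⟩ := isCSA_of_isCyclicAlg hσ hA
  obtain ⟨_, _, hdim⟩ := finite_of_isCyclicAlg hA
  obtain ⟨_, _, hdim'⟩ := finite_of_isCyclicAlg hA'
  obtain ⟨ι, y, hpow, hc, -, hb, -⟩ := exists_data hσ hA
  obtain ⟨ι', y', hpow', hc', -, -, -⟩ := exists_data hσ hA'
  obtain ⟨f, -⟩ := exists_algHom hσ hpow hc hb ι' y' hpow' hc'
  have hinj : Function.Injective f := RingHom.injective f.toRingHom
  exact ⟨AlgEquiv.ofBijective f ⟨hinj, (LinearMap.injective_iff_surjective_of_finrank_eq_finrank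
    (f := f.toLinearMap) (hdim.trans hdim'.symm)).1 hinj⟩⟩

omit hσ [FiniteDimensional k K] [IsGalois k K] in
/-- Transport along an isomorphism. -/
theorem isCyclicAlg_of_algEquiv {b : kˣ} {A : Type w} [Ring A] [Algebra k A] {A' : Type w'} [Ring A']
    [Algebra k A'] (e : A ≃ₐ[k] A') (hA : IsCyclicAlg k K σ b A) : IsCyclicAlg k K σ b A' := by
  obtain ⟨ι, y, hpow, hc, hadj, hm, hdim⟩ := hA
  refine ⟨e.toAlgHom.comp ι, e y, by rw [← map_pow, hpow, AlgEquiv.commutes], fun x => ?_, ?_, hm,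
    by rw [← e.toLinearEquiv.finrank_eq, hdim]⟩
  · simp [← map_mul, hc x]
  · have h := congrArg (Subalgebra.map e.toAlgHom) hadj
    rw [AlgHom.map_adjoin, Algebra.map_top, (AlgHom.range_eq_top _).2 e.surjective] at h
    rw [← h, Set.image_union, Set.image_singleton, ← Set.range_comp]
    rfl

end Groth.Agent.Brauer25.Cyclic
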