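import Groth.Agent.Lib.Brauer25.CyclicModel
import Groth.Agent.Lib.Brauer25.Index
import Groth.Agent.Lib.CSAlg.Index

/-!
# Cyclic algebras in the Brauer group
-/

namespace Groth.Agent.Brauer25.Cyclic

open scoped TensorProduct
open CSAGal Module

universe u v w w' w''

set_option linter.style.haveILetI false

variable {k : Type u} [Field k] {K : Type v} [Field K] [Algebra k K] [FiniteDimensional k K] [IsGalois k K]
variable {σ : K ≃ₐ[k] K}

local notation "m" => finrank k K
local notation "τ" => (σ⁻¹ : K ≃ₐ[k] K)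

section split

/-- The basic pairing `K ⊗ K → K ^ m`. -/
noncomputable def pairing (σ : K ≃ₐ[k] K) : K ⊗[k] K →ₐ[k] (Fin (finrank k K) → K) :=
  Algebra.TensorProduct.lift (Pi.algHom k (fun _ : Fin (finrank k K) => K) fun _ => AlgHom.id k K)
    (Pi.algHom k (fun _ : Fin (finrank k K) => K)
      fun i => ((σ⁻¹ ^ (i : ℕ) : K ≃ₐ[k] K) : K →ₐ[k] K))
    (fun x z => Commute.all _ _)

omit [FiniteDimensional k K] [IsGalois k K] in
theorem pairing_tmul (x z : K) (j : Fin m) : pairing σ (x ⊗ₜ[k] z) j = x * (τ ^ (j : ℕ)) z := by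
  simp [pairing]

variable (hσ : ∀ g : K ≃ₐ[k] K, g ∈ Subgroup.zpowers σ)
include hσ

theorem pairing_bijective : Function.Bijective (pairing σ) := by
  have hsurj : Function.Surjective (pairing σ) := by
    intro f
    have hf : f ∈ Submodule.span K (Set.range fun (x : K) => fun i : Fin m => (τ ^ (i : ℕ)) x) := by
      rw [span_conj_eq_top hσ]; trivial
    induction hf using Submodule.span_induction with
    | mem f hf =>
      obtain ⟨x, rfl⟩ := hf
      exact ⟨1 ⊗ₜ x, funext fun j => by simp [pairing_tmul]⟩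
    | zero => exact ⟨0, map_zero _⟩
    | add a c _ _ ha hc =>
      obtain ⟨p, rfl⟩ := ha; obtain ⟨q, rfl⟩ := hc
      exact ⟨p + q, map_add _ _ _⟩
    | smul a c _ hc =>
      obtain ⟨p, rfl⟩ := hc
      refine ⟨(a ⊗ₜ 1) * p, funext fun j => ?_⟩
      simp [pairing_tmul]
  refine ⟨(LinearMap.injective_iff_surjective_of_finrank_eq_finrank
    (f := (pairing σ).toLinearMap) ?_).2 hsurj, hsurj⟩
  rw [Module.finrank_tensorProduct, Module.finrank_pi_fintype]
  simp

theorem pairing_shift (d : ℕ) (q : K ⊗[k] K) (j : Fin m) :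
    pairing σ (Algebra.TensorProduct.map (AlgHom.id k K) ((τ ^ d : K ≃ₐ[k] K) : K →ₐ[k] K) q) j
      = pairing σ q ⟨(j.val + d) % m, Nat.mod_lt _ Module.finrank_pos⟩ := by
  induction q using TensorProduct.induction_on with
  | zero => simp
  | tmul x z =>
    simp only [Algebra.TensorProduct.map_tmul, pairing_tmul, AlgHom.coe_id, id_eq, AlgEquiv.coe_algHom]
    rw [← AlgEquiv.mul_apply, ← pow_add]
    conv_lhs => rw [← Nat.mod_add_div (j.val + d) m, pow_add, pow_mul, inv_pow_finrank hσ, one_pow, mul_one]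
  | add p q hp hq => simp only [map_add, Pi.add_apply, hp, hq]

omit hσ [FiniteDimensional k K] [IsGalois k K] in
theorem pairing_diag (q : K ⊗[k] K) (j : Fin m) :
    pairing σ (Algebra.TensorProduct.map ((τ : K ≃ₐ[k] K) : K →ₐ[k] K) ((τ : K ≃ₐ[k] K) : K →ₐ[k] K) q) j
      = τ (pairing σ q j) := by
  induction q using TensorProduct.induction_on with
  | zero => simp
  | tmul x z =>
    simp only [Algebra.TensorProduct.map_tmul, pairing_tmul, AlgEquiv.coe_algHom, map_mul]
    rw [← AlgEquiv.mul_apply, ← AlgEquiv.mul_apply, ← pow_succ, ← pow_succ']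
  | add p q hp hq => simp only [map_add, Pi.add_apply, hp, hq]

/-- **Additivity**: `A_b ⊗ A_b' ≅ M_m(A_(b b'))`. -/
theorem tensor_algEquiv_matrix {b b' : kˣ} {A : Type w} [Ring A] [Algebra k A] {A' : Type w'} [Ring A']
    [Algebra k A'] {A'' : Type w''} [Ring A''] [Algebra k A'']
    (hA : IsCyclicAlg k K σ b A) (hA' : IsCyclicAlg k K σ b' A') (hA'' : IsCyclicAlg k K σ (b * b') A'') :
    Nonempty (A ⊗[k] A' ≃ₐ[k] Matrix (Fin m) (Fin m) A'') := by
  classical
  haveI : NeZero m := ⟨Module.finrank_pos.ne'⟩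
  obtain ⟨_, _⟩ := isCSA_of_isCyclicAlg hσ hA
  obtain ⟨_, _⟩ := isCSA_of_isCyclicAlg hσ hA'
  obtain ⟨_, _⟩ := isCSA_of_isCyclicAlg hσ hA''
  obtain ⟨_, _, hdim⟩ := finite_of_isCyclicAlg hA
  obtain ⟨_, _, hdim'⟩ := finite_of_isCyclicAlg hA'
  obtain ⟨_, _, hdim''⟩ := finite_of_isCyclicAlg hA''
  haveI : IsSimpleRing (A ⊗[k] A') := CSAlg.isSimpleRing_tensor' (k := k) A A'
  obtain ⟨ι, y, hpow, hc, -, -, -⟩ := exists_data hσ hA
  obtain ⟨ι', y', hpow', hc', hu', -, -⟩ := exists_data hσ hA'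
  obtain ⟨ι₂, y₂, hpow₂, hc₂, -, hb₂, hadj₂⟩ := exists_data hσ hA''
  let ψ : K ⊗[k] K →ₐ[k] A ⊗[k] A' := Algebra.TensorProduct.map ι ι'
  let ιC : K →ₐ[k] A ⊗[k] A' := Algebra.TensorProduct.includeLeft.comp ι
  let Y : A ⊗[k] A' := y ⊗ₜ y'
  let t : (A ⊗[k] A')ˣ := hu'.unit.map (Algebra.TensorProduct.includeRight : A' →ₐ[k] A ⊗[k] A').toRingHom.toMonoidHom
  have ht : (t : A ⊗[k] A') = 1 ⊗ₜ y' := rfl
  obtain ⟨f, hfι, hfy⟩ := exists_algHom (C := A ⊗[k] A') hσ hpow₂ hc₂ hb₂ ιC Y (by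
      simp only [Y, Algebra.TensorProduct.tmul_pow, hpow, hpow', Algebra.algebraMap_eq_smul_one,
        TensorProduct.smul_tmul_smul, Units.val_mul]
      rfl)
    (fun x => by simp [ιC, Y, hc x])
  -- commutation rules
  have htψ : ∀ (d : ℕ) (q : K ⊗[k] K), (t : A ⊗[k] A') ^ d * ψ q
      = ψ (Algebra.TensorProduct.map (AlgHom.id k K) ((τ ^ d : K ≃ₐ[k] K) : K →ₐ[k] K) q) * (t : A ⊗[k] A') ^ d := by
    intro d q
    induction q using TensorProduct.induction_on with
    | zero => simp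
    | tmul x z =>
      simp [ψ, ht, Algebra.TensorProduct.tmul_pow, ypow_mul_ι hc']
    | add p q hp hq => simp only [map_add, mul_add, add_mul, hp, hq]
  have hYψ : ∀ q : K ⊗[k] K, Y * ψ q
      = ψ (Algebra.TensorProduct.map ((τ : K ≃ₐ[k] K) : K →ₐ[k] K) ((τ : K ≃ₐ[k] K) : K →ₐ[k] K) q) * Y := by
    intro q
    induction q using TensorProduct.induction_on with
    | zero => simp
    | tmul x z => simp [ψ, Y, y_mul_ι hc, y_mul_ι hc']
    | add p q hp hq => simp only [map_add, mul_add, add_mul, hp, hq]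
  obtain ⟨q₀, hq₀⟩ := (pairing_bijective hσ).2 (Pi.single 0 1)
  have hq₀' : ∀ j : Fin m, pairing σ q₀ j = if j.val = 0 then 1 else 0 := by
    intro j
    rw [hq₀, Pi.single_apply]
    simp only [Fin.ext_iff, Fin.val_zero]
  set e := ψ q₀ with he
  have hee : e * e = e := by
    rw [he, ← map_mul]
    congr 1
    apply (pairing_bijective hσ).1
    funext j
    simp [hq₀']
  have horth : ∀ d, 0 < d → d < m → e * (t : A ⊗[k] A') ^ d * e = 0 := by
    intro d hd hdm
    rw [mul_assoc, he, htψ d q₀, ← mul_assoc, ← map_mul,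
      show q₀ * Algebra.TensorProduct.map (AlgHom.id k K) ((τ ^ d : K ≃ₐ[k] K) : K →ₐ[k] K) q₀ = 0 from ?_,
      map_zero, zero_mul]
    apply (pairing_bijective hσ).1
    funext j
    rw [map_mul, map_zero, Pi.mul_apply, Pi.zero_apply, pairing_shift hσ, hq₀', hq₀']
    by_cases hj : j.val = 0
    · simp only [hj, zero_add, Nat.mod_eq_of_lt hdm, hd.ne', if_false, mul_zero]
    · simp [hj]
  have hYe : Y * e = e * Y := by
    rw [he, hYψ]
    congr 2
    apply (pairing_bijective hσ).1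
    funext j
    rw [pairing_diag, hq₀', apply_ite τ, map_one, map_zero]
  have hιe : ∀ x, ιC x * e = e * ιC x := by
    intro x
    rw [show ιC x = ψ (x ⊗ₜ 1) by simp [ιC, ψ], he, ← map_mul, ← map_mul, mul_comm]
  have hιt : ∀ x, Commute (ιC x) (t : A ⊗[k] A') := by
    intro x
    simp [Commute, SemiconjBy, ιC, ht]
  have hYt : Commute Y (t : A ⊗[k] A') := by
    simp [Commute, SemiconjBy, Y, ht]
  -- matrix units
  let E : Fin m → Fin m → A ⊗[k] A' := fun i j =>
    (t : A ⊗[k] A') ^ (i : ℕ) * e * ((t⁻¹ : (A ⊗[k] A')ˣ) : A ⊗[k] A') ^ (j : ℕ)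
  have hmid : ∀ j l : Fin m, e * ((t⁻¹ : (A ⊗[k] A')ˣ) : A ⊗[k] A') ^ (j : ℕ) * (t : A ⊗[k] A') ^ (l : ℕ) * e
      = if j = l then e else 0 := by
    intro j l
    rw [← Units.val_pow_eq_pow_val, ← Units.val_pow_eq_pow_val, inv_pow, mul_assoc e, ← Units.val_mul]
    rcases lt_trichotomy j.val l.val with h | h | h
    · rw [show (t ^ (j : ℕ))⁻¹ * t ^ (l : ℕ) = t ^ ((l : ℕ) - j) by
        rw [inv_mul_eq_iff_eq_mul, ← pow_add, Nat.add_sub_cancel' h.le], Units.val_pow_eq_pow_val,
        horth _ (Nat.sub_pos_of_lt h) (by omega), if_neg (Fin.ne_of_val_ne h.ne)]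
    · rw [Fin.ext h, inv_mul_cancel, Units.val_one, mul_one, hee, if_pos rfl]
    · rw [if_neg (Fin.ne_of_val_ne h.ne')]
      set d := (j : ℕ) - l with hd
      rw [show (t ^ (j : ℕ))⁻¹ * t ^ (l : ℕ) = (t ^ d)⁻¹ by
        rw [eq_inv_iff_mul_eq_one, mul_assoc, ← pow_add, Nat.add_sub_cancel' h.le, inv_mul_cancel]]
      have h0 := horth d (Nat.sub_pos_of_lt h) (by omega)
      -- `e * t^{-d} * e = t^{-d} * (t^d e t^{-d}) * e`
      have h1 : ((t ^ d : (A ⊗[k] A')ˣ) : A ⊗[k] A') * (e * ((t ^ d)⁻¹ : (A ⊗[k] A')ˣ) * e) = 0 := by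
        rw [Units.val_pow_eq_pow_val, ← mul_assoc, ← mul_assoc, he, htψ d q₀, mul_assoc (ψ _),
          ← Units.val_pow_eq_pow_val, Units.mul_inv, mul_one, ← map_mul,
          show Algebra.TensorProduct.map (AlgHom.id k K) ((τ ^ d : K ≃ₐ[k] K) : K →ₐ[k] K) q₀ * q₀ = 0 from ?_,
          map_zero]
        apply (pairing_bijective hσ).1
        funext i
        rw [map_mul, map_zero, Pi.mul_apply, Pi.zero_apply, pairing_shift hσ, hq₀', hq₀']
        by_cases hi : i.val = 0
        · rw [if_neg, zero_mul]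
          change ¬ (i.val + d) % m = 0
          rw [hi, zero_add, Nat.mod_eq_of_lt (show d < m by omega)]
          omega
        · simp [hi]
      exact (Units.mul_right_eq_zero _).1 h1
  have hEE : ∀ i j l p, E i j * E l p = if j = l then E i p else 0 := by
    intro i j l p
    have := hmid j l
    simp only [E]
    calc _ = (t : A ⊗[k] A') ^ (i : ℕ) * (e * ((t⁻¹ : (A ⊗[k] A')ˣ) : A ⊗[k] A') ^ (j : ℕ)
          * (t : A ⊗[k] A') ^ (l : ℕ) * e) * ((t⁻¹ : (A ⊗[k] A')ˣ) : A ⊗[k] A') ^ (p : ℕ) := by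
            simp only [mul_assoc]
      _ = _ := by rw [this]; split <;> simp
  have hsum : ∑ i, E i i = 1 := by
    have h1 : ∀ i : Fin m, E i i
        = ψ (Algebra.TensorProduct.map (AlgHom.id k K) ((τ ^ (i : ℕ) : K ≃ₐ[k] K) : K →ₐ[k] K) q₀) := by
      intro i
      simp only [E]
      rw [he, htψ, mul_assoc, ← Units.val_pow_eq_pow_val, ← Units.val_pow_eq_pow_val, inv_pow t,
        Units.mul_inv, mul_one]
    rw [Finset.sum_congr rfl fun i _ => h1 i, ← map_sum, ← map_one ψ]
    congr 1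
    apply (pairing_bijective hσ).1
    funext j
    have hm : 0 < m := Module.finrank_pos
    rw [map_sum, map_one, Finset.sum_apply, Pi.one_apply,
      Finset.sum_eq_single (⟨(m - j.val) % m, Nat.mod_lt _ hm⟩ : Fin m)]
    · rw [pairing_shift hσ, hq₀', if_pos]
      simp only [Nat.add_mod_mod]
      rw [Nat.add_sub_cancel' j.2.le, Nat.mod_self]
    · intro i _ hi
      rw [pairing_shift hσ, hq₀', if_neg]
      intro h
      replace h : (j.val + i.val) % m = 0 := h
      apply hi
      apply Fin.ext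
      have hj := j.2
      have hi2 := i.2
      simp only
      rcases Nat.lt_or_ge (j.val + i.val) m with h' | h'
      · rw [Nat.mod_eq_of_lt h'] at h
        rw [show j.val = 0 by omega, Nat.sub_zero, Nat.mod_self]; omega
      · rw [Nat.mod_eq_sub_mod h', Nat.mod_eq_of_lt (by omega)] at h
        rw [Nat.mod_eq_of_lt (by omega)]; omega
    · intro h; exact absurd (Finset.mem_univ _) h
  have hcomm : ∀ (a : A'') (i j : Fin m), Commute (f a) (E i j) := by
    have hle : Algebra.adjoin k (Set.range ι₂ ∪ {y₂}) ≤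
        Subalgebra.comap f (Subalgebra.centralizer k {u | ∃ i j, u = E i j}) := by
      refine Algebra.adjoin_le ?_
      rintro a ha
      rw [SetLike.mem_coe, Subalgebra.mem_comap, Subalgebra.mem_centralizer_iff]
      rintro _ ⟨i, j, rfl⟩
      have key : ∀ c : A ⊗[k] A', Commute c (t : A ⊗[k] A') → Commute c e → Commute c (E i j) :=
        fun c h1 h2 => ((h1.pow_right _).mul_right h2).mul_right ((h1.units_inv_right).pow_right _)
      rcases ha with ⟨x, rfl⟩ | rfl
      · rw [hfι]; exact (key _ (hιt x) (hιe x)).eq.symm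
      · rw [hfy]; exact (key _ hYt hYe).eq.symm
    intro a i j
    have := hle (hadj₂ ▸ (Algebra.mem_top : a ∈ (⊤ : Subalgebra k A'')))
    rw [Subalgebra.mem_comap, Subalgebra.mem_centralizer_iff] at this
    exact (this _ ⟨i, j, rfl⟩).symm
  let g : Matrix (Fin m) (Fin m) A'' →ₗ[k] A ⊗[k] A' :=
    ∑ i, ∑ j, (LinearMap.mulRight k (E i j)).comp (f.toLinearMap.comp (Matrix.entryLinearMap k A'' i j))
  have hg : ∀ M, g M = ∑ i, ∑ j, f (M i j) * E i j := fun M => by simp [g, LinearMap.sum_apply]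
  have hg1 : g 1 = 1 := by
    rw [hg, ← hsum]
    refine Finset.sum_congr rfl fun i _ => ?_
    rw [Finset.sum_eq_single i]
    · simp
    · intro j _ hj; simp [Ne.symm hj]
    · intro h; exact absurd (Finset.mem_univ _) h
  have hgmul : ∀ M N, g (M * N) = g M * g N := by
    intro M N
    rw [hg (M * N), hg M, Finset.sum_mul]
    refine Finset.sum_congr rfl fun i _ => ?_
    rw [hg N]
    simp only [Matrix.mul_apply, map_sum, map_mul, Finset.sum_mul]
    simp only [Finset.mul_sum]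
    symm
    calc ∑ j, ∑ l, ∑ p, f (M i j) * E i j * (f (N l p) * E l p)
        = ∑ j, ∑ l, ∑ p, if j = l then f (M i j) * f (N j p) * E i p else 0 := by
          refine Finset.sum_congr rfl fun j _ => Finset.sum_congr rfl fun l _ =>
            Finset.sum_congr rfl fun p _ => ?_
          rw [mul_assoc, ← mul_assoc (E i j), ← (hcomm (N l p) i j).eq, mul_assoc (f (N l p)), hEE]
          split
          · next h => subst h; rw [← mul_assoc]
          · simp
      _ = ∑ j, ∑ p, f (M i j) * f (N j p) * E i p := by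
          refine Finset.sum_congr rfl fun j _ => ?_
          rw [Finset.sum_eq_single j]
          · simp
          · intro l _ hl; simp [Ne.symm hl]
          · intro h; exact absurd (Finset.mem_univ _) h
      _ = _ := Finset.sum_comm
  let G := AlgHom.ofLinearMap g hg1 hgmul
  have hinj : Function.Injective G := RingHom.injective G.toRingHom
  refine ⟨(AlgEquiv.ofBijective G ⟨hinj, (LinearMap.injective_iff_surjective_of_finrank_eq_finrank
    (f := G.toLinearMap) ?_).1 hinj⟩).symm⟩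
  rw [Module.finrank_matrix, Module.finrank_tensorProduct, hdim, hdim', hdim'']
  simp [sq]

/-- A cyclic algebra is split iff `b` is a norm. -/
theorem splits_iff_isNorm {b : kˣ} {A : Type w} [Ring A] [Algebra k A] (hA : IsCyclicAlg k K σ b A) :
    Curves.Splits k A k ↔ ∃ x : K, Algebra.norm k x = (b : k) := by
  obtain ⟨_, _⟩ := isCSA_of_isCyclicAlg hσ hA
  obtain ⟨_, _, hdim⟩ := finite_of_isCyclicAlg hA
  obtain ⟨ι, y, hpow, hc, hu, hb, -⟩ := exists_data hσ hA
  -- the trivial cyclic algebra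
  let T : K ≃ₐ[k] K := σ⁻¹
  let y₀ : Module.End k K := T.toLinearMap
  let ι₀ : K →ₐ[k] Module.End k K := Algebra.lmul k K
  have hc₀ : ∀ x : K, ι₀ x * y₀ = y₀ * ι₀ (σ x) := fun x => LinearMap.ext fun v => by
    simp [ι₀, y₀, T, AlgEquiv.aut_inv]
  have hpow_eq : ∀ (n : ℕ) (v : K), (y₀ ^ n) v = (τ ^ n) v := by
    intro n
    induction n with
    | zero => intro v; simp
    | succ n ih => intro v; rw [pow_succ, Module.End.mul_apply, ih, pow_succ, AlgEquiv.mul_apply]; rfl
  have hpow₀ : y₀ ^ m = algebraMap k (Module.End k K) ((1 : kˣ) : k) := LinearMap.ext fun v => by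
    rw [hpow_eq, inv_pow_finrank hσ]; simp
  have hu₀ : IsUnit y₀ := (isUnit_pow_iff Module.finrank_pos.ne').1 (hpow₀ ▸ (1 : kˣ).isUnit.map _)
  have hdim₀ : finrank k (Module.End k K) = m ^ 2 := by rw [Module.finrank_linearMap, sq]
  have hb₀ := nf_bijective hc₀ hσ hu₀ hdim₀
  have hsplit : ∀ (n : ℕ), n ≠ 0 → Nonempty (A ≃ₐ[k] Matrix (Fin n) (Fin n) k) → Curves.Splits k A k :=
    fun n hn ⟨e⟩ => ⟨n, hn, ⟨(Algebra.TensorProduct.lid k A).trans e⟩⟩
  constructor
  · rintro ⟨n, hn, ⟨e⟩⟩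
    let e₁ : A ≃ₐ[k] Matrix (Fin n) (Fin n) k := (Algebra.TensorProduct.lid k A).symm.trans e
    have hnm : n = m := by
      have h := e₁.toLinearEquiv.finrank_eq
      rw [hdim, Module.finrank_matrix] at h
      simp at h
      nlinarith [h]
    subst hnm
    let F : A ≃ₐ[k] Module.End k K := e₁.trans (algEquivMatrix (Module.finBasis k K)).symm
    haveI : IsSimpleRing (Module.End k K) := IsSimpleRing.of_ringEquiv F.toRingEquiv inferInstance
    haveI : Algebra.IsCentral k (Module.End k K) := CSAlg.isCentral_of_algEquiv F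
    obtain ⟨x, hx⟩ := CSAlg.skolem_noether (k := k) (F.toAlgHom.comp ι) ι₀
    let Y : Module.End k K := ((x⁻¹ : (Module.End k K)ˣ) : Module.End k K) * F y * (x : Module.End k K)
    have hY : ∀ a, ι₀ a * Y = Y * ι₀ (σ a) := by
      intro a
      have h2 : ∀ a, ι₀ a = ((x⁻¹ : (Module.End k K)ˣ) : Module.End k K) * F (ι a) * (x : Module.End k K) := by
        intro a
        rw [show F (ι a) = (F.toAlgHom.comp ι) a from rfl, hx]
        simp [mul_assoc]
      simp only [h2, Y, mul_assoc]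
      simp only [Units.mul_inv_cancel_left]
      rw [← mul_assoc (F (ι a)), ← map_mul, hc, map_mul, mul_assoc]
    have hYm : Y ^ m = algebraMap k (Module.End k K) (b : k) := by
      simp only [Y]
      rw [Units.conj_pow', ← map_pow, hpow, AlgEquiv.commutes, ← Algebra.commutes, mul_assoc,
        Units.inv_mul, mul_one]
    -- `Y = c · τ`
    let c : K := Y 1
    have hW : ∀ v, Y (σ v) = v * c := fun v => by
      have := LinearMap.congr_fun (hY v) 1
      simpa [ι₀, c] using this.symm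
    have hYc : Y = ι₀ c * y₀ := LinearMap.ext fun v => by
      have := hW (τ v)
      rw [AlgEquiv.aut_inv, AlgEquiv.apply_symm_apply] at this
      rw [this, mul_comm]
      simp [ι₀, y₀, T, AlgEquiv.aut_inv]
    rw [hYc, ι_mul_y_pow hc₀, hpow₀, Units.val_one, map_one, mul_one, ← Fin.prod_univ_eq_prod_range,
      ← norm_eq_prod hσ, AlgHom.commutes] at hYm
    exact ⟨c, (algebraMap k (Module.End k K)).injective hYm⟩
  · rintro ⟨x, hx⟩
    have hx0 : x ≠ 0 := fun h => b.ne_zero (by rw [← hx, h, Algebra.norm_zero])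
    let y₁ : A := ι x⁻¹ * y
    have hc₁ : ∀ a : K, ι a * y₁ = y₁ * ι (σ a) := fun a => by
      simp only [y₁]
      rw [← mul_assoc, ← map_mul, mul_comm, map_mul, mul_assoc, hc, mul_assoc]
    have hpow₁ : y₁ ^ m = algebraMap k A ((1 : kˣ) : k) := by
      rw [ι_mul_y_pow hc, hpow, ← Fin.prod_univ_eq_prod_range, ← norm_eq_prod hσ, AlgHom.commutes,
        ← map_mul, ← hx, ← map_mul, inv_mul_cancel₀ hx0, map_one, Units.val_one]
    have hu₁ : IsUnit y₁ := (isUnit_pow_iff Module.finrank_pos.ne').1 (hpow₁ ▸ (1 : kˣ).isUnit.map _)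
    have hb₁ := nf_bijective hc₁ hσ hu₁ hdim
    obtain ⟨f, -⟩ := exists_algHom hσ hpow₁ hc₁ hb₁ ι₀ y₀ hpow₀ hc₀
    haveI : Nontrivial (Module.End k K) := inferInstance
    have hinj : Function.Injective f := RingHom.injective f.toRingHom
    exact hsplit _ Module.finrank_pos.ne' ⟨(AlgEquiv.ofBijective f ⟨hinj,
      (LinearMap.injective_iff_surjective_of_finrank_eq_finrank (f := f.toLinearMap)
        (hdim.trans hdim₀.symm)).1 hinj⟩).trans (algEquivMatrix (Module.finBasis k K))⟩

end split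

variable (hσ : ∀ g : K ≃ₐ[k] K, g ∈ Subgroup.zpowers σ)
include hσ

/-- The Brauer class of the cyclic algebra of `b`. -/
theorem cls_tensor {b b' : kˣ} {A : Type w} [Ring A] [Algebra k A] [Algebra.IsCentral k A] [IsSimpleRing A]
    [FiniteDimensional k A] {A' : Type w'} [Ring A'] [Algebra k A'] [Algebra.IsCentral k A'] [IsSimpleRing A']
    [FiniteDimensional k A'] {A'' : Type w''} [Ring A''] [Algebra k A''] [Algebra.IsCentral k A'']
    [IsSimpleRing A''] [FiniteDimensional k A'']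
    (hA : IsCyclicAlg k K σ b A) (hA' : IsCyclicAlg k K σ b' A') (hA'' : IsCyclicAlg k K σ (b * b') A'') :
    cls (k := k) A * cls (k := k) A' = cls (k := k) A'' := by
  obtain ⟨e⟩ := tensor_algEquiv_matrix hσ hA hA' hA''
  rw [cls_mul]
  exact cls_of_matrix Module.finrank_pos.ne' e

/-- Powers of the class of a cyclic algebra. -/
theorem cls_pow_eq_one_iff {b : kˣ} {A : Type w} [Ring A] [Algebra k A] [Algebra.IsCentral k A]
    [IsSimpleRing A] [FiniteDimensional k A] (hA : IsCyclicAlg k K σ b A) (e : ℕ) :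
    cls (k := k) A ^ e = 1 ↔ ∃ x : K, Algebra.norm k x = (b : k) ^ e := by
  have hM : ∀ c : kˣ, IsCyclicAlg k K σ c (model σ c) := isCyclicAlg_model σ hσ
  haveI : ∀ c : kˣ, Algebra.IsCentral k (model σ c) := fun c => (isCSA_of_isCyclicAlg hσ (hM c)).1
  haveI : ∀ c : kˣ, IsSimpleRing (model σ c) := fun c => (isCSA_of_isCyclicAlg hσ (hM c)).2
  haveI : ∀ c : kˣ, FiniteDimensional k (model σ c) := fun c => (finite_of_isCyclicAlg (hM c)).2.1
  have hone : cls (k := k) (model σ (1 : kˣ)) = 1 :=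
    cls_eq_one_iff_splits.2 ((splits_iff_isNorm hσ (hM 1)).2 ⟨1, by simp⟩)
  have hpow : ∀ e : ℕ, cls (k := k) A ^ e = cls (k := k) (model σ (b ^ e)) := by
    intro e
    induction e with
    | zero => rw [pow_zero, pow_zero, hone]
    | succ e ih => rw [pow_succ, ih, pow_succ b e, cls_tensor hσ (hM (b ^ e)) hA (hM (b ^ e * b))]
  rw [hpow, cls_eq_one_iff_splits, splits_iff_isNorm hσ (hM (b ^ e)), Units.val_pow_eq_pow_val]

end Groth.Agent.Brauer25.Cyclic
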