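import Groth.Agent.Lib.Brauer25.Cyclic
import Mathlib.Data.Matrix.Basic

/-!
# The matrix model of a cyclic algebra
-/

namespace Groth.Agent.Brauer25.Cyclic

open CSAGal Module Matrix

universe u v w

set_option linter.style.haveILetI false

variable {k : Type u} [Field k] {K : Type v} [Field K] [Algebra k K] [FiniteDimensional k K] [IsGalois k K]

local notation "m" => finrank k K

/-- The companion matrix of `X ^ m - b`. -/
noncomputable def gamma (b : k) : Matrix (Fin (finrank k K)) (Fin (finrank k K)) K :=
  Matrix.of (fun i j : Fin m =>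
    if j.val + 1 = i.val then (1 : K) else if i.val = 0 ∧ j.val + 1 = m then algebraMap k K b else 0)

omit [IsGalois k K] in
theorem gamma_apply (b : k) (i j : Fin m) :
    gamma (K := K) b i j
      = if (j.val + 1) % m = i.val then algebraMap k K b ^ ((j.val + 1) / m) else 0 := by
  have hm : 0 < m := Module.finrank_pos
  have hj := j.2
  have hi := i.2
  rw [gamma, Matrix.of_apply]
  rcases Nat.lt_or_ge (j.val + 1) m with h | h
  · rw [Nat.mod_eq_of_lt h, Nat.div_eq_of_lt h, pow_zero]
    by_cases h1 : j.val + 1 = i.val
    · simp [h1]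
    · simp [h1, h.ne]
  · have he : j.val + 1 = m := by omega
    rw [he, Nat.mod_self, Nat.div_self hm, pow_one, if_neg (by omega : ¬ m = i.val)]
    by_cases h1 : i.val = 0
    · simp [h1]
    · simp [h1, Ne.symm h1]

omit [IsGalois k K] in
theorem gamma_pow_apply (b : k) (n : ℕ) (i j : Fin m) :
    (gamma (K := K) b ^ n) i j
      = if (j.val + n) % m = i.val then algebraMap k K b ^ ((j.val + n) / m) else 0 := by
  have hm : 0 < m := Module.finrank_pos
  induction n generalizing i j with
  | zero =>
    rw [pow_zero, Matrix.one_apply, add_zero, Nat.mod_eq_of_lt j.2, Nat.div_eq_of_lt j.2, pow_zero]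
    by_cases h : i = j
    · simp [h]
    · simp [h, Ne.symm (Fin.val_ne_of_ne h)]
  | succ n ih =>
    rw [pow_succ, Matrix.mul_apply,
      Finset.sum_eq_single (⟨(j.val + 1) % m, Nat.mod_lt _ hm⟩ : Fin m)]
    · rw [ih, gamma_apply, if_pos rfl]
      have e1 : j.val + (n + 1) = (j.val + 1) % m + n + m * ((j.val + 1) / m) := by
        have := Nat.mod_add_div (j.val + 1) m
        omega
      rw [e1, Nat.add_mul_mod_self_left, Nat.add_mul_div_left _ _ hm]
      simp only [ite_mul, zero_mul, ← pow_add]
    · intro l _ hl
      rw [gamma_apply, if_neg, mul_zero]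
      exact fun h => hl (Fin.ext h.symm)
    · intro h; exact absurd (Finset.mem_univ _) h

omit [IsGalois k K] in
theorem gamma_pow_finrank (b : k) :
    gamma (K := K) b ^ m = algebraMap k (Matrix (Fin m) (Fin m) K) b := by
  have hm : 0 < m := Module.finrank_pos
  ext i j
  rw [gamma_pow_apply, Nat.add_mod_right, Nat.mod_eq_of_lt j.2, Nat.add_div_right _ hm,
    Nat.div_eq_of_lt j.2, zero_add, pow_one, Matrix.algebraMap_matrix_apply]
  by_cases h : i = j
  · simp [h]
  · simp [h, Ne.symm (Fin.val_ne_of_ne h)]

variable (σ : K ≃ₐ[k] K)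

/-- The diagonal embedding of `K`. -/
noncomputable def diag : K →ₐ[k] Matrix (Fin (finrank k K)) (Fin (finrank k K)) K :=
  (Matrix.diagonalAlgHom k).comp
    (Pi.algHom k (fun _ : Fin m => K) fun i => ((σ ^ (i : ℕ) : K ≃ₐ[k] K) : K →ₐ[k] K))

omit [FiniteDimensional k K] [IsGalois k K] in
theorem diag_apply (x : K) (i j : Fin m) :
    diag σ x i j = if i = j then (σ ^ (i : ℕ)) x else 0 := by
  simp [diag, Matrix.diagonal_apply]

variable (hσ : ∀ g : K ≃ₐ[k] K, g ∈ Subgroup.zpowers σ)
include hσ

theorem diag_mul_gamma (b : k) (x : K) : diag σ x * gamma b = gamma b * diag σ (σ x) := by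
  have hm : 0 < m := Module.finrank_pos
  ext i j
  rw [Matrix.mul_apply, Matrix.mul_apply, Finset.sum_eq_single i, Finset.sum_eq_single j,
    diag_apply, diag_apply, if_pos rfl, if_pos rfl, gamma_apply]
  · split
    · rename_i h
      have : σ ^ ((j.val + 1) % m) = σ ^ (j.val + 1) := by
        conv_rhs => rw [← Nat.mod_add_div (j.val + 1) m, pow_add, pow_mul, gen_pow_finrank hσ,
          one_pow, mul_one]
      rw [← h, this, pow_succ, AlgEquiv.mul_apply, mul_comm]
    · simp
  · intro l _ hl; rw [diag_apply, if_neg hl, mul_zero]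
  · intro h; exact absurd (Finset.mem_univ _) h
  · intro l _ hl; rw [diag_apply, if_neg (Ne.symm hl), zero_mul]
  · intro h; exact absurd (Finset.mem_univ _) h

/-- The model: the subalgebra of `M_m(K)` generated by the diagonal and the companion matrix. -/
noncomputable def model (b : kˣ) : Subalgebra k (Matrix (Fin (finrank k K)) (Fin (finrank k K)) K) :=
  Algebra.adjoin k (Set.range (diag σ) ∪ {gamma (b : k)})

theorem isCyclicAlg_model (b : kˣ) : IsCyclicAlg k K σ b (model σ b) := by
  haveI : NeZero m := ⟨Module.finrank_pos.ne'⟩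
  exact isCyclicAlg_adjoin hσ b (gamma_pow_finrank _) (diag_mul_gamma σ hσ _)

omit hσ [IsGalois k K] in
/-- The twisted fixed matrices. -/
noncomputable def fixedMat (b : k) : Subalgebra k (Matrix (Fin (finrank k K)) (Fin (finrank k K)) K) where
  carrier := {M | gamma b * M.map (fun x => σ x) = M * gamma b}
  mul_mem' {M N} hM hN := by
    change gamma b * (M * N).map (fun x => σ x) = M * N * gamma b
    change gamma b * M.map (fun x => σ x) = M * gamma b at hM
    change gamma b * N.map (fun x => σ x) = N * gamma b at hN
    rw [show (M * N).map (fun x => σ x) = M.map (fun x => σ x) * N.map (fun x => σ x) from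
      Matrix.map_mul (f := (σ : K →+* K)), ← mul_assoc, hM, mul_assoc, hN, ← mul_assoc]
  one_mem' := by
    change gamma b * (1 : Matrix (Fin m) (Fin m) K).map (fun x => σ x) = 1 * gamma b
    rw [Matrix.map_one _ (map_zero σ) (map_one σ), mul_one, one_mul]
  add_mem' {M N} hM hN := by
    change gamma b * (M + N).map (fun x => σ x) = (M + N) * gamma b
    rw [Matrix.map_add _ (map_add σ), mul_add, add_mul]
    exact congrArg₂ (· + ·) hM hN
  zero_mem' := by
    change gamma b * (0 : Matrix (Fin m) (Fin m) K).map (fun x => σ x) = 0 * gamma b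
    rw [Matrix.map_zero _ (map_zero σ), mul_zero, zero_mul]
  algebraMap_mem' r := by
    change gamma b * (algebraMap k (Matrix (Fin m) (Fin m) K) r).map (fun x => σ x) = _ * gamma b
    rw [Matrix.algebraMap_eq_diagonal, Matrix.diagonal_map (map_zero σ),
      show (fun i => σ (algebraMap k (Fin m → K) r i)) = algebraMap k (Fin m → K) r from
        funext fun i => σ.commutes r, ← Matrix.algebraMap_eq_diagonal]
    exact (Algebra.commutes r _).symm

theorem model_eq_fixedMat (b : kˣ) : model σ b = fixedMat σ (b : k) := by
  have hm : 0 < m := Module.finrank_pos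
  have hle : model σ b ≤ fixedMat σ (b : k) := by
    refine Algebra.adjoin_le ?_
    rintro _ (⟨x, rfl⟩ | rfl)
    · change gamma (b : k) * (diag σ x).map (fun y => σ y) = diag σ x * gamma (b : k)
      rw [diag_mul_gamma σ hσ]
      congr 1
      ext i j
      rw [Matrix.map_apply, diag_apply, diag_apply, apply_ite σ, map_zero]
      congr 1
      rw [← AlgEquiv.mul_apply, ← pow_succ', pow_succ, AlgEquiv.mul_apply]
    · change gamma (b : k) * (gamma (b : k)).map (fun y => σ y) = gamma (b : k) * gamma (b : k)
      congr 1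
      ext i j
      rw [Matrix.map_apply, gamma_apply, apply_ite σ, map_pow, AlgEquiv.commutes, map_zero]
  refine Subalgebra.eq_of_le_of_finrank_le hle ?_
  obtain ⟨-, -, hdim⟩ := finite_of_isCyclicAlg (isCyclicAlg_model σ hσ b)
  rw [hdim]
  let c : fixedMat σ (b : k) →ₗ[k] (Fin m → K) :=
    { toFun := fun M i => M.1 i ⟨0, hm⟩
      map_add' := fun _ _ => rfl
      map_smul' := fun _ _ => rfl }
  have hinj : Function.Injective c := by
    refine (injective_iff_map_eq_zero _).2 fun M hM => Subtype.ext ?_
    have key : ∀ n (hn : n < m) (i : Fin m), M.1 i ⟨n, hn⟩ = 0 := by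
      intro n
      induction n with
      | zero => exact fun _ i => congrFun hM i
      | succ n ih =>
        intro hn i
        have h1 := congrFun (congrFun (show gamma (b : k) * M.1.map (fun y => σ y) = M.1 * gamma (b : k)
          from M.2) i) (⟨n, by omega⟩ : Fin m)
        erw [Matrix.mul_apply, Matrix.mul_apply] at h1
        rw [
          Finset.sum_eq_single (⟨n + 1, hn⟩ : Fin m)
            (f := fun l => M.1 i l * gamma (b : k) l (⟨n, by omega⟩ : Fin m))] at h1
        · rw [Finset.sum_eq_zero (fun l _ => by
            rw [Matrix.map_apply, ih (by omega) l, map_zero, mul_zero])] at h1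
          rw [gamma_apply, if_pos (Nat.mod_eq_of_lt hn), Nat.div_eq_of_lt hn, pow_zero, mul_one] at h1
          exact h1.symm
        · intro l _ hl
          rw [gamma_apply, if_neg, mul_zero]
          intro h
          rw [Nat.mod_eq_of_lt hn] at h
          exact hl (Fin.ext h.symm)
        · intro h; exact absurd (Finset.mem_univ _) h
    ext i j
    exact key j.1 j.2 i
  refine (LinearMap.finrank_le_finrank_of_injective hinj).trans ?_
  rw [Module.finrank_pi_fintype]
  simp [sq]

theorem isCyclicAlg_fixedMat (b : kˣ) : IsCyclicAlg k K σ b (fixedMat σ (b : k)) := by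
  rw [← model_eq_fixedMat σ hσ b]
  exact isCyclicAlg_model σ hσ b

end Groth.Agent.Brauer25.Cyclic
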