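import Groth.Agent.Lib.Brauer25.Basic
import Mathlib.FieldTheory.Galois.Basic
import Mathlib.LinearAlgebra.Matrix.Trace

/-!
Rationality of the reduced trace and the Goldman element of a central simple algebra.
-/

namespace Groth.Agent.Brauer25

open scoped TensorProduct

universe u v w

variable {k : Type u} [Field k] {A : Type v} [Ring A] [Algebra k A]
variable {E : Type w} [Field E] [Algebra k E]

/-- A splitting as an algebra map into matrices. -/
noncomputable def splitHom {d : ℕ} (f : E ⊗[k] A ≃ₐ[E] Matrix (Fin d) (Fin d) E) :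
    A →ₐ[k] Matrix (Fin d) (Fin d) E :=
  (f.toAlgHom.restrictScalars k).comp Algebra.TensorProduct.includeRight

theorem splitHom_apply {d : ℕ} (f : E ⊗[k] A ≃ₐ[E] Matrix (Fin d) (Fin d) E) (a : A) :
    splitHom f a = f ((1 : E) ⊗ₜ[k] a) := rfl

theorem span_range_splitHom {d : ℕ} (f : E ⊗[k] A ≃ₐ[E] Matrix (Fin d) (Fin d) E) :
    Submodule.span E (Set.range (splitHom f)) = ⊤ := by
  rw [eq_top_iff]
  intro M _
  obtain ⟨x, rfl⟩ := f.surjective M
  induction x using TensorProduct.induction_on with
  | zero => simp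
  | add x y hx hy => rw [map_add]; exact add_mem (hx trivial) (hy trivial)
  | tmul l a =>
    have e : f (l ⊗ₜ[k] a) = l • splitHom f a := by
      rw [splitHom_apply, ← map_smul, TensorProduct.smul_tmul', smul_eq_mul, mul_one]
    rw [e]
    exact Submodule.smul_mem _ _ (Submodule.subset_span ⟨a, rfl⟩)

variable [Algebra.IsCentral k A] [IsSimpleRing A] [FiniteDimensional k A]

/-- The trace in a Galois splitting is rational. -/
theorem exists_rational_trace [FiniteDimensional k E] [IsGalois k E] {d : ℕ}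
    (f : E ⊗[k] A ≃ₐ[E] Matrix (Fin d) (Fin d) E) :
    ∃ t : A →ₗ[k] k, ∀ a, algebraMap k E (t a) = (splitHom f a).trace := by
  have hmem : ∀ a, (splitHom f a).trace ∈ (⊥ : IntermediateField k E) := by
    intro a
    rw [IsGalois.mem_bot_iff_fixed]
    intro σ
    rcases Nat.eq_zero_or_pos d with rfl | hd
    · simp [Matrix.trace]
    haveI : NeZero d := ⟨hd.ne'⟩
    haveI : IsSimpleRing (E ⊗[k] A) := CSAlg.isSimpleRing_baseChange (k := k) E A
    let F : A →ₐ[k] Matrix (Fin d) (Fin d) E := ((σ : E →ₐ[k] E).mapMatrix).comp (splitHom f)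
    let f' : E ⊗[k] A →ₐ[E] Matrix (Fin d) (Fin d) E :=
      Algebra.TensorProduct.lift (Algebra.ofId E _) F fun x y => Algebra.commute_algebraMap_left x _
    haveI : Algebra.IsCentral E (Matrix (Fin d) (Fin d) E) := inferInstance
    obtain ⟨u, hu⟩ := CSAlg.skolem_noether (k := E) (f'.comp f.symm.toAlgHom)
      (AlgHom.id E (Matrix (Fin d) (Fin d) E))
    have h1 : f' ((1 : E) ⊗ₜ[k] a) = (u : Matrix (Fin d) (Fin d) E) * splitHom f a *
        ((u⁻¹ : (Matrix (Fin d) (Fin d) E)ˣ) : Matrix (Fin d) (Fin d) E) := by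
      have := hu (splitHom f a)
      simpa [splitHom_apply] using this
    have h2 : f' ((1 : E) ⊗ₜ[k] a) = (σ : E →ₐ[k] E).mapMatrix (splitHom f a) := by
      simp [f', F]
    have h3 := congrArg Matrix.trace h1
    rw [h2, Matrix.trace_units_conj] at h3
    simpa [Matrix.trace, map_sum] using h3
  let g : A →ₗ[k] E := (Matrix.traceLinearMap (Fin d) k E).comp (splitHom f).toLinearMap
  have hr : ∀ a, g a ∈ LinearMap.range (Algebra.linearMap k E) := fun a => by
    obtain ⟨c, hc⟩ := IntermediateField.mem_bot.mp (hmem a)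
    exact ⟨c, hc⟩
  refine ⟨(LinearEquiv.ofInjective (Algebra.linearMap k E) (algebraMap k E).injective).symm.toLinearMap.comp
    (g.codRestrict _ hr), fun a => ?_⟩
  exact congrArg Subtype.val ((LinearEquiv.ofInjective (Algebra.linearMap k E) (algebraMap k E).injective).apply_symm_apply
    ⟨g a, hr a⟩)

/-- `a ⊗ b ↦ F a * Y * F b`. -/
noncomputable def sandwich {d : ℕ} (F : A →ₐ[k] Matrix (Fin d) (Fin d) E) (Y : Matrix (Fin d) (Fin d) E) :
    A ⊗[k] A →ₗ[k] Matrix (Fin d) (Fin d) E :=
  TensorProduct.lift <| LinearMap.mk₂ k (fun a b => F a * Y * F b)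
    (fun a a' b => by simp [add_mul])
    (fun c a b => by simp [Matrix.smul_mul])
    (fun a b b' => by simp [mul_add])
    (fun c a b => by simp)

omit [Algebra.IsCentral k A] [IsSimpleRing A] [FiniteDimensional k A] in
@[simp] theorem sandwich_tmul {d : ℕ} (F : A →ₐ[k] Matrix (Fin d) (Fin d) E) (Y : Matrix (Fin d) (Fin d) E)
    (a b : A) : sandwich F Y (a ⊗ₜ[k] b) = F a * Y * F b := rfl

/-- The Goldman element: it becomes the swap in a splitting. -/
theorem exists_goldman [FiniteDimensional k E] [IsGalois k E] {d : ℕ}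
    (f : E ⊗[k] A ≃ₐ[E] Matrix (Fin d) (Fin d) E) :
    ∃ g : A ⊗[k] A, ∀ Y, sandwich (splitHom f) Y g = Y.trace • (1 : Matrix (Fin d) (Fin d) E) := by
  obtain ⟨t, ht⟩ := exists_rational_trace f
  haveI := CSAlg.isSimpleRing_tensor' (k := k) A Aᵐᵒᵖ
  have hbij : Function.Surjective (AlgHom.mulLeftRight k A) := by
    refine (LinearMap.injective_iff_surjective_of_finrank_eq_finrank
      (f := (AlgHom.mulLeftRight k A).toLinearMap) ?_).1 (RingHom.injective (AlgHom.mulLeftRight k A).toRingHom)
    show _ = Module.finrank k (A →ₗ[k] A)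
    rw [Module.finrank_tensorProduct, ← (MulOpposite.opLinearEquiv k : A ≃ₗ[k] Aᵐᵒᵖ).finrank_eq,
      Module.finrank_linearMap]
  obtain ⟨g', hg'⟩ := hbij ((LinearMap.toSpanSingleton k A 1).comp t)
  let φ : A ⊗[k] Aᵐᵒᵖ →ₗ[k] A ⊗[k] A :=
    TensorProduct.map LinearMap.id (MulOpposite.opLinearEquiv k).symm.toLinearMap
  refine ⟨φ g', fun Y => ?_⟩
  have h1 : ∀ (y : A) (z : A ⊗[k] Aᵐᵒᵖ), sandwich (splitHom f) (splitHom f y) (φ z) =
      splitHom f (AlgHom.mulLeftRight k A z y) := by
    intro y z
    induction z using TensorProduct.induction_on with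
    | zero => simp
    | add p q hp hq => simp only [map_add, LinearMap.add_apply, hp, hq]
    | tmul a b =>
      simp only [φ, TensorProduct.map_tmul, LinearMap.id_coe, id_eq, LinearEquiv.coe_coe,
        MulOpposite.coe_opLinearEquiv_symm, sandwich_tmul, AlgHom.mulLeftRight_apply, map_mul]
  have hY : Y ∈ Submodule.span E (Set.range (splitHom f)) := by rw [span_range_splitHom]; trivial
  induction hY using Submodule.span_induction with
  | mem Y hY =>
    obtain ⟨y, rfl⟩ := hY
    rw [h1, hg', LinearMap.comp_apply, LinearMap.toSpanSingleton_apply, map_smul, map_one, ← ht,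
      algebraMap_smul]
  | zero =>
    have : sandwich (splitHom f) 0 = 0 := TensorProduct.ext' fun a b => by simp
    simp [this]
  | add Y Y' _ _ hY hY' =>
    have : sandwich (splitHom f) (Y + Y') = sandwich (splitHom f) Y + sandwich (splitHom f) Y' :=
      TensorProduct.ext' fun a b => by simp [mul_add, add_mul]
    rw [this, LinearMap.add_apply, hY, hY', Matrix.trace_add, add_smul]
  | smul c Y _ hY =>
    have : sandwich (splitHom f) (c • Y) = c • sandwich (splitHom f) Y :=
      TensorProduct.ext' fun a b => by simp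
    rw [this, LinearMap.smul_apply, hY, Matrix.trace_smul, smul_eq_mul, mul_smul]

end Groth.Agent.Brauer25
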