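import Groth.Agent.Lib.Brauer25.PiTensor
import Mathlib.Algebra.BrauerGroup.Defs
import Mathlib.RingTheory.MatrixAlgebra

/-!
The Brauer group of a field, with classes of algebras in arbitrary universes.
-/

namespace Groth.Agent.Brauer25

open scoped TensorProduct

universe u v w z

variable (k : Type u) [Field k]

/-- The Brauer group in the universe of `k`. -/
def Br : Type (u + 1) := BrauerGroup.{u, u} k

variable {k}

theorem exists_model (A : Type v) [Ring A] [Algebra k A] [Algebra.IsCentral k A] [IsSimpleRing A]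
    [FiniteDimensional k A] : ∃ B : CSA.{u, u} k, Nonempty (A ≃ₐ[k] B) := by
  let e := AlgEquiv.ofInjective (Algebra.leftMulMatrix (Module.finBasis k A)) (Algebra.leftMulMatrix_injective _)
  haveI := CSAlg.isCentral_of_algEquiv e
  haveI : IsSimpleRing (Algebra.leftMulMatrix (Module.finBasis k A)).range :=
    IsSimpleRing.of_ringEquiv e.toRingEquiv inferInstance
  haveI : FiniteDimensional k (Algebra.leftMulMatrix (Module.finBasis k A)).range :=
    Module.Finite.equiv e.toLinearEquiv
  exact ⟨{ toAlgCat := AlgCat.of k (Algebra.leftMulMatrix (Module.finBasis k A)).range }, ⟨e⟩⟩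

/-- The class of an algebra. -/
noncomputable def cls (A : Type v) [Ring A] [Algebra k A] [Algebra.IsCentral k A] [IsSimpleRing A]
    [FiniteDimensional k A] : Br k :=
  Quotient.mk _ (exists_model (k := k) A).choose

variable {A : Type v} [Ring A] [Algebra k A] [Algebra.IsCentral k A] [IsSimpleRing A] [FiniteDimensional k A]
variable {B : Type w} [Ring B] [Algebra k B] [Algebra.IsCentral k B] [IsSimpleRing B] [FiniteDimensional k B]

theorem cls_eq_iff : cls A = cls (k := k) B ↔
    ∃ n m : ℕ, n ≠ 0 ∧ m ≠ 0 ∧ Nonempty (Matrix (Fin n) (Fin n) A ≃ₐ[k] Matrix (Fin m) (Fin m) B) := by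
  obtain ⟨a⟩ := (exists_model (k := k) A).choose_spec
  obtain ⟨b⟩ := (exists_model (k := k) B).choose_spec
  constructor
  · intro h
    obtain ⟨n, m, hn, hm, ⟨e⟩⟩ := Quotient.exact h
    exact ⟨n, m, hn, hm, ⟨(a.mapMatrix.trans e).trans b.symm.mapMatrix⟩⟩
  · rintro ⟨n, m, hn, hm, ⟨e⟩⟩
    exact Quotient.sound ⟨n, m, hn, hm, ⟨(a.symm.mapMatrix.trans e).trans b.mapMatrix⟩⟩

theorem cls_congr (e : A ≃ₐ[k] B) : cls A = cls (k := k) B :=
  cls_eq_iff.mpr ⟨1, 1, one_ne_zero, one_ne_zero, ⟨e.mapMatrix⟩⟩

theorem cls_of_matrix {n : ℕ} (hn : n ≠ 0) (e : A ≃ₐ[k] Matrix (Fin n) (Fin n) B) : cls A = cls (k := k) B :=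
  cls_eq_iff.mpr ⟨1, n, one_ne_zero, hn,
    ⟨(e.mapMatrix (m := Fin 1)).trans ((Matrix.compAlgEquiv (Fin 1) (Fin n) B k).trans
      (Matrix.reindexAlgEquiv k B (Equiv.uniqueProd (Fin n) (Fin 1))))⟩⟩

theorem exists_cls (x : Br k) : ∃ C : CSA.{u, u} k, cls (k := k) C = x := by
  induction x using Quotient.inductionOn with
  | _ C =>
    obtain ⟨e⟩ := (exists_model (k := k) C.carrier).choose_spec
    exact ⟨C, Quotient.sound ⟨1, 1, one_ne_zero, one_ne_zero, ⟨e.symm.mapMatrix⟩⟩⟩

omit [Algebra.IsCentral k A] [IsSimpleRing A] [FiniteDimensional k A]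
  [Algebra.IsCentral k B] [IsSimpleRing B] [FiniteDimensional k B] in
theorem matrix_tensor_matrix (n m : ℕ) :
    Nonempty (Matrix (Fin n) (Fin n) A ⊗[k] Matrix (Fin m) (Fin m) B ≃ₐ[k]
      Matrix (Fin (n * m)) (Fin (n * m)) (A ⊗[k] B)) :=
  ⟨(Matrix.kroneckerTMulAlgEquiv (Fin n) (Fin m) k k A B).trans (Matrix.reindexAlgEquiv k _ finProdFinEquiv)⟩

instance isSimple_tensor_csa : IsSimpleRing (A ⊗[k] B) := CSAlg.isSimpleRing_tensor' (k := k) A B

instance isCentral_tensor_csa : Algebra.IsCentral k (A ⊗[k] B) := CSAlg.isCentral_tensor A B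

theorem cls_tensor_congr {A' : Type z} [Ring A'] [Algebra k A'] [Algebra.IsCentral k A'] [IsSimpleRing A']
    [FiniteDimensional k A'] {B' : Type*} [Ring B'] [Algebra k B'] [Algebra.IsCentral k B'] [IsSimpleRing B']
    [FiniteDimensional k B'] (hA : cls A = cls (k := k) A') (hB : cls B = cls (k := k) B') :
    cls (k := k) (A ⊗[k] B) = cls (k := k) (A' ⊗[k] B') := by
  obtain ⟨n, n', hn, hn', ⟨e⟩⟩ := cls_eq_iff.mp hA
  obtain ⟨m, m', hm, hm', ⟨f⟩⟩ := cls_eq_iff.mp hB
  obtain ⟨g⟩ := matrix_tensor_matrix (k := k) (A := A) (B := B) n m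
  obtain ⟨g'⟩ := matrix_tensor_matrix (k := k) (A := A') (B := B') n' m'
  exact cls_eq_iff.mpr ⟨n * m, n' * m', Nat.mul_ne_zero hn hm, Nat.mul_ne_zero hn' hm',
    ⟨(g.symm.trans (Algebra.TensorProduct.congr e f)).trans g'⟩⟩

/-- The product of two classes. -/
noncomputable def brMul (x y : Br k) : Br k :=
  cls (k := k) ((exists_cls x).choose ⊗[k] (exists_cls y).choose)

noncomputable instance : Mul (Br k) := ⟨brMul⟩

theorem cls_mul : cls A * cls B = cls (k := k) (A ⊗[k] B) :=
  cls_tensor_congr (exists_cls (cls A)).choose_spec (exists_cls (cls B)).choose_spec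

noncomputable instance : One (Br k) := ⟨cls (k := k) k⟩

theorem cls_self : cls (k := k) k = 1 := rfl

theorem cls_eq_one_iff : cls A = (1 : Br k) ↔ ∃ n : ℕ, n ≠ 0 ∧ Nonempty (A ≃ₐ[k] Matrix (Fin n) (Fin n) k) := by
  constructor
  · intro h
    obtain ⟨n, m, hn, -, ⟨e⟩⟩ := cls_eq_iff.mp (h.trans cls_self.symm)
    obtain ⟨r, hr, D, _, _, _, _, ⟨g⟩⟩ := CSAlg.exists_algEquiv_matrix_central_divisionRing (k := k) A
    have e' : Matrix (Fin (n * r)) (Fin (n * r)) D ≃ₐ[k] Matrix (Fin m) (Fin m) k :=
      (((Matrix.reindexAlgEquiv k D finProdFinEquiv).symm.trans (Matrix.compAlgEquiv (Fin n) (Fin r) D k).symm).trans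
        g.symm.mapMatrix).trans e
    obtain ⟨d⟩ := CSAlg.nonempty_algEquiv_of_matrix (Nat.mul_ne_zero hn hr.out) e'
    exact ⟨r, hr.out, ⟨g.trans d.mapMatrix⟩⟩
  · rintro ⟨n, hn, ⟨e⟩⟩
    exact (cls_of_matrix hn e).trans cls_self

theorem cls_mul_op : cls A * cls (k := k) Aᵐᵒᵖ = (1 : Br k) := by
  rw [cls_mul, cls_eq_one_iff]
  haveI := CSAlg.isSimpleRing_tensor' (k := k) A Aᵐᵒᵖ
  have hinj : Function.Injective (AlgHom.mulLeftRight k A) :=
    RingHom.injective (AlgHom.mulLeftRight k A).toRingHom
  have hsurj := (LinearMap.injective_iff_surjective_of_finrank_eq_finrank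
      (f := (AlgHom.mulLeftRight k A).toLinearMap) (by
        show _ = Module.finrank k (A →ₗ[k] A)
        rw [Module.finrank_tensorProduct, ← (MulOpposite.opLinearEquiv k : A ≃ₗ[k] Aᵐᵒᵖ).finrank_eq,
          Module.finrank_linearMap])).1 hinj
  exact ⟨Module.finrank k A, Module.finrank_pos.ne',
    ⟨(AlgEquiv.ofBijective _ ⟨hinj, hsurj⟩).trans (algEquivMatrix (Module.finBasis k A))⟩⟩

noncomputable instance : Inv (Br k) := ⟨fun x => cls (k := k) ((exists_cls x).choose : Type u)ᵐᵒᵖ⟩

noncomputable instance : CommGroup (Br k) where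
  mul_assoc x y z := by
    obtain ⟨A, rfl⟩ := exists_cls x
    obtain ⟨B, rfl⟩ := exists_cls y
    obtain ⟨C, rfl⟩ := exists_cls z
    rw [cls_mul, cls_mul, cls_mul, cls_mul]
    exact cls_congr (Algebra.TensorProduct.assoc k k k A B C)
  one_mul x := by
    obtain ⟨A, rfl⟩ := exists_cls x
    rw [← cls_self, cls_mul]
    exact cls_congr (Algebra.TensorProduct.lid k A)
  mul_one x := by
    obtain ⟨A, rfl⟩ := exists_cls x
    rw [← cls_self, cls_mul]
    exact cls_congr (Algebra.TensorProduct.rid k k A)
  mul_comm x y := by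
    obtain ⟨A, rfl⟩ := exists_cls x
    obtain ⟨B, rfl⟩ := exists_cls y
    rw [cls_mul, cls_mul]
    exact cls_congr (Algebra.TensorProduct.comm k A B)
  inv_mul_cancel x := by
    have h := (exists_cls x).choose_spec
    show cls (k := k) ((exists_cls x).choose : Type u)ᵐᵒᵖ * x = 1
    conv_lhs => arg 2; rw [← h]
    rw [cls_mul]
    refine (cls_congr (Algebra.TensorProduct.comm k _ _)).trans ?_
    rw [← cls_mul]
    exact cls_mul_op

section Pi

variable {ι : Type*} [Fintype ι] [DecidableEq ι] {T : ι → Type z} [∀ i, Ring (T i)] [∀ i, Algebra k (T i)]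
  [∀ i, Algebra.IsCentral k (T i)] [∀ i, IsSimpleRing (T i)] [∀ i, FiniteDimensional k (T i)]

theorem isCSA_piTensor :
    Algebra.IsCentral k (⨂[k] i, T i) ∧ IsSimpleRing (⨂[k] i, T i) ∧ FiniteDimensional k (⨂[k] i, T i) := by
  have h : ∀ i, Curves.Splits k (T i) (SeparableClosure k) := fun i => CSAlg.splits_separableClosure (k := k) (T i)
  choose n hn hf using h
  exact CSAlg.isCSA_of_splits (splits_piTensor hn fun i => (hf i).some)

instance isCentral_piTensor : Algebra.IsCentral k (⨂[k] i, T i) := isCSA_piTensor.1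

instance isSimple_piTensor : IsSimpleRing (⨂[k] i, T i) := isCSA_piTensor.2.1

end Pi

section PiMul

/-- The class of a tensor product is the product of the classes. -/
theorem cls_piTensor : ∀ (N : ℕ) {ι : Type w} [Fintype ι] [DecidableEq ι] {T : ι → Type z}
    [∀ i, Ring (T i)] [∀ i, Algebra k (T i)] [∀ i, Algebra.IsCentral k (T i)] [∀ i, IsSimpleRing (T i)]
    [∀ i, FiniteDimensional k (T i)], Fintype.card ι = N →
      cls (k := k) (⨂[k] i, T i) = ∏ i, cls (k := k) (T i) := by
  intro N
  induction N with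
  | zero =>
    intro ι _ _ T _ _ _ _ _ hcard
    haveI : IsEmpty ι := Fintype.card_eq_zero_iff.mp hcard
    rw [Fintype.prod_empty, cls_eq_one_iff]
    refine ⟨1, one_ne_zero, ⟨(AlgEquiv.ofBijective (Algebra.ofId k (⨂[k] i, T i)) ?_).symm.trans
      (CSAlg.matrixOneEquiv k)⟩⟩
    have hinj : Function.Injective (Algebra.ofId k (⨂[k] i, T i)) := (algebraMap k _).injective
    refine ⟨hinj, (LinearMap.injective_iff_surjective_of_finrank_eq_finrank
      (f := (Algebra.ofId k (⨂[k] i, T i)).toLinearMap) ?_).1 hinj⟩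
    rw [Module.finrank_self, finrank_piTensor, Fintype.prod_empty]
  | succ N ih =>
    intro ι _ _ T _ _ _ _ _ hcard
    obtain ⟨p⟩ : Nonempty ι := Fintype.card_pos_iff.mp (by omega)
    let J := {i : ι // i ≠ p}
    have hJ : Fintype.card J = N := by
      rw [Fintype.card_subtype_compl, Fintype.card_subtype_eq, hcard, Nat.add_sub_cancel]
    let ext : (∀ j : J, T j.1) → ∀ i, T i := fun x i => if h : i = p then 1 else x ⟨i, h⟩
    have hext : ∀ (x : ∀ j : J, T j.1) (j : J) (t : T j.1),
        ext (Function.update x j t) = Function.update (ext x) j.1 t := fun x j t => by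
      funext i
      rcases eq_or_ne i j.1 with rfl | hij
      · simp only [ext, dif_neg j.2, Function.update_self]
        exact Function.update_self j t x
      · rw [Function.update_of_ne hij]
        by_cases h : i = p
        · simp [ext, h]
        · simp only [ext, dif_neg h]
          rw [Function.update_of_ne (fun h' => hij (congrArg Subtype.val h'))]
    let g : (⨂[k] j : J, T j.1) →ₐ[k] ⨂[k] i, T i :=
      PiTensorProduct.liftAlgHom
        (MultilinearMap.mk' (fun x => PiTensorProduct.tprod k (ext x))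
          (fun x j a b => by simp only [hext, MultilinearMap.map_update_add])
          (fun x j c a => by simp only [hext, MultilinearMap.map_update_smul]))
        (by
          show PiTensorProduct.tprod k (ext 1) = PiTensorProduct.tprod k 1
          congr 1
          funext i
          by_cases h : i = p <;> simp [ext, h])
        (fun x y => by
          show PiTensorProduct.tprod k (ext (x * y)) = PiTensorProduct.tprod k (ext x) * PiTensorProduct.tprod k (ext y)
          rw [PiTensorProduct.tprod_mul_tprod]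
          congr 1
          funext i
          by_cases h : i = p <;> simp [ext, h])
    let Φ : T p ⊗[k] (⨂[k] j : J, T j.1) →ₐ[k] ⨂[k] i, T i :=
      Algebra.TensorProduct.lift (PiTensorProduct.singleAlgHom (R := k) (A := T) p) g fun a y => by
        induction y using PiTensorProduct.induction_on with
        | smul_tprod c x =>
          rw [map_smul]
          refine Commute.smul_right ?_ c
          have : g (PiTensorProduct.tprod k x) = PiTensorProduct.tprod k (ext x) := by
            simp [g, PiTensorProduct.liftAlgHom]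
          rw [this, PiTensorProduct.singleAlgHom_apply]
          refine Commute.tprod ?_
          show _ * _ = _ * _
          funext i
          rcases eq_or_ne i p with rfl | h
          · simp [ext]
          · simp [ext, h, Pi.mulSingle_eq_of_ne h]
        | add x y hx hy => rw [map_add]; exact hx.add_right hy
    have hinj : Function.Injective Φ := RingHom.injective Φ.toRingHom
    have hbij : Function.Bijective Φ :=
      ⟨hinj, (LinearMap.injective_iff_surjective_of_finrank_eq_finrank (f := Φ.toLinearMap) (by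
        rw [Module.finrank_tensorProduct, finrank_piTensor, finrank_piTensor,
          Fintype.prod_eq_mul_prod_compl p]
        congr 1
        exact (Finset.prod_subtype _ (fun i => by simp) fun i => Module.finrank k (T i)).symm)).1 hinj⟩
    rw [← cls_congr (AlgEquiv.ofBijective Φ hbij), ← cls_mul, ih hJ, Fintype.prod_eq_mul_prod_compl p]
    congr 1
    exact (Finset.prod_subtype _ (fun i => by simp) fun i => cls (k := k) (T i)).symm

theorem cls_tensorPower (r : ℕ) :
    cls (k := k) (⨂[k] _i : Fin r, A) = cls A ^ r := by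
  rw [cls_piTensor r (Fintype.card_fin r), Finset.prod_const, Finset.card_univ, Fintype.card_fin]

end PiMul

end Groth.Agent.Brauer25
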