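import Groth.Prelude.Def_GSzCSA
import Groth.Agent.Lib.Brauer25.Index

/-!
# Period and index as invariants of the Brauer class
-/

namespace Groth.Agent.Brauer25

open scoped TensorProduct
open Module

universe u v w

set_option linter.style.haveILetI false

variable {k : Type u} [Field k] {A : Type v} [Ring A] [Algebra k A] [Algebra.IsCentral k A]
  [IsSimpleRing A] [FiniteDimensional k A]

theorem isIndex_iff {d : ℕ} : CSAGal.IsIndex k A d ↔ ind (cls (k := k) A) = d := by
  constructor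
  · rintro ⟨hd, m, D, _, _, hm, hdim, ⟨e⟩⟩
    haveI : FiniteDimensional k D := .of_finrank_pos (by rw [hdim]; positivity)
    haveI : NeZero m := ⟨hm.ne'⟩
    haveI : Algebra.IsCentral k (Matrix (Fin m) (Fin m) D) := Algebra.IsCentral.of_algEquiv k _ _ e
    haveI : Algebra.IsCentral k D := CSAlg.isCentral_of_matrix m
    exact ind_cls_of_matrix e hdim
  · rintro rfl
    obtain ⟨m, hm, D, _, _, _, _, ⟨e⟩⟩ := CSAlg.exists_algEquiv_matrix_central_divisionRing (k := k) A
    obtain ⟨d, hd, hdim⟩ := exists_finrank_sq (k := k) D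
    rw [ind_cls_of_matrix e hdim]
    exact ⟨Nat.pos_of_ne_zero hd, m, D, _, _, Nat.pos_of_ne_zero hm.out, hdim, ⟨e⟩⟩

theorem exists_isIndex : ∃ d, CSAGal.IsIndex k A d := ⟨_, isIndex_iff.2 rfl⟩

theorem splits_tpow_iff (r : ℕ) : Curves.Splits k (CSAGal.tpow k A r) k ↔ cls (k := k) A ^ r = 1 := by
  rw [← cls_eq_one_iff_splits, cls_tensorPower]

theorem orderOf_cls_pos : 0 < orderOf (cls (k := k) A) :=
  Nat.pos_of_ne_zero fun h => by
    have h2 := orderOf_dvd_of_pow_eq_one (pow_ind_eq_one (cls (k := k) A))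
    rw [h, zero_dvd_iff] at h2
    exact ind_ne_zero _ h2

theorem isPeriod_iff {e : ℕ} : CSAGal.IsPeriod k A e ↔ orderOf (cls (k := k) A) = e := by
  unfold CSAGal.IsPeriod
  simp only [splits_tpow_iff]
  rcases Nat.eq_zero_or_pos e with rfl | he
  · simpa using orderOf_cls_pos.ne'
  · rw [orderOf_eq_iff he]
    exact ⟨fun ⟨_, h1, h2⟩ => ⟨h1, fun m hm hm0 => h2 m hm0 hm⟩,
      fun ⟨h1, h2⟩ => ⟨he, h1, fun m hm0 hm => h2 m hm hm0⟩⟩

section baseChange

variable (L : Type u) [Field L] [Algebra k L]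

theorem ind_baseChange_dvd [Algebra.IsCentral L (L ⊗[k] A)] [IsSimpleRing (L ⊗[k] A)] :
    ind (cls (k := L) (L ⊗[k] A)) ∣ ind (cls (k := k) A) := by
  obtain ⟨m, hm, D, _, _, _, _, ⟨e⟩⟩ := CSAlg.exists_algEquiv_matrix_central_divisionRing (k := k) A
  obtain ⟨d, -, hdim⟩ := exists_finrank_sq (k := k) D
  haveI := CSAlg.isSimpleRing_baseChange (k := k) L D
  haveI := CSAlg.isCentral_baseChange (k := k) L D
  obtain ⟨r, hr, E, _, _, _, _, ⟨g⟩⟩ :=
    CSAlg.exists_algEquiv_matrix_central_divisionRing (k := L) (L ⊗[k] D)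
  obtain ⟨d', -, hdim'⟩ := exists_finrank_sq (k := L) E
  have h1 : cls (k := L) (L ⊗[k] A) = cls (k := L) (L ⊗[k] D) :=
    cls_of_matrix hm.out ((Algebra.TensorProduct.congr AlgEquiv.refl e).trans (CSAlg.baseChangeMatrix L D m))
  rw [h1, ind_cls_of_matrix g hdim', ind_cls_of_matrix e hdim]
  refine ⟨r, Nat.pow_left_injective two_ne_zero ?_⟩
  have h2 := g.toLinearEquiv.finrank_eq
  rw [Module.finrank_baseChange, hdim, Module.finrank_matrix, hdim', Fintype.card_fin] at h2
  show d ^ 2 = (d' * r) ^ 2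
  rw [h2]; ring

theorem ind_dvd_ind_baseChange_mul [FiniteDimensional k L] [Algebra.IsCentral L (L ⊗[k] A)]
    [IsSimpleRing (L ⊗[k] A)] :
    ind (cls (k := k) A) ∣ ind (cls (k := L) (L ⊗[k] A)) * finrank k L := by
  obtain ⟨D, _, _, _, _, hx, hdim⟩ := indIs_ind (cls (k := L) (L ⊗[k] A))
  obtain ⟨E, hcomm, -, hcent⟩ := CSAlg.exists_separable_centralizer_eq (k := L) (D := D)
  letI : CommRing E := { E.toRing with mul_comm := fun x y => Subtype.ext (hcomm x x.2 y y.2) }
  letI : Field E := fieldOfFiniteDimensional L E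
  have hE := CSAlg.finrank_eq_sq_of_centralizer_eq E hcent
  have hdeg : finrank L E = ind (cls (k := L) (L ⊗[k] A)) :=
    Nat.pow_left_injective two_ne_zero (hE.symm.trans hdim)
  obtain ⟨N, hN, ⟨f⟩⟩ := splits_iff_of_cls_eq E hx (CSAlg.splits_of_finrank_eq_sq E.val hE)
  letI : Algebra k E := Algebra.compHom E (algebraMap k L)
  haveI : IsScalarTower k L E := IsScalarTower.of_algebraMap_eq fun _ => rfl
  haveI : FiniteDimensional k E := Module.Finite.trans L E
  have hs : Curves.Splits k A E :=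
    ⟨N, hN, ⟨(CSAlg.cancelBaseChangeEquiv (k := k) L E A).symm.trans f⟩⟩
  have := ind_dvd_of_splits E hs
  rwa [← Module.finrank_mul_finrank k L E, hdeg, mul_comm] at this

end baseChange

/-- Index reduction for extensions of degree prime to `n`. -/
theorem ind_dvd_of_coprime [Algebra.IsCentral k A] {L : Type u} [Field L] [Algebra k L] [FiniteDimensional k L]
    [Algebra.IsCentral L (L ⊗[k] A)] [IsSimpleRing (L ⊗[k] A)] {n : ℕ}
    (hcop : Nat.Coprime n (finrank k L)) (hn : cls (k := k) A ^ n = 1)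
    (h : ind (cls (k := L) (L ⊗[k] A)) ∣ n) : ind (cls (k := k) A) ∣ n := by
  refine dvd_trans (Nat.Coprime.dvd_of_dvd_mul_right ?_ (ind_dvd_ind_baseChange_mul (k := k) (A := A) L)) h
  refine Nat.coprime_of_dvd fun p hp h1 h2 => ?_
  exact Nat.not_coprime_of_dvd_of_dvd hp.one_lt (prime_dvd_of_dvd_ind hn hp h1) h2 hcop

end Groth.Agent.Brauer25
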