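import Groth.Agent.Lib.Brauer25.Goldman
import Mathlib.RingTheory.PiTensorProduct
import Mathlib.LinearAlgebra.PiTensorProduct.Basis

/-!
A finite tensor product of split algebras is split.
-/

namespace Groth.Agent.Brauer25

open scoped TensorProduct

universe u v w z

variable {k : Type u} [Field k] {E : Type w} [Field E] [Algebra k E]
variable {ι : Type z} [Fintype ι] [DecidableEq ι] {n : ι → ℕ}

/-- `(Y_i) ↦ ((I, J) ↦ ∏ i, Y_i (I i) (J i))`. -/
noncomputable def kron (Y : ∀ i, Matrix (Fin (n i)) (Fin (n i)) E) :
    Matrix (∀ i, Fin (n i)) (∀ i, Fin (n i)) E :=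
  Matrix.of fun I J => ∏ i, Y i (I i) (J i)

theorem kron_apply (Y : ∀ i, Matrix (Fin (n i)) (Fin (n i)) E) (I J : ∀ i, Fin (n i)) :
    kron Y I J = ∏ i, Y i (I i) (J i) := rfl

theorem kron_one : kron (fun i => (1 : Matrix (Fin (n i)) (Fin (n i)) E)) = 1 := by
  ext I J
  rw [kron_apply]
  rcases eq_or_ne I J with rfl | h
  · simp
  · obtain ⟨i, hi⟩ := Function.ne_iff.mp h
    rw [Matrix.one_apply_ne h]
    exact Finset.prod_eq_zero (Finset.mem_univ i) (Matrix.one_apply_ne hi)

theorem kron_mul (Y Z : ∀ i, Matrix (Fin (n i)) (Fin (n i)) E) : kron (Y * Z) = kron Y * kron Z := by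
  ext I J
  simp only [kron_apply, Pi.mul_apply, Matrix.mul_apply, Fintype.prod_sum, Finset.prod_mul_distrib]

theorem kron_update_add (Y : ∀ i, Matrix (Fin (n i)) (Fin (n i)) E) (i : ι)
    (P Q : Matrix (Fin (n i)) (Fin (n i)) E) :
    kron (Function.update Y i (P + Q)) = kron (Function.update Y i P) + kron (Function.update Y i Q) := by
  ext I J
  simp only [kron_apply, Matrix.add_apply]
  rw [Finset.prod_eq_mul_prod_sdiff_singleton_of_mem (Finset.mem_univ i),
    Finset.prod_eq_mul_prod_sdiff_singleton_of_mem (Finset.mem_univ i),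
    Finset.prod_eq_mul_prod_sdiff_singleton_of_mem (Finset.mem_univ i)]
  simp only [Function.update_self, Matrix.add_apply, add_mul]
  congr 1 <;> congr 1 <;> refine Finset.prod_congr rfl fun j hj => ?_ <;>
    rw [Function.update_of_ne (by simpa using hj), Function.update_of_ne (by simpa using hj)]

theorem kron_update_smul (Y : ∀ i, Matrix (Fin (n i)) (Fin (n i)) E) (i : ι) (c : E)
    (P : Matrix (Fin (n i)) (Fin (n i)) E) :
    kron (Function.update Y i (c • P)) = c • kron (Function.update Y i P) := by
  ext I J
  simp only [kron_apply, Matrix.smul_apply, smul_eq_mul]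
  rw [Finset.prod_eq_mul_prod_sdiff_singleton_of_mem (Finset.mem_univ i),
    Finset.prod_eq_mul_prod_sdiff_singleton_of_mem (Finset.mem_univ i)]
  simp only [Function.update_self, Matrix.smul_apply, smul_eq_mul, mul_assoc]
  congr 2
  refine Finset.prod_congr rfl fun j hj => ?_
  rw [Function.update_of_ne (by simpa using hj), Function.update_of_ne (by simpa using hj)]

theorem kron_single (I J : ∀ i, Fin (n i)) :
    kron (fun i => Matrix.single (I i) (J i) (1 : E)) = Matrix.single I J 1 := by
  ext P Q
  rw [kron_apply]
  by_cases h : I = P ∧ J = Q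
  · obtain ⟨rfl, rfl⟩ := h
    simp
  · rw [Matrix.single_apply, if_neg h]
    have : ∃ i, ¬ (I i = P i ∧ J i = Q i) := by
      by_contra hne
      push Not at hne
      exact h ⟨funext fun i => (hne i).1, funext fun i => (hne i).2⟩
    obtain ⟨i, hi⟩ := this
    exact Finset.prod_eq_zero (Finset.mem_univ i) (by rw [Matrix.single_apply, if_neg hi])

variable {A : ι → Type v} [∀ i, Ring (A i)] [∀ i, Algebra k (A i)]
  (F : ∀ i, A i →ₐ[k] Matrix (Fin (n i)) (Fin (n i)) E)

/-- The tensor product of the maps `F i`. -/
noncomputable def theta : (⨂[k] i, A i) →ₐ[k] Matrix (∀ i, Fin (n i)) (∀ i, Fin (n i)) E :=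
  PiTensorProduct.liftAlgHom
    (MultilinearMap.mk' (fun a => kron fun i => F i (a i))
      (fun a i x y => by
        simp only [Function.apply_update (fun j => F j), map_add, kron_update_add])
      (fun a i c x => by
        simp only [Function.apply_update (fun j => F j), map_smul]
        rw [← algebraMap_smul E c (F i x), kron_update_smul, algebraMap_smul]))
    (by simpa using kron_one)
    (fun a b => by
      show kron _ = kron _ * kron _
      rw [← kron_mul]
      congr 1
      funext i
      simp)

theorem theta_tprod (a : ∀ i, A i) : theta F (PiTensorProduct.tprod k a) = kron fun i => F i (a i) := by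
  simp [theta, PiTensorProduct.liftAlgHom]

theorem theta_single (i : ι) (a : A i) (I J : ∀ i, Fin (n i)) :
    theta F (PiTensorProduct.singleAlgHom (R := k) i a) I J =
      F i a (I i) (J i) * ∏ l ∈ Finset.univ \ {i}, if I l = J l then 1 else 0 := by
  rw [PiTensorProduct.singleAlgHom_apply, theta_tprod, kron_apply,
    Finset.prod_eq_mul_prod_sdiff_singleton_of_mem (Finset.mem_univ i)]
  congr 1
  · simp
  · refine Finset.prod_congr rfl fun l hl => ?_
    have hne : l ≠ i := by simpa using hl
    simp [Pi.mulSingle_eq_of_ne hne, Matrix.one_apply]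

/-- `E ⊗ ⨂ A i → matrices`. -/
noncomputable def thetaE : E ⊗[k] (⨂[k] i, A i) →ₐ[E] Matrix (∀ i, Fin (n i)) (∀ i, Fin (n i)) E :=
  Algebra.TensorProduct.lift (Algebra.ofId E _) (theta F) fun x _ => Algebra.commute_algebraMap_left x _

theorem thetaE_tmul (l : E) (x : ⨂[k] i, A i) : thetaE F (l ⊗ₜ[k] x) = l • theta F x := by
  simp [thetaE, Algebra.algebraMap_eq_smul_one]

theorem thetaE_surjective (hF : ∀ i, Submodule.span E (Set.range (F i)) = ⊤) :
    Function.Surjective (thetaE F) := by
  have hk : ∀ (s : Finset ι) (Y : ∀ i, Matrix (Fin (n i)) (Fin (n i)) E),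
      (∀ i ∉ s, Y i ∈ Set.range (F i)) → kron Y ∈ (thetaE F).range := by
    intro s
    induction s using Finset.induction_on with
    | empty =>
      intro Y hY
      choose a ha using fun i => hY i (Finset.notMem_empty i)
      refine ⟨(1 : E) ⊗ₜ[k] PiTensorProduct.tprod k a, ?_⟩
      show thetaE F _ = _
      rw [thetaE_tmul, one_smul, theta_tprod, funext ha]
    | insert i s his ih =>
      intro Y hY
      have h : Y i ∈ Submodule.span E (Set.range (F i)) := by rw [hF i]; trivial
      rw [← Function.update_eq_self i Y]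
      generalize Y i = P at h
      induction h using Submodule.span_induction with
      | mem P hP =>
        refine ih _ fun j hj => ?_
        rcases eq_or_ne j i with rfl | hne
        · rwa [Function.update_self]
        · rw [Function.update_of_ne hne]
          exact hY j (by simp [hne, hj])
      | zero =>
        have : kron (Function.update Y i 0) = 0 := by
          have := kron_update_smul Y i 0 0
          simpa using this
        rw [this]; exact zero_mem _
      | add P Q _ _ hP hQ => rw [kron_update_add]; exact add_mem hP hQ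
      | smul c P _ hP => rw [kron_update_smul]; exact (thetaE F).range.smul_mem hP c
  intro M
  show M ∈ (thetaE F).range
  rw [Matrix.matrix_eq_sum_single M]
  refine sum_mem fun I _ => sum_mem fun J _ => ?_
  have : Matrix.single I J (M I J) = M I J • Matrix.single I J (1 : E) := by
    rw [Matrix.smul_single, smul_eq_mul, mul_one]
  rw [this, ← kron_single]
  exact (thetaE F).range.smul_mem (hk Finset.univ _ fun i hi => absurd (Finset.mem_univ i) hi) _

variable [∀ i, FiniteDimensional k (A i)]

omit [Algebra k E] in
theorem finrank_piTensor :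
    Module.finrank k (⨂[k] i, A i) = ∏ i, Module.finrank k (A i) := by
  rw [Module.finrank_eq_card_basis (Basis.piTensorProduct fun i => Module.finBasis k (A i)), Fintype.card_pi]
  simp

instance finite_piTensor : FiniteDimensional k (⨂[k] i, A i) :=
  Module.Finite.of_basis (Basis.piTensorProduct fun i => Module.finBasis k (A i))

theorem thetaE_bijective (hF : ∀ i, Submodule.span E (Set.range (F i)) = ⊤)
    (hd : ∀ i, Module.finrank k (A i) = n i ^ 2) : Function.Bijective (thetaE F) := by
  refine ⟨?_, thetaE_surjective F hF⟩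
  refine (LinearMap.injective_iff_surjective_of_finrank_eq_finrank (f := (thetaE F).toLinearMap) ?_).2
    (thetaE_surjective F hF)
  rw [Module.finrank_baseChange, finrank_piTensor, Module.finrank_matrix, Module.finrank_self, mul_one,
    Fintype.card_pi, ← Finset.prod_mul_distrib]
  simp [hd, sq]

omit [∀ i, FiniteDimensional k (A i)] in
theorem finrank_of_split {d : ℕ} {B : Type*} [Ring B] [Algebra k B] [FiniteDimensional k B]
    (f : E ⊗[k] B ≃ₐ[E] Matrix (Fin d) (Fin d) E) : Module.finrank k B = d ^ 2 := by
  have := f.toLinearEquiv.finrank_eq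
  rw [Module.finrank_baseChange, Module.finrank_matrix] at this
  simpa [sq] using this

/-- Tensor products of algebras split by `E` are split by `E`. -/
theorem splits_piTensor (hn : ∀ i, n i ≠ 0) (f : ∀ i, E ⊗[k] A i ≃ₐ[E] Matrix (Fin (n i)) (Fin (n i)) E) :
    Curves.Splits k (⨂[k] i, A i) E := by
  haveI : ∀ i, NeZero (n i) := fun i => ⟨hn i⟩
  refine ⟨Fintype.card (∀ i, Fin (n i)), Fintype.card_ne_zero, ⟨?_⟩⟩
  exact (AlgEquiv.ofBijective (thetaE fun i => splitHom (f i))
    (thetaE_bijective _ (fun i => span_range_splitHom (f i)) fun i => finrank_of_split (f i))).trans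
    (Matrix.reindexAlgEquiv E E (Fintype.equivFin _))

end Groth.Agent.Brauer25
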