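import Groth.Agent.Lib.Brauer25.PeriodIndex
import Mathlib.Algebra.QuaternionBasis

/-!
# Four dimensional division algebras are quaternion algebras
-/

namespace Groth.Agent.Brauer25

open Module
open scoped Quaternion

universe u v

variable {k : Type u} [Field k]

section div

variable {a b : k} (hdiv : ∀ x : ℍ[k,a,0,b], x ≠ 0 → IsUnit x)
include hdiv

theorem fst_ne_zero : a ≠ 0 := by
  rintro rfl
  have hne : (⟨0, 1, 0, 0⟩ : ℍ[k,(0:k),0,b]) ≠ 0 := fun h => by simpa using congrArg QuaternionAlgebra.imI h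
  obtain ⟨u, hu⟩ := hdiv _ hne
  have h0 : (⟨0, 1, 0, 0⟩ : ℍ[k,(0:k),0,b]) * ⟨0, 1, 0, 0⟩ = 0 := by ext <;> simp
  rw [← hu] at h0 hne
  exact hne (by simpa using congrArg (fun z => (↑u⁻¹ : ℍ[k,(0:k),0,b]) * z) h0)

theorem snd_ne_zero : b ≠ 0 := by
  rintro rfl
  have hne : (⟨0, 0, 1, 0⟩ : ℍ[k,a,0,(0:k)]) ≠ 0 := fun h => by simpa using congrArg QuaternionAlgebra.imJ h
  obtain ⟨u, hu⟩ := hdiv _ hne
  have h0 : (⟨0, 0, 1, 0⟩ : ℍ[k,a,0,(0:k)]) * ⟨0, 0, 1, 0⟩ = 0 := by ext <;> simp
  rw [← hu] at h0 hne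
  exact hne (by simpa using congrArg (fun z => (↑u⁻¹ : ℍ[k,a,0,(0:k)]) * z) h0)

/-- The division ring structure of a quaternion algebra in which all non-zero elements are units. -/
@[reducible] noncomputable def quatDivisionRing : DivisionRing ℍ[k,a,0,b] :=
  DivisionRing.ofIsUnitOrEqZero fun x => (em (x = 0)).symm.imp_left (hdiv x)

theorem quat_isCentral (h2 : (2 : k) ≠ 0) : Algebra.IsCentral k ℍ[k,a,0,b] where
  out z hz := by
    rw [Subalgebra.mem_center_iff] at hz
    have ha := fst_ne_zero hdiv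
    have hb := snd_ne_zero hdiv
    have hi := hz ⟨0, 1, 0, 0⟩
    have hj := hz ⟨0, 0, 1, 0⟩
    rw [QuaternionAlgebra.ext_iff] at hi hj
    simp at hi hj
    obtain ⟨hi1, hi2⟩ := hi
    obtain ⟨hj1, hj2⟩ := hj
    have e1 : z.imI = 0 := by
      rcases mul_eq_zero.mp (show (2 : k) * z.imI = 0 by grind) with h | h
      · exact absurd h h2
      · exact h
    have e2 : z.imJ = 0 := by
      rcases mul_eq_zero.mp (show (2 : k) * z.imJ = 0 by grind) with h | h
      · exact absurd h h2
      · exact h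
    have e3 : z.imK = 0 := by
      rcases mul_eq_zero.mp (show ((2 : k) * a) * z.imK = 0 by grind) with h | h
      · exact absurd h (mul_ne_zero h2 ha)
      · exact h
    exact Algebra.mem_bot.2 ⟨z.re, by ext <;> simp [QuaternionAlgebra.algebraMap_eq, e1, e2, e3]⟩

end div

theorem quat_isSimple {a b : k} (hdiv : ∀ x : ℍ[k,a,0,b], x ≠ 0 → IsUnit x) :
    IsSimpleRing ℍ[k,a,0,b] :=
  @DivisionRing.isSimpleRing _ (quatDivisionRing hdiv)

/-- A four dimensional central division algebra is a quaternion algebra. -/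
theorem exists_quat_equiv (h2 : (2 : k) ≠ 0) (D : Type v) [DivisionRing D] [Algebra k D]
    [Algebra.IsCentral k D] [FiniteDimensional k D] (hD : finrank k D = 4) :
    ∃ a b : k, Nonempty (ℍ[k,a,0,b] ≃ₐ[k] D) := by
  obtain ⟨E, hcomm, -, hcent⟩ := CSAlg.exists_separable_centralizer_eq (k := k) (D := D)
  have hE : finrank k E = 2 := Nat.pow_left_injective two_ne_zero
    (show finrank k E ^ 2 = 2 ^ 2 by rw [← CSAlg.finrank_eq_sq_of_centralizer_eq E hcent, hD])
  obtain ⟨x, hxE, hx⟩ : ∃ x ∈ E, x ∉ (⊥ : Subalgebra k D) := by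
    by_contra h
    push Not at h
    have : E = ⊥ := eq_bot_iff.2 h
    rw [this, Subalgebra.finrank_bot] at hE
    omega
  have hspan : ∀ y ∈ E, ∃ p q : k, y = p • 1 + q • x := by
    intro y hy
    have hli : LinearIndependent k ![(1 : E), ⟨x, hxE⟩] := by
      refine LinearIndependent.pair_iff.2 fun s t hst => ?_
      have h1 : s • (1 : D) + t • x = 0 := congrArg Subtype.val hst
      by_cases ht : t = 0
      · subst ht
        simp at h1
        exact ⟨h1, rfl⟩
      · refine absurd (Algebra.mem_bot.2 ⟨-s / t, ?_⟩) hx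
        rw [Algebra.algebraMap_eq_smul_one, neg_div, neg_smul, ← eq_comm, eq_neg_iff_add_eq_zero]
        have h3 := congrArg (fun z => t⁻¹ • z) h1
        simp only [smul_add, smul_smul, smul_zero, inv_mul_cancel₀ ht, one_smul] at h3
        rw [div_eq_mul_inv, mul_comm, add_comm]
        exact h3
    have htop := hli.span_eq_top_of_card_eq_finrank (by rw [hE]; simp)
    have hy' : (⟨y, hy⟩ : E) ∈ Submodule.span k (Set.range ![(1 : E), ⟨x, hxE⟩]) := htop ▸ trivial
    rw [Matrix.range_cons_cons_empty, Submodule.mem_span_pair] at hy'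
    obtain ⟨p, q, hpq⟩ := hy'
    exact ⟨p, q, (congrArg Subtype.val hpq).symm⟩
  obtain ⟨r, p, hrp⟩ := hspan (x * x) (E.mul_mem hxE hxE)
  -- complete the square
  let i : D := x - (p / 2) • 1
  have hiE : i ∈ E := sub_mem hxE (E.smul_mem (one_mem E) _)
  have hibot : i ∉ (⊥ : Subalgebra k D) := fun h => hx (by
    have := add_mem h ((⊥ : Subalgebra k D).smul_mem (one_mem _) (p / 2))
    simpa [i] using this)
  let a : k := r + p / 2 * (p / 2)
  have hii : i * i = a • (1 : D) := by
    have hp : p = p / 2 + p / 2 := by field_simp; ring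
    simp only [i, a, sub_mul, mul_sub, smul_mul_assoc, mul_smul_comm, one_mul, mul_one, hrp,
      smul_smul, add_smul, smul_sub, smul_add]
    nth_rewrite 1 [hp]
    rw [add_smul]
    abel
  have hspan_i : ∀ y ∈ E, ∃ s t : k, y = s • 1 + t • i := by
    intro y hy
    obtain ⟨s, t, rfl⟩ := hspan y hy
    exact ⟨s + t * (p / 2), t, by simp only [i, smul_sub, smul_smul, add_smul]; abel⟩
  -- an element anticommuting with `i`
  obtain ⟨z, hz⟩ : ∃ z, i * z ≠ z * i := by
    by_contra h
    push Not at h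
    exact hibot (Algebra.IsCentral.out (Subalgebra.mem_center_iff.2 fun y => (h y).symm))
  let j : D := i * z - z * i
  have hj : j ≠ 0 := sub_ne_zero.2 hz
  have hji : j * i = -(i * j) := by
    simp only [j, sub_mul, mul_sub, mul_assoc]
    rw [← mul_assoc i i z, hii, smul_mul_assoc, one_mul, mul_smul_comm, mul_one]
    abel
  have hjjE : j * j ∈ E := by
    rw [← hcent]
    intro y hy
    obtain ⟨s, t, rfl⟩ := hspan_i y hy
    have h1 : i * (j * j) = j * j * i := by
      rw [mul_assoc j j i, hji, mul_neg, ← mul_assoc j i j, hji, neg_mul, neg_neg, mul_assoc]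
    simp only [add_mul, mul_add, smul_mul_assoc, mul_smul_comm, one_mul, mul_one, h1]
  obtain ⟨b, t, hbt⟩ := hspan_i _ hjjE
  have hi0 : i ≠ 0 := fun h => hibot (h ▸ zero_mem _)
  have ht : t = 0 := by
    have h1 : j * (j * j) = j * j * j := (mul_assoc j j j).symm
    rw [hbt] at h1
    simp only [add_mul, mul_add, smul_mul_assoc, mul_smul_comm, one_mul, mul_one, hji, smul_neg,
      add_right_inj, neg_eq_iff_add_eq_zero, ← two_smul k (t • (i * j)), smul_smul] at h1
    rcases smul_eq_zero.1 h1 with h | h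
    · exact (mul_eq_zero.1 h).resolve_left h2
    · exact absurd h (mul_ne_zero hi0 hj)
  subst ht
  rw [zero_smul, add_zero] at hbt
  let B : QuaternionAlgebra.Basis D a (0 : k) b :=
    { i := i, j := j, k := i * j, i_mul_i := by rw [hii, zero_smul, add_zero], j_mul_j := hbt,
      i_mul_j := rfl, j_mul_i := by rw [hji, zero_smul, zero_sub] }
  refine ⟨a, b, ⟨AlgEquiv.ofBijective B.liftHom ?_⟩⟩
  have hsimple : ∀ w : ℍ[k,a,0,b], B.liftHom w = 0 → w = 0 := by
    intro w hw
    change B.lift w = 0 at hw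
    simp only [QuaternionAlgebra.Basis.lift, Algebra.algebraMap_eq_smul_one] at hw
    have hw' : (w.re • (1 : D) + w.imI • i) + (w.imJ • (1 : D) + w.imK • i) * j = 0 := by
      rw [add_mul, smul_mul_assoc, smul_mul_assoc, one_mul, ← add_assoc]
      exact hw
    have hzero : ∀ s t : k, s • (1 : D) + t • i = 0 → s = 0 ∧ t = 0 := by
      intro s t h
      by_cases ht : t = 0
      · subst ht
        simp at h
        exact ⟨h, rfl⟩
      · refine absurd (Algebra.mem_bot.2 ⟨-(s * t⁻¹), ?_⟩) hibot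
        have h3 := congrArg (fun z => t⁻¹ • z) h
        simp only [smul_add, smul_smul, smul_zero, inv_mul_cancel₀ ht, one_smul] at h3
        rw [Algebra.algebraMap_eq_smul_one, neg_smul, ← eq_comm, eq_neg_iff_add_eq_zero, mul_comm,
          add_comm]
        exact h3
    by_cases hq : w.imJ • (1 : D) + w.imK • i = 0
    · obtain ⟨e2, e3⟩ := hzero _ _ hq
      rw [hq, zero_mul, add_zero] at hw'
      obtain ⟨e0, e1⟩ := hzero _ _ hw'
      ext <;> simp [e0, e1, e2, e3]
    · exfalso
      have hqE : w.imJ • (1 : D) + w.imK • i ∈ E :=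
        add_mem (E.smul_mem (one_mem E) _) (E.smul_mem hiE _)
      have hinv : (w.imJ • (1 : D) + w.imK • i)⁻¹ ∈ E := by
        rw [← hcent]
        exact fun y hy => (Commute.inv_right₀ (hcomm y hy _ hqE))
      have hjE : j ∈ E := by
        have h4 : j = (w.imJ • (1 : D) + w.imK • i)⁻¹ * (-(w.re • (1 : D) + w.imI • i)) := by
          rw [← eq_neg_of_add_eq_zero_right hw', ← mul_assoc, inv_mul_cancel₀ hq, one_mul]
        rw [h4]
        exact E.mul_mem hinv (neg_mem (add_mem (E.smul_mem (one_mem E) _) (E.smul_mem hiE _)))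
      have h5 := hcomm j hjE i hiE
      rw [hji, neg_eq_iff_add_eq_zero, ← two_smul k (i * j)] at h5
      exact (smul_ne_zero h2 (mul_ne_zero hi0 hj)) h5
  have hinj : Function.Injective B.liftHom := (injective_iff_map_eq_zero B.liftHom).2 hsimple
  exact ⟨hinj, (LinearMap.injective_iff_surjective_of_finrank_eq_finrank
    (f := B.liftHom.toLinearMap) (by rw [QuaternionAlgebra.finrank_eq_four, hD])).1 hinj⟩

end Groth.Agent.Brauer25
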