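import Groth.Agent.Lib.Brauer25.Semisimple
import Mathlib.RingTheory.Artinian.Ring
import Mathlib.RingTheory.Unramified.Pi

/-!
Involutions of the second kind.
-/

namespace Groth.Agent.Brauer25

open scoped TensorProduct
open Module (finrank)

universe u v w

variable {k : Type u} [Field k] {A : Type v} [Ring A] [Algebra k A]

theorem antihom_mem_center {s : A →ₗ[k] A} (hsmul : ∀ x y : A, s (x * y) = s y * s x)
    (hss : ∀ x : A, s (s x) = x) {c : A} (hc : c ∈ Subalgebra.center k A) :
    s c ∈ Subalgebra.center k A :=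
  Subalgebra.mem_center_iff.mpr fun x => by
    have := congrArg s (Subalgebra.mem_center_iff.mp hc (s x))
    rw [hsmul, hsmul, hss] at this
    exact this.symm

/-- The centre of a semisimple ring is reduced. -/
theorem eq_zero_of_mem_center_of_mul_self [IsSemisimpleRing A] {z : A} (hz : z ∈ Subalgebra.center k A)
    (h : z * z = 0) : z = 0 := by
  obtain ⟨e, he, hI⟩ := IsSemisimpleRing.ideal_eq_span_idempotent (Ideal.span ({z} : Set A))
  have hmem : z ∈ Ideal.span ({e} : Set A) := hI ▸ Ideal.mem_span_singleton_self z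
  have hmem' : e ∈ Ideal.span ({z} : Set A) := hI.symm ▸ Ideal.mem_span_singleton_self e
  rw [Ideal.mem_span_singleton'] at hmem hmem'
  obtain ⟨a, ha⟩ := hmem
  obtain ⟨b, hb⟩ := hmem'
  have he0 : e = 0 := by
    rw [← he, ← hb, mul_assoc, ← mul_assoc z, ← Subalgebra.mem_center_iff.mp hz b, mul_assoc b z z, h,
      mul_zero, mul_zero]
  rw [← ha, he0, mul_zero]

theorem finrank_center_eq_two [FiniteDimensional k A] [IsSemisimpleRing A] {s : A →ₗ[k] A}
    (hs1 : s 1 = 1) (hsmul : ∀ x y : A, s (x * y) = s y * s x) (hss : ∀ x : A, s (s x) = x)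
    (hsc : ∃ c ∈ Subalgebra.center k A, s c ≠ c)
    (hfix : ∀ c ∈ Subalgebra.center k A, s c = c → c ∈ Set.range (algebraMap k A)) :
    finrank k (Subalgebra.center k A) = 2 := by
  obtain ⟨c, hc, hne⟩ := hsc
  set u := c - s c with hu
  have hucen : u ∈ Subalgebra.center k A := sub_mem hc (antihom_mem_center hsmul hss hc)
  have hu0 : u ≠ 0 := sub_ne_zero.mpr (Ne.symm hne)
  have hsu : s u = -u := by rw [hu, map_sub, hss, neg_sub]
  have hsalg : ∀ a : k, s (algebraMap k A a) = algebraMap k A a := fun a => by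
    rw [Algebra.algebraMap_eq_smul_one, map_smul, hs1]
  have : Nontrivial A := nontrivial_of_ne u 0 hu0
  -- every `z` is `a + b c`
  have key : ∀ z ∈ Subalgebra.center k A, ∃ a b : k, z = algebraMap k A a + b • c := by
    intro z hz
    set d := z - s z with hd
    have hdcen : d ∈ Subalgebra.center k A := sub_mem hz (antihom_mem_center hsmul hss hz)
    have hsd : s d = -d := by rw [hd, map_sub, hss, neg_sub]
    obtain ⟨q, hq⟩ := hfix _ (mul_mem hdcen hucen) (by
      rw [hsmul, hsd, hsu, neg_mul_neg, Subalgebra.mem_center_iff.mp hdcen u])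
    obtain ⟨r, hr⟩ := hfix _ (mul_mem hucen hucen) (by rw [hsmul, hsu, neg_mul_neg])
    have hr0 : r ≠ 0 := fun h => hu0 (eq_zero_of_mem_center_of_mul_self hucen (by rw [← hr, h, map_zero]))
    have hdu : d = (q / r) • u := by
      have h1 : algebraMap k A r * d = algebraMap k A q * u := by
        rw [hr, hq, mul_assoc, Subalgebra.mem_center_iff.mp hdcen u, ← mul_assoc,
          Subalgebra.mem_center_iff.mp hdcen u]
      rw [← Algebra.smul_def, ← Algebra.smul_def] at h1
      rw [div_eq_inv_mul, ← smul_smul, ← h1, smul_smul, inv_mul_cancel₀ hr0, one_smul]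
    obtain ⟨a, ha⟩ := hfix (z - (q / r) • c) (sub_mem hz ((Subalgebra.center k A).smul_mem hc _)) (by
      rw [map_sub, map_smul]
      rw [hd, hu, smul_sub] at hdu
      rw [sub_eq_sub_iff_sub_eq_sub] at hdu
      exact hdu.symm)
    exact ⟨a, q / r, by rw [ha, sub_add_cancel]⟩
  let v : Fin 2 → Subalgebra.center k A := ![1, ⟨c, hc⟩]
  have hli : LinearIndependent k v := by
    rw [LinearIndependent.pair_iff]
    intro a b hab
    have h : algebraMap k A a + b • c = 0 := by
      simpa [Algebra.algebraMap_eq_smul_one] using congrArg Subtype.val hab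
    have hb : b = 0 := by
      by_contra hb
      have h2 := congrArg s h
      rw [map_add, map_smul, hsalg, map_zero, ← h, add_right_inj] at h2
      exact hne (smul_right_injective A hb h2)
    subst hb
    rw [zero_smul, add_zero, ← map_zero (algebraMap k A)] at h
    exact ⟨(algebraMap k A).injective h, rfl⟩
  have hspan : ⊤ ≤ Submodule.span k (Set.range v) := by
    rintro ⟨z, hz⟩ -
    obtain ⟨a, b, h⟩ := key z hz
    have e : (⟨z, hz⟩ : Subalgebra.center k A) = a • v 0 + b • v 1 :=
      Subtype.ext (by simp [v, h, Algebra.algebraMap_eq_smul_one])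
    rw [e]
    exact add_mem (Submodule.smul_mem _ _ (Submodule.subset_span ⟨0, rfl⟩))
      (Submodule.smul_mem _ _ (Submodule.subset_span ⟨1, rfl⟩))
  rw [Module.finrank_eq_card_basis (Module.Basis.mk hli hspan), Fintype.card_fin]

/-- A semisimple algebra whose centre consists of scalars is simple. -/
theorem isSimpleRing_of_isSemisimpleRing_of_center {L : Type w} [Field L] {B : Type v} [Ring B] [Algebra L B]
    [Nontrivial B] [IsSemisimpleRing B]
    (hB : ∀ z ∈ Subalgebra.center L B, ∃ l : L, algebraMap L B l = z) : IsSimpleRing B := by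
  refine .of_eq_bot_or_eq_top fun I => ?_
  obtain ⟨f, hf, hI⟩ := IsSemisimpleRing.ideal_eq_span_idempotent (TwoSidedIdeal.asIdeal I)
  have hfI : f ∈ I := by
    rw [← TwoSidedIdeal.mem_asIdeal, hI]; exact Ideal.mem_span_singleton_self f
  have hright : ∀ x ∈ I, x * f = x := fun x hx => by
    rw [← TwoSidedIdeal.mem_asIdeal, hI, Ideal.mem_span_singleton'] at hx
    obtain ⟨a, rfl⟩ := hx
    rw [mul_assoc, hf.eq]
  have hleft : ∀ r : B, f * r * f = f * r := fun r => hright _ (I.mul_mem_right _ _ hfI)
  have hcomm : ∀ r : B, r * f = f * r := fun r => by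
    set g := r * f - f * r * f with hg
    have hgI : g ∈ I := sub_mem (I.mul_mem_left _ _ hfI) (I.mul_mem_left _ _ hfI)
    have hfg : f * g = 0 := by
      rw [hg, mul_sub, ← mul_assoc, ← mul_assoc, ← mul_assoc, hf.eq, sub_self]
    have hgxg : ∀ x : B, g * x * g = 0 := fun x => by
      rw [← hright g hgI, mul_assoc g f x, ← hleft x]
      simp only [mul_assoc]
      rw [← mul_assoc f g f, hfg, zero_mul, mul_zero, mul_zero, mul_zero]
    obtain ⟨h, hh, hJ⟩ := IsSemisimpleRing.ideal_eq_span_idempotent (Ideal.span ({g} : Set B))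
    have hmem : g ∈ Ideal.span ({h} : Set B) := hJ ▸ Ideal.mem_span_singleton_self g
    have hmem' : h ∈ Ideal.span ({g} : Set B) := hJ.symm ▸ Ideal.mem_span_singleton_self h
    rw [Ideal.mem_span_singleton'] at hmem hmem'
    obtain ⟨a, ha⟩ := hmem
    obtain ⟨b, hb⟩ := hmem'
    have h0 : h = 0 := by
      rw [← hh, ← hb, mul_assoc, ← mul_assoc g, hgxg, mul_zero]
    have hg0 : g = 0 := by rw [← ha, h0, mul_zero]
    rw [hg, sub_eq_zero, hleft] at hg0
    exact hg0
  obtain ⟨l, hl⟩ := hB f (Subalgebra.mem_center_iff.mpr hcomm)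
  have hll : l * l = l := (algebraMap L B).injective (by rw [map_mul, hl, hf.eq])
  rcases eq_or_ne l 0 with h | h
  · left
    rw [eq_bot_iff]
    intro x hx
    rw [TwoSidedIdeal.mem_bot, ← hright x hx, ← hl, h, map_zero, mul_zero]
  · right
    rw [eq_top_iff]
    intro x _
    have h1 : (1 : B) ∈ I := by
      rw [← map_one (algebraMap L B), ← mul_right_cancel₀ h (hll.trans (one_mul l).symm), hl]
      exact hfI
    simpa using I.mul_mem_left x 1 h1

variable {L : Type w} [Field L] [Algebra k L] {s : A →ₗ[k] A}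

theorem baseChange_mul (hsmul : ∀ x y : A, s (x * y) = s y * s x) (x y : L ⊗[k] A) :
    LinearMap.baseChange L s (x * y) = LinearMap.baseChange L s y * LinearMap.baseChange L s x := by
  induction x using TensorProduct.induction_on with
  | zero => simp
  | add p q hp hq => rw [add_mul, map_add, map_add, mul_add, hp, hq]
  | tmul l a =>
    induction y using TensorProduct.induction_on with
    | zero => simp
    | add p q hp hq => rw [mul_add, map_add, map_add, add_mul, hp, hq]
    | tmul l' b => simp [hsmul, mul_comm l l']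

theorem baseChange_baseChange (hss : ∀ x : A, s (s x) = x) (x : L ⊗[k] A) :
    LinearMap.baseChange L s (LinearMap.baseChange L s x) = x := by
  induction x using TensorProduct.induction_on with
  | zero => simp
  | add p q hp hq => rw [map_add, map_add, hp, hq]
  | tmul l a => simp [hss]

theorem finrank_center_baseChange [FiniteDimensional k A] :
    finrank L (Subalgebra.center L (L ⊗[k] A)) = finrank k (Subalgebra.center k A) := by
  set φ := Algebra.TensorProduct.map (AlgHom.id L L) (Subalgebra.center k A).val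
  have hinj : Function.Injective φ :=
    Module.Flat.lTensor_preserves_injective_linearMap (M := L) (Subalgebra.center k A).val.toLinearMap
      Subtype.val_injective
  rw [show Subalgebra.center L (L ⊗[k] A) = φ.range from SetLike.ext fun x => mem_center_baseChange_iff x,
    ← (AlgEquiv.ofInjective φ hinj).toLinearEquiv.finrank_eq, Module.finrank_baseChange]

theorem exists_algEquiv_prod_op [FiniteDimensional k A] [IsSemisimpleRing A]
    (hsep : ∀ c : A, c ∈ Subalgebra.center k A → IsSeparable k c)
    (hs1 : s 1 = 1) (hsmul : ∀ x y : A, s (x * y) = s y * s x) (hss : ∀ x : A, s (s x) = x)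
    (hsc : ∃ c ∈ Subalgebra.center k A, s c ≠ c)
    (hfix : ∀ c ∈ Subalgebra.center k A, s c = c → c ∈ Set.range (algebraMap k A))
    (e : L ⊗[k] A) (hecen : e ∈ Subalgebra.center L (L ⊗[k] A)) (he : IsIdempotentElem e)
    (he0 : e ≠ 0) (he1 : e ≠ 1) :
    ∃ (B : Type (max w v)) (_ : Ring B) (_ : Algebra L B), Algebra.IsCentral L B ∧ IsSimpleRing B ∧
      FiniteDimensional L B ∧
      ∃ E : (L ⊗[k] A) ≃ₐ[L] (B × Bᵐᵒᵖ), ∀ x : L ⊗[k] A,
        E (LinearMap.baseChange L s x) = (MulOpposite.unop (E x).2, MulOpposite.op (E x).1) := by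
  classical
  haveI := isSemisimpleRing_baseChange (k := k) A hsep L
  set sb := LinearMap.baseChange L s
  have hsmulb : ∀ x y : (L ⊗[k] A), sb (x * y) = sb y * sb x := baseChange_mul hsmul
  have hssb : ∀ x : (L ⊗[k] A), sb (sb x) = x := baseChange_baseChange hss
  have hs1b : sb 1 = 1 := by simp [sb, Algebra.TensorProduct.one_def, hs1]
  have hcom : ∀ x : (L ⊗[k] A), x * e = e * x := Subalgebra.mem_center_iff.mp hecen
  -- central elements fixed by `sb` are scalars
  have hfixb : ∀ x ∈ Subalgebra.center L (L ⊗[k] A), sb x = x → ∃ l : L, algebraMap L (L ⊗[k] A) l = x := by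
    intro x hx hsx
    let b := Module.Basis.ofVectorSpace k L
    let c := TensorProduct.equivFinsuppOfBasisLeft (N := A) b x
    have hsc' : ∀ (y : (L ⊗[k] A)) i, TensorProduct.equivFinsuppOfBasisLeft b (sb y) i =
        s (TensorProduct.equivFinsuppOfBasisLeft b y i) := by
      intro y i
      induction y using TensorProduct.induction_on with
      | zero => simp
      | add p q hp hq => simp [hp, hq]
      | tmul l a => simp [sb]
    have hc : ∀ i, ∃ q : k, algebraMap k A q = c i := fun i => by
      refine hfix _ (Subalgebra.mem_center_iff.mpr fun a => ?_) (by rw [← hsc' x i, hsx])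
      have h := congrArg (fun y => TensorProduct.equivFinsuppOfBasisLeft b y i)
        (Subalgebra.mem_center_iff.mp hx ((1 : L) ⊗ₜ[k] a))
      exact ((repr_smul_eq b a x i).2.symm.trans h).trans (repr_smul_eq b a x i).1
    choose q hq using hc
    refine ⟨∑ i ∈ c.support, q i • b i, ?_⟩
    apply (TensorProduct.equivFinsuppOfBasisLeft (N := A) b).injective
    have e1 : algebraMap L (L ⊗[k] A) (∑ i ∈ c.support, q i • b i) = ∑ i ∈ c.support, b i ⊗ₜ[k] c i := by
      rw [map_sum]
      refine Finset.sum_congr rfl fun i _ => ?_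
      rw [Algebra.TensorProduct.algebraMap_apply, Algebra.algebraMap_self_apply, TensorProduct.smul_tmul, ← Algebra.algebraMap_eq_smul_one,
        hq i]
    rw [e1]
    ext i
    simp [c, Finsupp.single_apply]
    exact fun h => h.symm
  -- the centre is spanned by the two idempotents
  have hspan : ∀ z ∈ Subalgebra.center L (L ⊗[k] A), ∃ α β : L, z = α • e + β • (1 - e) := by
    have h2 : finrank L (Subalgebra.center L (L ⊗[k] A)) = 2 := by
      rw [finrank_center_baseChange, finrank_center_eq_two hs1 hsmul hss hsc hfix]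
    let v : Fin 2 → Subalgebra.center L (L ⊗[k] A) := ![⟨e, hecen⟩, ⟨1 - e, sub_mem (one_mem _) hecen⟩]
    have hli : LinearIndependent L v := by
      rw [LinearIndependent.pair_iff]
      intro a b hab
      have h : a • e + b • (1 - e) = 0 := by simpa using congrArg Subtype.val hab
      have h1 := congrArg (· * e) h
      simp only [add_mul, smul_mul_assoc, he.eq, he.one_sub_mul_self, smul_zero, add_zero, zero_mul] at h1
      have ha : a = 0 := by
        by_contra ha; exact he0 ((smul_eq_zero.mp h1).resolve_left ha)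
      subst ha
      rw [zero_smul, zero_add] at h
      refine ⟨rfl, ?_⟩
      by_contra hb
      exact he1 (sub_eq_zero.mp ((smul_eq_zero.mp h).resolve_left hb)).symm
    intro z hz
    have htop := hli.span_eq_top_of_card_eq_finrank (by rw [h2]; rfl)
    have hzm : (⟨z, hz⟩ : Subalgebra.center L (L ⊗[k] A)) ∈ Submodule.span L (Set.range v) := by
      rw [htop]; trivial
    obtain ⟨c, hc⟩ := (Submodule.mem_span_range_iff_exists_fun L).mp hzm
    refine ⟨c 0, c 1, ?_⟩
    have := congrArg Subtype.val hc
    simp [v, Fin.sum_univ_two] at this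
    exact this.symm
  have hscen : sb e ∈ Subalgebra.center L (L ⊗[k] A) := antihom_mem_center hsmulb hssb hecen
  have hne : sb e ≠ e := fun h => by
    obtain ⟨l, hl⟩ := hfixb e hecen h
    haveI : Nontrivial (L ⊗[k] A) := nontrivial_of_ne e 0 he0
    have hll : l * l = l := (algebraMap L (L ⊗[k] A)).injective (by rw [map_mul, hl, he.eq])
    rcases eq_or_ne l 0 with rfl | hl0
    · exact he0 (by rw [← hl, map_zero])
    · exact he1 (by rw [← hl, mul_right_cancel₀ hl0 (hll.trans (one_mul l).symm), map_one])
  have hse : sb e = 1 - e := by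
    obtain ⟨α, β, h⟩ := hspan _ hscen
    have hidem : sb e * sb e = sb e := by rw [← hsmulb, he.eq]
    have hα : (α * α - α) • e = 0 ∧ (β * β - β) • (1 - e) = 0 := by
      rw [h] at hidem
      simp only [add_mul, mul_add, smul_mul_smul_comm, he.eq, he.one_sub.eq, he.mul_one_sub_self,
        he.one_sub_mul_self, smul_zero, add_zero, zero_add] at hidem
      constructor
      · have := congrArg (· * e) hidem
        simp only [add_mul, smul_mul_assoc, he.eq, he.one_sub_mul_self, smul_zero, add_zero] at this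
        rw [sub_smul, this, sub_self]
      · have := congrArg (· * (1 - e)) hidem
        simp only [add_mul, smul_mul_assoc, he.one_sub.eq, he.mul_one_sub_self, smul_zero, zero_add] at this
        rw [sub_smul, this, sub_self]
    have h1e : (1 : (L ⊗[k] A)) - e ≠ 0 := sub_ne_zero.mpr (Ne.symm he1)
    have ha : α = 0 ∨ α = 1 := by
      have h0 := (smul_eq_zero.mp hα.1).resolve_right he0
      rcases eq_or_ne α 0 with ha | ha
      · exact .inl ha
      · exact .inr (mul_right_cancel₀ ha ((sub_eq_zero.mp h0).trans (one_mul α).symm))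
    have hb : β = 0 ∨ β = 1 := by
      have h0 := (smul_eq_zero.mp hα.2).resolve_right h1e
      rcases eq_or_ne β 0 with ha | ha
      · exact .inl ha
      · exact .inr (mul_right_cancel₀ ha ((sub_eq_zero.mp h0).trans (one_mul β).symm))
    rcases ha with rfl | rfl <;> rcases hb with rfl | rfl <;>
      simp only [zero_smul, one_smul, add_zero, zero_add, add_sub_cancel] at h
    · exact absurd (by rw [← hssb e, h, map_zero]) he0
    · exact h
    · exact absurd h hne
    · exact absurd (by rw [← hssb e, h, hs1b]) he1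
  -- the corner
  let I : Ideal (L ⊗[k] A) := Ideal.span {1 - e}
  have hI : ∀ x, x ∈ I ↔ x * e = 0 := fun x => by
    rw [Ideal.mem_span_singleton']
    constructor
    · rintro ⟨a, rfl⟩; rw [mul_assoc, he.one_sub_mul_self, mul_zero]
    · intro h; exact ⟨x, by rw [mul_sub, mul_one, h, sub_zero]⟩
  haveI : I.IsTwoSided := ⟨fun b hab => (hI _).mpr (by rw [mul_assoc, hcom b, ← mul_assoc, (hI _).mp hab, zero_mul])⟩
  let π : (L ⊗[k] A) →ₐ[L] (L ⊗[k] A) ⧸ I := Ideal.Quotient.mkₐ L I
  have hπ : ∀ x, π x = 0 ↔ x * e = 0 := fun x => Ideal.Quotient.eq_zero_iff_mem.trans (hI x)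
  have hπe : π e = 1 := by
    rw [← map_one π, ← sub_eq_zero, ← map_sub, hπ, sub_mul, one_mul, he.eq, sub_self]
  have hπs : Function.Surjective π := Ideal.Quotient.mk_surjective
  haveI : Nontrivial ((L ⊗[k] A) ⧸ I) := nontrivial_of_ne (π e) 0 (fun h => he0 (by simpa [he.eq] using (hπ e).mp h))
  haveI : IsSemisimpleRing ((L ⊗[k] A) ⧸ I) := π.toRingHom.isSemisimpleRing_of_surjective hπs
  have hcentral : ∀ z ∈ Subalgebra.center L ((L ⊗[k] A) ⧸ I), ∃ l : L, algebraMap L ((L ⊗[k] A) ⧸ I) l = z := by
    intro z hz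
    obtain ⟨x, rfl⟩ := hπs z
    have hxc : e * x ∈ Subalgebra.center L (L ⊗[k] A) := Subalgebra.mem_center_iff.mpr fun r => by
      have h := (hπ (r * x - x * r)).mp
        (by rw [map_sub, map_mul, map_mul, Subalgebra.mem_center_iff.mp hz (π r), sub_self])
      rw [sub_mul, sub_eq_zero, hcom, hcom, ← mul_assoc, ← mul_assoc, ← hcom r, mul_assoc] at h
      exact h
    obtain ⟨α, β, h⟩ := hspan _ hxc
    refine ⟨α, ?_⟩
    have := congrArg π h
    rw [map_mul, hπe, one_mul, map_add, map_smul, map_smul, map_sub, hπe, map_one, sub_self, smul_zero,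
      add_zero] at this
    rw [this, Algebra.algebraMap_eq_smul_one]
  haveI : Algebra.IsCentral L ((L ⊗[k] A) ⧸ I) := ⟨fun z hz => by obtain ⟨l, hl⟩ := hcentral z hz; exact ⟨l, hl⟩⟩
  haveI : IsSimpleRing ((L ⊗[k] A) ⧸ I) := isSimpleRing_of_isSemisimpleRing_of_center hcentral
  haveI : FiniteDimensional L ((L ⊗[k] A) ⧸ I) := Module.Finite.of_surjective π.toLinearMap hπs
  let ψ : (L ⊗[k] A) →ₐ[L] ((L ⊗[k] A) ⧸ I)ᵐᵒᵖ :=
    AlgHom.ofLinearMap ((MulOpposite.opLinearEquiv L).toLinearMap ∘ₗ π.toLinearMap ∘ₗ sb)
      (by simp [hs1b]) (fun x y => by simp [hsmulb])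
  have hψ : ∀ x, ψ x = MulOpposite.op (π (sb x)) := fun _ => rfl
  refine ⟨(L ⊗[k] A) ⧸ I, inferInstance, inferInstance, inferInstance, inferInstance, inferInstance,
    AlgEquiv.ofBijective (π.prod ψ) ⟨?_, ?_⟩, fun x => ?_⟩
  · rw [injective_iff_map_eq_zero]
    intro x hx
    rw [AlgHom.prod_apply, Prod.mk_eq_zero, hψ, MulOpposite.op_eq_zero_iff, hπ, hπ] at hx
    have h2 := congrArg sb hx.2
    rw [hsmulb, hse, hssb, map_zero, sub_mul, one_mul, sub_eq_zero] at h2
    rw [h2, ← hcom, hx.1]
  · rintro ⟨p, q⟩
    obtain ⟨a, rfl⟩ := hπs p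
    obtain ⟨b, hb⟩ := hπs q.unop
    refine ⟨e * a + (1 - e) * sb b, Prod.ext ?_ ?_⟩
    · show π _ = π a
      rw [map_add, map_mul, map_mul, hπe, map_sub, hπe, map_one, sub_self, one_mul, zero_mul, add_zero]
    · show ψ _ = q
      have hs' : sb (1 - e) = e := by rw [map_sub, hs1b, hse, sub_sub_cancel]
      rw [hψ, map_add, hsmulb, hsmulb, hse, hs', hssb, map_add, map_mul, map_mul, hπe, map_sub, hπe,
        map_one, sub_self, mul_zero, zero_add, mul_one, hb, MulOpposite.op_unop]
  · simp [hψ, hssb]

theorem exists_idempotent_of_isSepClosed [IsSepClosed L] [FiniteDimensional k A] [IsSemisimpleRing A]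
    (hsep : ∀ c : A, c ∈ Subalgebra.center k A → IsSeparable k c)
    (h2 : finrank k (Subalgebra.center k A) = 2) :
    ∃ e : L ⊗[k] A, e ∈ Subalgebra.center L (L ⊗[k] A) ∧ IsIdempotentElem e ∧ e ≠ 0 ∧ e ≠ 1 := by
  classical
  let Z := Subalgebra.center k A
  letI : CommRing Z := { Z.toRing with mul_comm := fun x y => Subtype.ext (Subalgebra.mem_center_iff.mp y.2 x) }
  haveI : IsReduced Z := isReduced_iff_pow_one_lt 2 one_lt_two |>.mpr fun z hz =>
    Subtype.ext (eq_zero_of_mem_center_of_mul_self z.2 (by simpa [pow_two] using congrArg Subtype.val hz))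
  haveI : IsArtinianRing Z := IsArtinianRing.of_finite k Z
  haveI : Algebra.FormallyUnramified k Z := by
    have hsepZ : ∀ z : Z, IsSeparable k z := fun z => by
      have := hsep z.1 z.2
      unfold IsSeparable at this ⊢
      rwa [← minpoly.algHom_eq Z.val Subtype.val_injective z]
    let e : Z ≃ₐ[k] ((I : MaximalSpectrum Z) → Z ⧸ I.asIdeal) := (IsArtinianRing.equivPi Z).restrictScalars k
    haveI : ∀ I : MaximalSpectrum Z, Algebra.FormallyUnramified k (Z ⧸ I.asIdeal) := fun I => by
      letI : Field (Z ⧸ I.asIdeal) := Ideal.Quotient.field I.asIdeal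
      haveI : Algebra.IsSeparable k (Z ⧸ I.asIdeal) := ⟨fun y => by
        obtain ⟨z, rfl⟩ := Ideal.Quotient.mk_surjective y
        have := hsepZ z
        unfold IsSeparable at this ⊢
        refine this.of_dvd (minpoly.dvd k _ ?_)
        have := Polynomial.aeval_algHom_apply (Ideal.Quotient.mkₐ k I.asIdeal) z (minpoly k z)
        rw [minpoly.aeval, map_zero] at this
        exact this⟩
      exact Algebra.FormallyUnramified.of_isSeparable k _
    haveI : Fintype (MaximalSpectrum Z) := Fintype.ofFinite _
    exact Algebra.FormallyUnramified.of_equiv e.symm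
  let C := L ⊗[k] Z
  haveI : IsReduced C := Algebra.FormallyUnramified.isReduced_of_field L C
  haveI : IsArtinianRing C := IsArtinianRing.of_finite L C
  have hC : finrank L C = 2 := by rw [Module.finrank_baseChange]; exact h2
  haveI : Nontrivial C := Module.nontrivial_of_finrank_eq_succ hC
  obtain ⟨e, he, he0, he1⟩ : ∃ e : C, IsIdempotentElem e ∧ e ≠ 0 ∧ e ≠ 1 := by
    by_cases hsub : Subsingleton (MaximalSpectrum C)
    · exfalso
      haveI : IsLocalRing C := IsLocalRing.of_unique_max_ideal (by
        obtain ⟨M, hM⟩ := Ideal.exists_maximal C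
        exact ⟨M, hM, fun N hN => congrArg MaximalSpectrum.asIdeal
          (Subsingleton.elim (⟨N, hN⟩ : MaximalSpectrum C) ⟨M, hM⟩)⟩)
      letI : Field C := (IsArtinianRing.isField_of_isReduced_of_isLocalRing C).toField
      haveI : Algebra.IsSeparable L C := Algebra.FormallyUnramified.isSeparable L C
      have := (LinearEquiv.ofBijective (Algebra.linearMap L C)
        ⟨(algebraMap L C).injective, IsSepClosed.algebraMap_surjective L C⟩).finrank_eq
      rw [hC, Module.finrank_self] at this
      omega
    · obtain ⟨I, J, hIJ⟩ := not_subsingleton_iff_nontrivial.mp hsub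
      let f := IsArtinianRing.equivPi C
      letI : ∀ M : MaximalSpectrum C, Field (C ⧸ M.asIdeal) := fun M => Ideal.Quotient.field M.asIdeal
      refine ⟨f.symm (Pi.single I 1), ?_, fun h => ?_, fun h => ?_⟩
      · rw [IsIdempotentElem, ← map_mul, ← Pi.single_mul, one_mul]
      · have := congrFun (f.symm.injective (h.trans (map_zero f.symm).symm)) I
        simp at this
      · have := congrFun (f.symm.injective (h.trans (map_one f.symm).symm)) J
        simp [Pi.single_eq_of_ne (Ne.symm hIJ)] at this
  let φ := Algebra.TensorProduct.map (AlgHom.id L L) Z.val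
  have hinj : Function.Injective φ :=
    Module.Flat.lTensor_preserves_injective_linearMap (M := L) Z.val.toLinearMap Subtype.val_injective
  exact ⟨φ e, (mem_center_baseChange_iff _).mpr ⟨e, rfl⟩, he.map φ,
    fun h => he0 (hinj (h.trans (map_zero φ).symm)), fun h => he1 (hinj (h.trans (map_one φ).symm))⟩

end Groth.Agent.Brauer25
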