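import Groth.Agent.Lib.Brauer25.Basic
import Mathlib.RingTheory.Unramified.Field
import Mathlib.RingTheory.TensorProduct.Pi
import Mathlib.RingTheory.SimpleModule.WedderburnArtin
import Mathlib.RingTheory.Artinian.Algebra

/-!
Semisimplicity of base changes of semisimple algebras with separable centre; centres of base changes.
-/

namespace Groth.Agent.Brauer25

open scoped TensorProduct

universe u v w z

variable {k : Type u} [Field k]

theorem isSemisimpleRing_of_algEquiv {R : Type v} [Ring R] {R' : Type w} [Ring R'] (e : R ≃+* R')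
    [IsSemisimpleRing R] : IsSemisimpleRing R' :=
  e.toRingHom.isSemisimpleRing_of_surjective e.surjective

/-- A reduced finite dimensional commutative `Z`-algebra tensored with a central simple algebra. -/
theorem isSemisimpleRing_tensor_reduced {Z : Type u} [Field Z] (A : Type v) [Ring A] [Algebra Z A]
    [Algebra.IsCentral Z A] [IsSimpleRing A] [FiniteDimensional Z A]
    (C : Type w) [CommRing C] [Algebra Z C] [IsArtinianRing C] [IsReduced C] :
    IsSemisimpleRing (C ⊗[Z] A) := by
  classical
  let e : C ≃ₐ[Z] ((I : MaximalSpectrum C) → C ⧸ I.asIdeal) := (IsArtinianRing.equivPi C).restrictScalars Z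
  haveI : Fintype (MaximalSpectrum C) := Fintype.ofFinite _
  have hI : ∀ I : MaximalSpectrum C, IsSemisimpleRing (A ⊗[Z] (C ⧸ I.asIdeal)) := fun I => by
    letI : Field (C ⧸ I.asIdeal) := Ideal.Quotient.field I.asIdeal
    haveI := CSAlg.isSimpleRing_tensor' (k := Z) (C ⧸ I.asIdeal) A
    haveI : FiniteDimensional (C ⧸ I.asIdeal) ((C ⧸ I.asIdeal) ⊗[Z] A) := inferInstance
    haveI : IsArtinianRing ((C ⧸ I.asIdeal) ⊗[Z] A) :=
      IsArtinianRing.of_finite (C ⧸ I.asIdeal) _
    exact isSemisimpleRing_of_algEquiv (Algebra.TensorProduct.comm Z (C ⧸ I.asIdeal) A).toRingEquiv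
  let f : C ⊗[Z] A ≃ₐ[Z] ((I : MaximalSpectrum C) → A ⊗[Z] (C ⧸ I.asIdeal)) :=
    ((Algebra.TensorProduct.congr e AlgEquiv.refl).trans (Algebra.TensorProduct.comm Z _ A)).trans
      (Algebra.TensorProduct.piRight Z Z A fun I : MaximalSpectrum C => C ⧸ I.asIdeal)
  exact isSemisimpleRing_of_algEquiv f.symm.toRingEquiv

/-- Simple algebras with separable centre stay semisimple after base change. -/
theorem isSemisimpleRing_baseChange_of_simple (A : Type v) [Ring A] [Algebra k A] [IsSimpleRing A]
    [FiniteDimensional k A] (hsep : ∀ c : A, c ∈ Subalgebra.center k A → IsSeparable k c)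
    (k' : Type w) [Field k'] [Algebra k k'] : IsSemisimpleRing (k' ⊗[k] A) := by
  let Zs := Subring.center A
  letI : Field Zs := (IsSimpleRing.isField_center A).toField
  letI : Algebra Zs A :=
    (Subring.center A).subtype.toAlgebra' fun c x => (Subring.mem_center_iff.mp c.2 x).symm
  haveI : Algebra.IsCentral Zs A :=
    ⟨fun x hx => ⟨⟨x, Subring.mem_center_iff.mpr (Subalgebra.mem_center_iff.mp hx)⟩, rfl⟩⟩
  letI : Algebra k Zs :=
    ((algebraMap k A).codRestrict (Subring.center A) fun c =>
      Subring.mem_center_iff.mpr fun x => (Algebra.commutes c x).symm).toAlgebra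
  haveI : IsScalarTower k Zs A := IsScalarTower.of_algebraMap_eq fun _ => rfl
  haveI : FiniteDimensional Zs A := Module.Finite.of_restrictScalars_finite k _ _
  let val : Zs →ₐ[k] A := IsScalarTower.toAlgHom k Zs A
  have hval : Function.Injective val := fun x y h => Subtype.ext h
  have hcomm : ∀ (c : Zs) (x : A), x * val c = val c * x := fun c x => Subring.mem_center_iff.mp c.2 x
  haveI : FiniteDimensional k Zs := Module.Finite.of_injective val.toLinearMap hval
  haveI : Algebra.IsSeparable k Zs :=
    ⟨fun c => by
      have := hsep (val c) (Subalgebra.mem_center_iff.mpr (hcomm c))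
      unfold IsSeparable at this ⊢
      rwa [← minpoly.algHom_eq val hval c]⟩
  haveI : Algebra.FormallyUnramified k Zs := Algebra.FormallyUnramified.of_isSeparable k Zs
  let C := k' ⊗[k] Zs
  haveI : IsReduced C := Algebra.FormallyUnramified.isReduced_of_field k' C
  haveI : IsArtinianRing C := IsArtinianRing.of_finite k' C
  letI : Algebra Zs C := (Algebra.TensorProduct.includeRight : Zs →ₐ[k] C).toRingHom.toAlgebra
  haveI : IsScalarTower k Zs C :=
    IsScalarTower.of_algebraMap_eq fun x => ((Algebra.TensorProduct.includeRight : Zs →ₐ[k] C).commutes x).symm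
  haveI := isSemisimpleRing_tensor_reduced (Z := Zs) A C
  let g : k' ⊗[k] A →ₐ[k] C ⊗[Zs] A :=
    Algebra.TensorProduct.lift
      (((Algebra.TensorProduct.includeLeft : C →ₐ[Zs] C ⊗[Zs] A).restrictScalars k).comp
        (Algebra.TensorProduct.includeLeft : k' →ₐ[k] C))
      ((Algebra.TensorProduct.includeRight : A →ₐ[Zs] C ⊗[Zs] A).restrictScalars k)
      (fun x y => by
        simp [Commute, SemiconjBy])
  have hsurj : Function.Surjective g := by
    intro t
    induction t using TensorProduct.induction_on with
    | zero => exact ⟨0, map_zero _⟩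
    | add x y hx hy =>
      obtain ⟨a, rfl⟩ := hx
      obtain ⟨b, rfl⟩ := hy
      exact ⟨a + b, map_add _ _ _⟩
    | tmul c a =>
      induction c using TensorProduct.induction_on with
      | zero => exact ⟨0, by simp⟩
      | add x y hx hy =>
        obtain ⟨p, hp⟩ := hx
        obtain ⟨q, hq⟩ := hy
        exact ⟨p + q, by rw [map_add, hp, hq, TensorProduct.add_tmul]⟩
      | tmul l z =>
        refine ⟨l ⊗ₜ[k] ((z : A) * a), ?_⟩
        have e : (z • a : A) = (z : A) * a := Algebra.smul_def z a
        have h1 : l ⊗ₜ[k] z = z • (l ⊗ₜ[k] (1 : Zs)) := by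
          rw [Algebra.smul_def]
          show _ = (1 : k') ⊗ₜ[k] z * l ⊗ₜ[k] (1 : Zs)
          simp
        simp only [g, Algebra.TensorProduct.lift_tmul, AlgHom.comp_apply, AlgHom.coe_restrictScalars',
          Algebra.TensorProduct.includeLeft_apply, Algebra.TensorProduct.includeRight_apply,
          Algebra.TensorProduct.tmul_mul_tmul, one_mul, mul_one]
        show ((l ⊗ₜ[k] (1 : Zs) : C)) ⊗ₜ[Zs] ((z : A) * a) = _
        rw [h1, TensorProduct.smul_tmul, e]
  have hinj : Function.Injective g := by
    have h1 : Module.finrank k (C ⊗[Zs] A) = Module.finrank k Zs * Module.finrank Zs (C ⊗[Zs] A) :=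
      (Module.finrank_mul_finrank k Zs (C ⊗[Zs] A)).symm
    let h : C ⊗[Zs] A →ₐ[k] k' ⊗[k] A :=
      letI : Algebra Zs (k' ⊗[k] A) :=
        ((Algebra.TensorProduct.includeRight : A →ₐ[k] k' ⊗[k] A).toRingHom.comp val.toRingHom).toAlgebra'
          fun c x => by
            induction x using TensorProduct.induction_on with
            | zero => simp
            | add p q hp hq => simp only [mul_add, add_mul, hp, hq]
            | tmul l a => simp [(hcomm c a)]
      haveI : IsScalarTower k Zs (k' ⊗[k] A) :=
        IsScalarTower.of_algebraMap_eq fun x => by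
          show _ = (1 : k') ⊗ₜ[k] (algebraMap k A x)
          rw [Algebra.TensorProduct.algebraMap_apply, Algebra.algebraMap_eq_smul_one,
            Algebra.algebraMap_eq_smul_one (A := A), TensorProduct.smul_tmul]
      (Algebra.TensorProduct.lift
        ({ (Algebra.TensorProduct.map (AlgHom.id k k') val).toRingHom with
            commutes' := fun c => by
              show Algebra.TensorProduct.map (AlgHom.id k k') val ((1 : k') ⊗ₜ[k] c) = _
              simp [Algebra.TensorProduct.map_tmul]
              rfl } : C →ₐ[Zs] k' ⊗[k] A)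
        ({ (Algebra.TensorProduct.includeRight : A →ₐ[k] k' ⊗[k] A).toRingHom with
            commutes' := fun _ => rfl } : A →ₐ[Zs] k' ⊗[k] A)
        (fun x y => by
          induction x using TensorProduct.induction_on with
          | zero => simp
          | add p q hp hq => rw [map_add]; exact hp.add_left hq
          | tmul l c =>
            show Commute (Algebra.TensorProduct.map (AlgHom.id k k') val (l ⊗ₜ[k] c)) ((1 : k') ⊗ₜ[k] y)
            simp [Commute, SemiconjBy, (hcomm c y)])).restrictScalars k
    have hh : ∀ x, h (g x) = x := by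
      intro x
      induction x using TensorProduct.induction_on with
      | zero => simp
      | add p q hp hq => rw [map_add, map_add, hp, hq]
      | tmul l a =>
        simp [g, h]
        show Algebra.TensorProduct.map (AlgHom.id k k') val (l ⊗ₜ[k] (1 : Zs)) * (1 : k') ⊗ₜ[k] a = _
        simp
    exact Function.LeftInverse.injective hh
  exact isSemisimpleRing_of_algEquiv (AlgEquiv.ofBijective g ⟨hinj, hsurj⟩).symm.toRingEquiv

theorem isSemisimpleRing_baseChange (A : Type v) [Ring A] [Algebra k A] [FiniteDimensional k A]
    [IsSemisimpleRing A] (hsep : ∀ c : A, c ∈ Subalgebra.center k A → IsSeparable k c)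
    (k' : Type w) [Field k'] [Algebra k k'] : IsSemisimpleRing (k' ⊗[k] A) := by
  classical
  obtain ⟨n, D, d, _, _, _, hd, ⟨e⟩⟩ := IsSemisimpleRing.exists_algEquiv_pi_matrix_divisionRing_finite k A
  have hi : ∀ i, IsSemisimpleRing (k' ⊗[k] Matrix (Fin (d i)) (Fin (d i)) (D i)) := by
    intro i
    haveI : NeZero (d i) := hd i
    refine isSemisimpleRing_baseChange_of_simple _ (fun c hc => ?_) k'
    have hcen : e.symm (Pi.single i c) ∈ Subalgebra.center k A := Subalgebra.mem_center_iff.mpr fun a => by
      apply e.injective
      rw [map_mul, map_mul, e.apply_symm_apply]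
      funext j
      rcases eq_or_ne j i with rfl | hj
      · simp [Subalgebra.mem_center_iff.mp hc]
      · simp [hj]
    have hp := hsep _ hcen
    unfold IsSeparable at hp ⊢
    refine hp.of_dvd (minpoly.dvd k c ?_)
    have h1 := minpoly.aeval k (e.symm (Pi.single i c))
    have h2 := congrArg (fun x => e x i) h1
    simp only [map_zero, Pi.zero_apply] at h2
    rw [← h2]
    have h3 := Polynomial.aeval_algHom_apply ((Pi.evalAlgHom k _ i).comp e.toAlgHom)
      (e.symm (Pi.single i c)) (minpoly k (e.symm (Pi.single i c)))
    simpa using h3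
  let f : k' ⊗[k] A ≃ₐ[k] (i : Fin n) → k' ⊗[k] Matrix (Fin (d i)) (Fin (d i)) (D i) :=
    (Algebra.TensorProduct.congr AlgEquiv.refl e).trans (Algebra.TensorProduct.piRight k k k' _)
  exact isSemisimpleRing_of_algEquiv f.symm.toRingEquiv

/-- Components with respect to a basis of the left factor. -/
theorem repr_smul_eq {L : Type w} [CommRing L] [Algebra k L] {A : Type v} [Ring A] [Algebra k A] {ι : Type z} [DecidableEq ι]
    (b : Module.Basis ι k L) (a : A) (x : L ⊗[k] A) (i : ι) :
    TensorProduct.equivFinsuppOfBasisLeft b (x * ((1 : L) ⊗ₜ[k] a)) i =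
        TensorProduct.equivFinsuppOfBasisLeft b x i * a ∧
      TensorProduct.equivFinsuppOfBasisLeft b (((1 : L) ⊗ₜ[k] a) * x) i =
        a * TensorProduct.equivFinsuppOfBasisLeft b x i := by
  induction x using TensorProduct.induction_on with
  | zero => simp
  | tmul l c => simp [TensorProduct.equivFinsuppOfBasisLeft_apply_tmul_apply]
  | add p q hp hq => simp [add_mul, mul_add, hp.1, hp.2, hq.1, hq.2]

/-- The centre of a base change is the base change of the centre. -/
theorem mem_center_baseChange_iff {L : Type w} [Field L] [Algebra k L] {A : Type v} [Ring A] [Algebra k A]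
    (x : L ⊗[k] A) :
    x ∈ Subalgebra.center L (L ⊗[k] A) ↔
      x ∈ (Algebra.TensorProduct.map (AlgHom.id L L) (Subalgebra.center k A).val).range := by
  classical
  constructor
  · intro hx
    let b := Module.Basis.ofVectorSpace k L
    let c := TensorProduct.equivFinsuppOfBasisLeft (N := A) b x
    have hc : ∀ i, c i ∈ Subalgebra.center k A := fun i => Subalgebra.mem_center_iff.mpr fun a => by
      have h := congrArg (fun y => TensorProduct.equivFinsuppOfBasisLeft b y i)
        (Subalgebra.mem_center_iff.mp hx ((1 : L) ⊗ₜ[k] a))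
      exact ((repr_smul_eq b a x i).2.symm.trans h).trans (repr_smul_eq b a x i).1
    refine ⟨∑ i ∈ c.support, b i ⊗ₜ[k] (⟨c i, hc i⟩ : Subalgebra.center k A), ?_⟩
    show Algebra.TensorProduct.map _ _ _ = x
    rw [map_sum]
    simp only [Algebra.TensorProduct.map_tmul, AlgHom.coe_id, id_eq, Subalgebra.coe_val]
    apply (TensorProduct.equivFinsuppOfBasisLeft (N := A) b).injective
    ext i
    simp [c, Finsupp.single_apply]
    exact fun h => h.symm
  · rintro ⟨y, rfl⟩
    refine Subalgebra.mem_center_iff.mpr fun x => ?_
    induction y using TensorProduct.induction_on with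
    | zero => simp
    | add p q hp hq =>
      show x * Algebra.TensorProduct.map _ _ (p + q) = Algebra.TensorProduct.map _ _ (p + q) * x
      rw [map_add, mul_add, add_mul]
      exact congrArg₂ (· + ·) hp hq
    | tmul l c =>
      induction x using TensorProduct.induction_on with
      | zero => simp
      | add p q hp hq => simp only [mul_add, add_mul, hp, hq]
      | tmul l' a => simp [mul_comm l l', Subalgebra.mem_center_iff.mp c.2 a]

end Groth.Agent.Brauer25
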